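import Mathlib

/-!
# Subobjects of group objects stable under the operations
-/

set_option autoImplicit false

universe v u

open CategoryTheory MonoidalCategory CartesianMonoidalCategory MonObj GrpObj

namespace Groth.Agent.GrpScheme.SubgroupObj

variable {C : Type u} [Category.{v} C] [CartesianMonoidalCategory C]

/-- A monomorphism into a group object stable under multiplication, unit and inverse is a subgroup. -/
theorem exists_grpObj {G H : C} [GrpObj G] (incl : H ⟶ G) [Mono incl]
    (hm : ∃ m : H ⊗ H ⟶ H, m ≫ incl = (incl ⊗ₘ incl) ≫ μ[G])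
    (ho : ∃ o : 𝟙_ C ⟶ H, o ≫ incl = η[G]) (hi : ∃ i : H ⟶ H, i ≫ incl = incl ≫ ι[G]) :
    ∃ _ : GrpObj H, IsMonHom incl := by
  obtain ⟨m, hm⟩ := hm
  obtain ⟨o, ho⟩ := ho
  obtain ⟨i, hi⟩ := hi
  let g : GrpObj H :=
  { one := o
    mul := m
    inv := i
    one_mul := by
      rw [← cancel_mono incl, Category.assoc, hm, ← Category.assoc,
        ← MonoidalCategory.tensorHom_id, MonoidalCategory.tensorHom_comp_tensorHom,
        ho, Category.id_comp, MonoidalCategory.tensorHom_def,
        Category.assoc, ← MonoidalCategory.whisker_exchange_assoc, MonObj.one_mul]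
      simp
    mul_one := by
      rw [← cancel_mono incl, Category.assoc, hm, ← Category.assoc,
        ← MonoidalCategory.id_tensorHom, MonoidalCategory.tensorHom_comp_tensorHom,
        ho, Category.id_comp, MonoidalCategory.tensorHom_def',
        Category.assoc, MonoidalCategory.whisker_exchange_assoc, MonObj.mul_one]
      simp
    mul_assoc := by
      rw [← cancel_mono incl]
      simp only [Category.assoc, hm]
      rw [← MonoidalCategory.tensorHom_id, ← MonoidalCategory.id_tensorHom,
        MonoidalCategory.tensorHom_comp_tensorHom_assoc,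
        MonoidalCategory.tensorHom_comp_tensorHom_assoc, hm, Category.id_comp]
      have h := _root_.mul_assoc (fst (H ⊗ H) H ≫ fst H H ≫ incl)
        (fst (H ⊗ H) H ≫ snd H H ≫ incl) (snd (H ⊗ H) H ≫ incl)
      simp only [Hom.mul_def] at h
      convert h using 1
      · congr 1
        refine CartesianMonoidalCategory.hom_ext _ _ ?_ (by simp)
        simp only [tensorHom_fst, lift_fst, ← Category.assoc]
        congr 1
        exact CartesianMonoidalCategory.hom_ext _ _ (by simp) (by simp)
      · rw [← Category.assoc]
        congr 1
        refine CartesianMonoidalCategory.hom_ext _ _ (by simp) ?_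
        simp only [tensorHom_snd, lift_snd, Category.assoc]
        rw [← Category.assoc (snd _ _), ← Category.assoc, ← Category.assoc]
        congr 1
        exact CartesianMonoidalCategory.hom_ext _ _ (by simp) (by simp)
    left_inv := by
      rw [← cancel_mono incl, Category.assoc, Category.assoc]
      show _ ≫ m ≫ incl = _ ≫ o ≫ incl
      rw [hm, ho, lift_map_assoc, hi, Category.id_comp]
      have := inv_mul_cancel incl
      rwa [Hom.mul_def, Hom.inv_def, Hom.one_def] at this
    right_inv := by
      rw [← cancel_mono incl, Category.assoc, Category.assoc]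
      show _ ≫ m ≫ incl = _ ≫ o ≫ incl
      rw [hm, ho, lift_map_assoc, hi, Category.id_comp]
      have := mul_inv_cancel incl
      rwa [Hom.mul_def, Hom.inv_def, Hom.one_def] at this }
  exact ⟨g, ⟨ho, hm⟩⟩

end Groth.Agent.GrpScheme.SubgroupObj
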