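import Groth.Agent.GrpScheme.Component
import Groth.Agent.Thick.FlatCancel
import Groth.Agent.AGFHull.Reduced

/-!
# Flatness of homomorphisms of group schemes over a field

A homomorphism of group schemes over a field whose target is reduced and whose image contains a
maximal point is flat. No finiteness is needed.
-/

set_option autoImplicit false

universe u

open CategoryTheory MonoidalCategory CartesianMonoidalCategory MonObj GrpObj AlgebraicGeometry

namespace Groth.Agent.GrpScheme.HomFlat

/-- The local ring of a reduced scheme at a maximal point is a field. -/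
lemma isField_stalk {X : Scheme.{u}} [IsReduced X] {x : X} (hx : Component.IsMaxGen x) :
    IsField (X.presheaf.stalk x) := by
  have hsub : Subsingleton (PrimeSpectrum (X.presheaf.stalk x)) := ⟨fun p q => by
    have key : ∀ p : Spec (X.presheaf.stalk x), X.fromSpecStalk x p = x := fun p => by
      have : X.fromSpecStalk x p ∈ Set.range (X.fromSpecStalk x) := ⟨p, rfl⟩
      rw [Scheme.range_fromSpecStalk] at this
      exact hx _ this
    exact (X.fromSpecStalk x).isEmbedding.injective ((key p).trans (key q).symm)⟩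
  have hbot : IsLocalRing.maximalIdeal (X.presheaf.stalk x) = ⊥ := by
    refine le_bot_iff.mp fun a ha => ?_
    have : IsNilpotent a := by
      rw [nilpotent_iff_mem_prime]
      intro P hP
      have : (⟨P, hP⟩ : PrimeSpectrum (X.presheaf.stalk x)) =
          ⟨_, (IsLocalRing.maximalIdeal.isMaximal _).isPrime⟩ := Subsingleton.elim _ _
      rw [show P = IsLocalRing.maximalIdeal _ from congrArg PrimeSpectrum.asIdeal this]
      exact ha
    exact this.eq_zero
  exact IsLocalRing.isField_iff_maximalIdeal_eq.mpr hbot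

lemma flat_fromSpecStalk {X : Scheme.{u}} (x : X) : Flat (X.fromSpecStalk x) := by
  obtain ⟨_, ⟨U, hU, rfl⟩, hxU, -⟩ := X.isBasis_affineOpens.exists_subset_of_mem_open
    (Set.mem_univ x) isOpen_univ
  rw [← hU.fromSpecStalk_eq_fromSpecStalk hxU]
  show Flat (Spec.map (X.presheaf.germ U x hxU) ≫ hU.fromSpec)
  have : IsOpenImmersion hU.fromSpec := IsAffineOpen.isOpenImmersion_fromSpec _
  have hloc : Flat (Spec.map (X.presheaf.germ U x hxU)) := by
    rw [HasRingHomProperty.Spec_iff (P := @Flat)]
    letI := TopCat.Presheaf.algebra_section_stalk X.presheaf ⟨x, hxU⟩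
    have := hU.isLocalization_stalk ⟨x, hxU⟩
    exact RingHom.flat_algebraMap_iff.mpr
      (IsLocalization.flat _ (hU.primeIdealOf ⟨x, hxU⟩).asIdeal.primeCompl)
  exact MorphismProperty.comp_mem @Flat _ _ hloc inferInstance

/-- A scheme is flat at the points over a point with a field as local ring. -/
lemma flat_fromSpecStalk_comp {X Y : Scheme.{u}} (f : X ⟶ Y) [IsReduced Y] {x : X}
    (hx : Component.IsMaxGen (f x)) : Flat (X.fromSpecStalk x ≫ f) := by
  refine Flat.of_stalkMap _ fun w => ?_
  have hw : (X.fromSpecStalk x ≫ f) w = f x := by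
    have : X.fromSpecStalk x w ∈ Set.range (X.fromSpecStalk x) := ⟨w, rfl⟩
    rw [Scheme.range_fromSpecStalk] at this
    rw [Scheme.Hom.comp_apply]
    exact hx _ (this.map f.continuous)
  have hF : IsField (Y.presheaf.stalk ((X.fromSpecStalk x ≫ f) w)) :=
    isField_stalk (hw ▸ hx)
  letI := hF.toField
  letI := ((X.fromSpecStalk x ≫ f).stalkMap w).hom.toAlgebra
  show Module.Flat (Y.presheaf.stalk ((X.fromSpecStalk x ≫ f) w)) _
  infer_instance

lemma flatAt_comp {X Y Z : Scheme.{u}} (f : X ⟶ Y) (g : Y ⟶ Z) (x : X)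
    (hf : (f.stalkMap x).hom.Flat) (hg : (g.stalkMap (f x)).hom.Flat) :
    ((f ≫ g).stalkMap x).hom.Flat := by
  rw [Scheme.Hom.stalkMap_comp]
  exact RingHom.Flat.comp hg hf

variable {K : Type u} [Field K] {G H : Over (Spec (CommRingCat.of K))}

lemma flat_whiskerLeft (R : Over (Spec (CommRingCat.of K))) {A B : Over (Spec (CommRingCat.of K))}
    (f : A ⟶ B) [Flat f.left] : Flat (R ◁ f).left :=
  Basic.whiskerLeft_mem @Flat f R ‹_›

variable [GrpObj G] [GrpObj H] (f : G ⟶ H) [IsMonHom f]

/-- `(a, x) ↦ (a, a x)`. -/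
noncomputable def sh (G : Over (Spec (CommRingCat.of K))) [GrpObj G] : G ⊗ G ≅ G ⊗ G where
  hom := lift (fst G G) (fst G G * snd G G)
  inv := lift (fst G G) ((fst G G)⁻¹ * snd G G)
  hom_inv_id := by
    refine CartesianMonoidalCategory.hom_ext _ _ (by simp) ?_
    simp [MonObj.comp_mul, GrpObj.comp_inv]
  inv_hom_id := by
    refine CartesianMonoidalCategory.hom_ext _ _ (by simp) ?_
    simp [MonObj.comp_mul, GrpObj.comp_inv]

/-- A homomorphism of group schemes over a field which is flat near one point is flat. -/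
theorem flat_of_flat_fromSpecStalk_comp {z : G.left}
    (hz : Flat (G.left.fromSpecStalk z ≫ f.left)) : Flat f.left := by
  refine Flat.of_stalkMap _ fun x => ?_
  -- the point of `G ⊗ G` sent to `z` by multiplication and to `x` by projection
  let Tz := Points.pointObj G z
  let Tx := Points.pointObj G x
  let gz : Tz ⊗ Tx ⟶ G := fst Tz Tx ≫ Points.pointHom G z
  let gx : Tz ⊗ Tx ⟶ G := snd Tz Tx ≫ Points.pointHom G x
  obtain ⟨tz⟩ := (inferInstance : Nonempty Tz.left)
  obtain ⟨tx⟩ := (inferInstance : Nonempty Tx.left)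
  obtain ⟨t, -, -⟩ := Scheme.Pullback.exists_preimage_pullback (f := Tz.hom) (g := Tx.hom) tz tx
    (Subsingleton.elim (α := Spec (CommRingCat.of K)) _ _)
  let p : (G ⊗ G).left := (lift (gz * gx⁻¹) gx).left t
  let q : (G ⊗ G).left := (sh G).hom.left p
  have hqz : (snd G G).left q = z := by
    show (snd G G).left ((sh G).hom.left ((lift (gz * gx⁻¹) gx).left t)) = z
    rw [← Points.comp_apply, ← Points.comp_apply,
      show lift (gz * gx⁻¹) gx ≫ (sh G).hom ≫ snd G G = gz by simp [sh, MonObj.comp_mul],
      Points.comp_apply, Points.pointHom_apply]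
  have hpx : (snd G G).left p = x := by
    show (snd G G).left ((lift (gz * gx⁻¹) gx).left t) = x
    rw [← Points.comp_apply, lift_snd, Points.comp_apply, Points.pointHom_apply]
  let F : G ⊗ G ⟶ G ⊗ H := G ◁ f
  -- flatness at `q`, from the generic point
  have hFq : (F.left.stalkMap q).hom.Flat := by
    let Z : Over (Spec (CommRingCat.of K)) := Over.mk (G.left.fromSpecStalk z ≫ G.hom)
    let ζ : Z ⟶ G := Over.homMk (G.left.fromSpecStalk z) rfl
    have : Flat ζ.left := flat_fromSpecStalk z
    have : Flat (ζ ≫ f).left := hz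
    obtain ⟨q', hq', -⟩ := Scheme.exists_preimage_of_isPullback
      ((Basic.isPullback_whiskerLeft (R := G) ζ).map (Over.forget _)) q
      (IsLocalRing.closedPoint (G.left.presheaf.stalk z))
      (hqz.trans (Scheme.fromSpecStalk_closedPoint).symm)
    have := flat_whiskerLeft G ζ
    have := flat_whiskerLeft G (ζ ≫ f)
    have h1 := Flat.stalkMap (G ◁ ζ).left q'
    have h2 := Flat.stalkMap (G ◁ (ζ ≫ f)).left q'
    rw [MonoidalCategory.whiskerLeft_comp] at h2
    have h3 := Thick.FlatCancel.flat_stalkMap_of_comp (G ◁ ζ).left F.left q' h1 h2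
    rwa [show (G ◁ ζ).left q' = q from hq'] at h3
  -- transport to `p`
  let τ : G ⊗ H ⟶ G ⊗ H := lift (fst G H) ((fst G H ≫ f)⁻¹ * snd G H)
  have : IsIso τ := ⟨lift (fst G H) ((fst G H ≫ f) * snd G H),
    by refine CartesianMonoidalCategory.hom_ext _ _ (by simp [τ]) ?_
       simp [τ, MonObj.comp_mul, GrpObj.comp_inv],
    by refine CartesianMonoidalCategory.hom_ext _ _ (by simp [τ]) ?_
       simp [τ, MonObj.comp_mul, GrpObj.comp_inv]⟩
  have hconj : (sh G).hom ≫ F ≫ τ = F := by
    refine CartesianMonoidalCategory.hom_ext _ _ (by simp [sh, F, τ]) ?_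
    simp [sh, F, τ, MonObj.comp_mul, GrpObj.comp_inv, MonObj.mul_comp]
  have hFp : (F.left.stalkMap p).hom.Flat := by
    have : IsIso (sh G).hom.left := Basic.isIso_left _
    have : IsIso τ.left := Basic.isIso_left τ
    rw [← hconj, Over.comp_left, Over.comp_left]
    exact flatAt_comp _ _ _ (Flat.stalkMap _ _) (flatAt_comp _ _ _ hFq (Flat.stalkMap _ _))
  -- descend along the projections
  have hsnd : ∀ X : Over (Spec (CommRingCat.of K)), Flat (snd G X).left := fun X =>
    Basic.snd_left_mem @Flat inferInstance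
  have h4 : ((F ≫ snd G H).left.stalkMap p).hom.Flat :=
    flatAt_comp _ _ _ hFp (have := hsnd H; Flat.stalkMap (snd G H).left _)
  rw [show F ≫ snd G H = snd G G ≫ f from whiskerLeft_snd G f] at h4
  have h5 := Thick.FlatCancel.flat_stalkMap_of_comp (snd G G).left f.left p
    (have := hsnd G; Flat.stalkMap (snd G G).left p) h4
  rwa [hpx] at h5

/-- A homomorphism of group schemes over a field, with reduced target, whose image contains a
maximal point, is flat. -/
theorem flat_of_isMaxGen [IsReduced H.left] {z : G.left} (hz : Component.IsMaxGen (f.left z)) :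
    Flat f.left :=
  flat_of_flat_fromSpecStalk_comp f (flat_fromSpecStalk_comp f.left hz)

/-- A homomorphism of group schemes over a field with a flat stalk map is flat. -/
theorem flat_of_flat_stalkMap {z : G.left} (hz : (f.left.stalkMap z).hom.Flat) : Flat f.left := by
  refine flat_of_flat_fromSpecStalk_comp f (z := z) ?_
  rw [← Scheme.SpecMap_stalkMap_fromSpecStalk f.left]
  have : Flat (Spec.map (f.left.stalkMap z)) := by
    rw [HasRingHomProperty.Spec_iff (P := @Flat)]; exact hz
  exact MorphismProperty.comp_mem @Flat _ _ this (flat_fromSpecStalk _)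

/-- A surjective homomorphism onto a reduced group scheme over a field is flat. -/
theorem flat_of_surjective [IsReduced H.left] [Surjective f.left] : Flat f.left := by
  obtain ⟨y, hy, -⟩ := Component.exists_isMaxGen (η[H].left (IsLocalRing.closedPoint K))
  obtain ⟨z, rfl⟩ := f.left.surjective y
  exact flat_of_isMaxGen f hy

/-- Smooth schemes over a field are reduced. -/
lemma isReduced_of_smooth {X : Scheme.{u}} (g : X ⟶ Spec (CommRingCat.of K)) [Smooth g] :
    IsReduced X := by
  have hU : ∀ x : X, _root_.IsReduced (X.presheaf.stalk x) := by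
    intro x
    obtain ⟨_, ⟨(U : X.Opens), hU, rfl⟩, hxU, -⟩ := X.isBasis_affineOpens.exists_subset_of_mem_open
      (Set.mem_univ x) isOpen_univ
    have : IsOpenImmersion hU.fromSpec := IsAffineOpen.isOpenImmersion_fromSpec _
    let φ := Spec.preimage (hU.fromSpec ≫ g)
    have hφ : Smooth (Spec.map φ) := by
      rw [Spec.map_preimage]; infer_instance
    rw [HasRingHomProperty.Spec_iff (P := @Smooth)] at hφ
    letI : Algebra K Γ(X, U) := φ.hom.toAlgebra
    have : Algebra.Smooth K Γ(X, U) := hφ
    have hred := AGFHull.isReduced_of_smooth K Γ(X, U)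
    letI := TopCat.Presheaf.algebra_section_stalk X.presheaf ⟨x, hxU⟩
    have := hU.isLocalization_stalk ⟨x, hxU⟩
    exact isReduced_localizationPreserves (R := Γ(X, U))
      (hU.primeIdealOf ⟨x, hxU⟩).asIdeal.primeCompl (X.presheaf.stalk x) hred
  exact isReduced_of_isReduced_stalk X

end Groth.Agent.GrpScheme.HomFlat
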