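import Groth.Agent.GrpScheme.Component

/-!
# The identity component of a group scheme over a field

For an arbitrary group scheme over a field the irreducible component of the unit is quasi-compact,
it is the connected component of the unit, and it is the intersection of the quasi-compact open
and closed subsets containing it.
-/

set_option autoImplicit false

universe u

open CategoryTheory MonoidalCategory CartesianMonoidalCategory MonObj GrpObj AlgebraicGeometry
  Limits
open Groth.Agent.GrpScheme.Component (IsMaxGen)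

namespace Groth.Agent.GrpScheme.IdComponent

variable {K : Type u} [Field K] (G : Over (Spec (CommRingCat.of K))) [GrpObj G]

/-- The unit point. -/
noncomputable abbrev e₀ : G.left := η[G].left (IsLocalRing.closedPoint K)

/-- The irreducible component of the unit. -/
noncomputable def Zset : TopologicalSpace.Closeds G.left :=
  ⟨irreducibleComponent (e₀ G), isClosed_irreducibleComponent⟩

/-- The irreducible component of the unit, as a reduced scheme over the field. -/
noncomputable abbrev zObj : Over (Spec (CommRingCat.of K)) := Component.redSub G (Zset G)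

/-- Its inclusion. -/
noncomputable def zι : zObj G ⟶ G :=
  Over.homMk (Scheme.IdealSheafData.vanishingIdeal (Zset G)).subschemeι rfl

lemma isSeparated : IsSeparated G.hom :=
  ⟨Basic.diagonal_mem @IsClosedImmersion inferInstance⟩

instance : IsClosedImmersion (zι G).left :=
  inferInstanceAs (IsClosedImmersion (Scheme.IdealSheafData.vanishingIdeal (Zset G)).subschemeι)

lemma range_zι : Set.range (zι G).left = irreducibleComponent (e₀ G) :=
  (Scheme.IdealSheafData.range_subschemeι _).trans
    (Scheme.IdealSheafData.coe_support_vanishingIdeal _)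

lemma e₀_mem : e₀ G ∈ Set.range (zι G).left := by
  rw [range_zι]; exact mem_irreducibleComponent

instance : IrreducibleSpace (zObj G).left := by
  rw [(zι G).left.isClosedEmbedding.isEmbedding.toHomeomorph.irreducibleSpace_iff,
    ← isIrreducible_iff_irreducibleSpace, range_zι]
  exact isIrreducible_irreducibleComponent

instance : GeometricallyIrreducible (zObj G).hom :=
  Component.geometricallyIrreducible_component G (zι G).left
    (by rw [range_zι]; exact irreducibleComponent_mem_irreducibleComponents _) (e₀_mem G)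

lemma mem_range_of_specializes {x : G.left} (h : x ⤳ e₀ G) : x ∈ Set.range (zι G).left := by
  obtain ⟨a, ha, hax⟩ := Component.exists_isMaxGen x
  obtain ⟨b, hb⟩ := QuasiSober.sober (isIrreducible_irreducibleComponent (x := e₀ G))
    isClosed_irreducibleComponent
  have hbmax : IsMaxGen b := Component.isMaxGen_iff.mpr
    (hb.def.symm ▸ irreducibleComponent_mem_irreducibleComponents _)
  have := Component.uniqueComp G (e₀ G) a b ha hbmax (hax.trans h)
    (hb.specializes mem_irreducibleComponent)
  rw [range_zι, ← hb.def, ← specializes_iff_mem_closure, ← this]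
  exact hax

lemma irreducibleSpace_of_subsingleton {T : Scheme.{u}} [Nonempty T] [Subsingleton T] :
    IrreducibleSpace T :=
  { toPreirreducibleSpace := ⟨fun u v _ _ ⟨a, _, ha⟩ ⟨b, _, hb⟩ =>
      ⟨a, trivial, ha, Subsingleton.elim b a ▸ hb⟩⟩, toNonempty := inferInstance }

instance (X : Over (Spec (CommRingCat.of K))) (x : X.left) :
    Subsingleton (Points.pointObj X x).left :=
  inferInstanceAs (Subsingleton (Spec (X.left.residueField x)))

lemma irreducibleSpace_tensor (T : Over (Spec (CommRingCat.of K))) [IrreducibleSpace T.left] :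
    IrreducibleSpace (zObj G ⊗ T).left :=
  inferInstanceAs (IrreducibleSpace ↥(pullback (zObj G).hom T.hom))

/-- Translates of the identity component stay in the component. -/
lemma exists_gen_translate (u : G.left) (p : (zObj G ⊗ Points.pointObj G u).left) :
    ∃ a, IsMaxGen a ∧ a ⤳ u ∧
      a ⤳ ((fst (zObj G) (Points.pointObj G u) ≫ zι G) *
        (snd (zObj G) (Points.pointObj G u) ≫ Points.pointHom G u)).left p := by
  set T := Points.pointObj G u
  set M := (fst (zObj G) T ≫ zι G) * (snd (zObj G) T ≫ Points.pointHom G u)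
  have := irreducibleSpace_of_subsingleton (T := T.left)
  have := irreducibleSpace_tensor G T
  obtain ⟨c, hc⟩ := QuasiSober.sober
    ((IrreducibleSpace.isIrreducible_univ (zObj G ⊗ T).left).image M.left
      M.left.continuous.continuousOn).closure isClosed_closure
  obtain ⟨a, ha, hac⟩ := Component.exists_isMaxGen c
  have hmem : ∀ q, a ⤳ M.left q := fun q =>
    hac.trans (hc.specializes (subset_closure ⟨q, trivial, rfl⟩))
  refine ⟨a, ha, ?_, hmem _⟩
  -- the point over `(e, u)` is sent to `u`
  obtain ⟨y, hy⟩ := e₀_mem G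
  obtain ⟨t⟩ := (inferInstance : Nonempty T.left)
  obtain ⟨q, hq₁, hq₂⟩ := Scheme.Pullback.exists_preimage_pullback (f := (zObj G).hom) (g := T.hom) y t
    (Subsingleton.elim (α := Spec (CommRingCat.of K)) _ _)
  let pq := Points.pointHom (zObj G ⊗ T) q
  obtain ⟨T', ⟨t'⟩, π, hπ⟩ := Component.exists_eq_one (pq ≫ fst (zObj G) T ≫ zι G) fun s => by
    rw [Points.comp_apply, Points.comp_apply, Points.pointHom_apply]
    exact (congrArg (zι G).left hq₁).trans hy
  have h := congr(($(show π ≫ pq ≫ M = π ≫ pq ≫ snd (zObj G) T ≫ Points.pointHom G u by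
    rw [MonObj.comp_mul, MonObj.comp_mul, hπ, _root_.one_mul])).left t')
  simp only [Points.comp_apply, pq, Points.pointHom_apply] at h
  exact (hmem q).trans (specializes_of_eq (h.trans (Points.pointHom_apply _ _ _)))

/-- The saturation of an open set by translations of the identity component. -/
def saturation (U : G.left.Opens) : Set G.left :=
  ((zι G ▷ G) ≫ μ[G]).left '' ((snd (zObj G) G).left ⁻¹' U)

lemma isOpen_saturation (U : G.left.Opens) : IsOpen (saturation G U) := by
  have : UniversallyOpen ((zι G ▷ G) ≫ μ[G]).left :=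
    Basic.whiskerRight_comp_mul_mem @UniversallyOpen (zι G)
      (inferInstanceAs (UniversallyOpen (zObj G).hom))
  exact Scheme.Hom.isOpenMap _ _ (U.2.preimage (snd (zObj G) G).left.continuous)

lemma subset_saturation {U : G.left.Opens} {x : G.left} (hx : x ∈ U) : x ∈ saturation G U := by
  obtain ⟨y, hy⟩ := e₀_mem G
  obtain ⟨q, hq₁, hq₂⟩ := Scheme.Pullback.exists_preimage_pullback (f := (zObj G).hom) (g := G.hom) y x
    (Subsingleton.elim (α := Spec (CommRingCat.of K)) _ _)
  refine ⟨q, show (snd (zObj G) G).left q ∈ U from (show (snd (zObj G) G).left q = x from hq₂) ▸ hx, ?_⟩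
  let pq := Points.pointHom (zObj G ⊗ G) q
  obtain ⟨T', ⟨t'⟩, π, hπ⟩ := Component.exists_eq_one (pq ≫ fst (zObj G) G ≫ zι G) fun s => by
    rw [Points.comp_apply, Points.comp_apply, Points.pointHom_apply]
    exact (congrArg (zι G).left hq₁).trans hy
  have h := congr(($(show π ≫ pq ≫ ((zι G ▷ G) ≫ μ[G]) = π ≫ pq ≫ snd (zObj G) G by
    rw [show (zι G ▷ G) ≫ μ[G] = (fst (zObj G) G ≫ zι G) * snd (zObj G) G by
      rw [Hom.mul_def]; congr 1,
      MonObj.comp_mul, MonObj.comp_mul, hπ, _root_.one_mul])).left t')
  simp only [Points.comp_apply, pq, Points.pointHom_apply] at h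
  rw [Points.comp_apply, h]
  exact hq₂

/-- An element of the saturation lies on a component meeting the open set. -/
lemma exists_gen_of_mem_saturation {U : G.left.Opens} {s : G.left} (hs : s ∈ saturation G U) :
    ∃ a, IsMaxGen a ∧ a ∈ U ∧ a ⤳ s ∧ ∃ u ∈ U, a ⤳ u := by
  obtain ⟨q, hq, rfl⟩ := hs
  set u := (snd (zObj G) G).left q with hu
  let pq := Points.pointHom (zObj G ⊗ G) q
  obtain ⟨T', ⟨t'⟩, π, h, e⟩ := Points.exists_lift (Points.pointHom G u) (pq ≫ snd (zObj G) G)
    fun s => by
      rw [Points.comp_apply, Points.pointHom_apply]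
      obtain ⟨t⟩ := (inferInstance : Nonempty (Points.pointObj G u).left)
      exact ⟨t, Points.pointHom_apply G u t⟩
  let p := (lift (π ≫ pq ≫ fst (zObj G) G) h).left t'
  obtain ⟨a, ha, hau, hap⟩ := exists_gen_translate G u p
  refine ⟨a, ha, hau.mem_open U.2 hq, ?_, u, hq, hau⟩
  have hh := congr(($(show lift (π ≫ pq ≫ fst (zObj G) G) h ≫
      ((fst (zObj G) (Points.pointObj G u) ≫ zι G) *
        (snd (zObj G) (Points.pointObj G u) ≫ Points.pointHom G u)) =
      π ≫ pq ≫ ((zι G ▷ G) ≫ μ[G]) by
    rw [show (zι G ▷ G) ≫ μ[G] = (fst (zObj G) G ≫ zι G) * snd (zObj G) G by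
      rw [Hom.mul_def]; congr 1,
      MonObj.comp_mul, MonObj.comp_mul, MonObj.comp_mul, lift_fst_assoc, lift_snd_assoc, e]
    simp only [Category.assoc])).left t')
  rw [Points.comp_apply, Points.comp_apply, Points.comp_apply, Points.pointHom_apply] at hh
  exact hh ▸ hap

/-- A point with a maximal generalization in `U` lies in the saturation of `U`. -/
lemma mem_saturation_of_specializes {U : G.left.Opens} {a x : G.left}
    (haU : a ∈ U) (hax : a ⤳ x) : x ∈ saturation G U := by
  let T := Points.pointObj G x
  let g := Points.pointHom G x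
  have : Flat T.hom :=
    inferInstanceAs (Flat (G.left.fromSpecResidueField x ≫ G.hom))
  let π := snd T G
  obtain ⟨t⟩ := (inferInstance : Nonempty T.left)
  let q₀ := (lift (𝟙 T) g).left t
  have hq₀ : π.left q₀ = x := by
    rw [← Points.comp_apply, lift_snd, Points.pointHom_apply]
  have : Surjective π.left := Points.snd_surjective_of_field T G
  have hflat : Flat π.left := Basic.snd_left_mem @Flat (T := T) (X := G) ‹_›
  obtain ⟨q₁, hq₁, hq₁a⟩ := Flat.generalizingMap π.left (hq₀.symm ▸ hax : a ⤳ π.left q₀)
  let d : T ⊗ G ⟶ G := (fst T G ≫ g) * (snd T G)⁻¹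
  have hd₀ : d.left q₀ = e₀ G := by
    rw [← Points.comp_apply, show lift (𝟙 T) g ≫ d = 1 by simp [d, MonObj.comp_mul, GrpObj.comp_inv],
      Hom.one_def, Points.comp_apply]
    exact congrArg η[G].left (Subsingleton.elim (α := Spec (CommRingCat.of K)) _ _)
  have hd₁ : d.left q₁ ∈ Set.range (zι G).left :=
    mem_range_of_specializes G (hd₀ ▸ hq₁.map d.left.continuous)
  let p := Points.pointHom (T ⊗ G) q₁
  obtain ⟨T', ⟨t'⟩, π', h, e⟩ := Points.exists_lift (zι G) (p ≫ d)
    fun s => by rw [Points.comp_apply, Points.pointHom_apply]; exact hd₁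
  refine ⟨(lift h (π' ≫ p ≫ π)).left t', ?_, ?_⟩
  · show (snd (zObj G) G).left _ ∈ U
    rw [← Points.comp_apply, lift_snd, Points.comp_apply, Points.comp_apply, Points.pointHom_apply,
      hq₁a]
    exact haU
  · rw [← Points.comp_apply, show lift h (π' ≫ p ≫ π) ≫ (zι G ▷ G) ≫ μ[G] =
        π' ≫ p ≫ fst T G ≫ g by
      rw [show (zι G ▷ G) ≫ μ[G] = (fst (zObj G) G ≫ zι G) * snd (zObj G) G by
        rw [Hom.mul_def]; congr 1,
        MonObj.comp_mul, lift_fst_assoc, lift_snd, e]
      simp only [d, π, MonObj.comp_mul, GrpObj.comp_inv]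
      simp,
      Points.comp_apply, Points.comp_apply, Points.comp_apply, Points.pointHom_apply]

/-- The identity component is quasi-compact. -/
theorem isCompact_component : IsCompact (irreducibleComponent (e₀ G)) := by
  obtain ⟨_, ⟨W : G.left.Opens, hW, rfl⟩, hxW, -⟩ :=
    G.left.isBasis_affineOpens.exists_subset_of_mem_open (Set.mem_univ (e₀ G)) isOpen_univ
  let w : Over.mk (W.ι ≫ G.hom) ⟶ G := Over.homMk W.ι rfl
  have : IsAffine (W : Scheme.{u}) := hW
  have : IsAffine (Over.mk (W.ι ≫ G.hom) ⊗ Over.mk (W.ι ≫ G.hom)).left :=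
    inferInstanceAs (IsAffine (pullback (W.ι ≫ G.hom) (W.ι ≫ G.hom)))
  refine (isCompact_range ((w ⊗ₘ w) ≫ μ[G]).left.continuous).of_isClosed_subset
    isClosed_irreducibleComponent fun x hx => ?_
  let T := Points.pointObj G x
  let g := Points.pointHom G x
  have := irreducibleSpace_of_subsingleton (T := T.left)
  have := irreducibleSpace_tensor G T
  obtain ⟨t⟩ := (inferInstance : Nonempty T.left)
  let dU : zObj G ⊗ T ⟶ G := (snd (zObj G) T ≫ g) * (fst (zObj G) T ≫ zι G)⁻¹
  let dV : zObj G ⊗ T ⟶ G := fst (zObj G) T ≫ zι G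
  have hU : (dU.left ⁻¹' (W : Set G.left)).Nonempty := by
    obtain ⟨T', ⟨t'⟩, π, h, e⟩ := Points.exists_lift (zι G) g
      fun s => by rw [Points.pointHom_apply, range_zι]; exact hx
    refine ⟨(lift h π).left t', ?_⟩
    rw [Set.mem_preimage, ← Points.comp_apply, show lift h π ≫ dU = 1 by
      simp only [dU, T, MonObj.comp_mul, GrpObj.comp_inv, lift_snd_assoc, lift_fst_assoc]
      rw [e, mul_inv_cancel], Hom.one_def, Points.comp_apply]
    exact (congrArg η[G].left (Subsingleton.elim (α := Spec (CommRingCat.of K)) _ _) : _ = e₀ G) ▸ hxW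
  have hV : (dV.left ⁻¹' (W : Set G.left)).Nonempty := by
    obtain ⟨y, hy⟩ := e₀_mem G
    obtain ⟨q, hq₁, -⟩ := Scheme.Pullback.exists_preimage_pullback (f := (zObj G).hom) (g := T.hom) y t
      (Subsingleton.elim (α := Spec (CommRingCat.of K)) _ _)
    refine ⟨q, ?_⟩
    rw [Set.mem_preimage, Points.comp_apply, show (fst (zObj G) T).left q = y from hq₁, hy]
    exact hxW
  obtain ⟨q, hqU, hqV⟩ := nonempty_preirreducible_inter (W.2.preimage dU.left.continuous)
    (W.2.preimage dV.left.continuous) hU hV
  obtain ⟨r, hr⟩ : (lift dU dV).left q ∈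
      Set.range (pullback.map (W.ι ≫ G.hom) (W.ι ≫ G.hom) G.hom G.hom W.ι W.ι
        (𝟙 _) (by simp) (by simp)) := by
    rw [Scheme.Pullback.range_map]
    refine ⟨?_, ?_⟩
    · show (fst G G).left ((lift dU dV).left q) ∈ Set.range W.ι
      rw [← Points.comp_apply, lift_fst]; simpa using hqU
    · show (snd G G).left ((lift dU dV).left q) ∈ Set.range W.ι
      rw [← Points.comp_apply, lift_snd]; simpa using hqV
  refine ⟨r, ?_⟩
  rw [Points.comp_apply, show (w ⊗ₘ w).left r = (lift dU dV).left q from hr, ← Points.comp_apply,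
    ← Hom.mul_def]
  simp only [dU, dV, inv_mul_cancel_right]
  rw [Points.comp_apply, Points.pointHom_apply]

/-- The saturation of a quasi-compact open is closed. -/
theorem isClosed_saturation {U : G.left.Opens} (hU : IsCompact (U : Set G.left)) :
    IsClosed (saturation G U) := by
  let Uo := Over.mk (U.ι ≫ G.hom)
  let w : Uo ⟶ G := Over.homMk U.ι rfl
  let M : zObj G ⊗ Uo ⟶ G := (zι G ⊗ₘ w) ≫ μ[G]
  have hMe : M = (zObj G ◁ w) ≫ (zι G ▷ G) ≫ μ[G] := by
    simp only [M, MonoidalCategory.tensorHom_def', Category.assoc]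
  have hrange : Set.range M.left = saturation G U := by
    have hr : Set.range (zObj G ◁ w).left = (snd (zObj G) G).left ⁻¹' U := by
      refine Set.Subset.antisymm ?_ fun p hp => ?_
      · rintro _ ⟨q, rfl⟩
        show (snd (zObj G) G).left _ ∈ U
        rw [← Points.comp_apply, whiskerLeft_snd, Points.comp_apply]
        exact ((snd (zObj G) Uo).left q).2
      · obtain ⟨q, hq, -⟩ := Scheme.exists_preimage_of_isPullback
          ((Basic.isPullback_whiskerLeft (R := zObj G) w).map (Over.forget _)) p ⟨_, hp⟩ rfl
        exact ⟨q, hq⟩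
    rw [hMe, Over.comp_left, Scheme.Hom.comp_base, TopCat.coe_comp, Set.range_comp, hr]
    rfl
  have : CompactSpace (zObj G).left :=
    ⟨(zι G).left.isClosedEmbedding.isEmbedding.isCompact_iff.mpr
      (by rw [Set.image_univ, range_zι]; exact isCompact_component G)⟩
  have : CompactSpace Uo.left := isCompact_iff_compactSpace.mp hU
  have : QuasiCompact Uo.hom := inferInstance
  have : CompactSpace (zObj G).left := ‹_›
  have : CompactSpace (zObj G ⊗ Uo).left :=
    have : QuasiCompact (zObj G).hom := inferInstance
    inferInstanceAs (CompactSpace ↥(pullback (zObj G).hom Uo.hom))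
  have : IsSeparated G.hom := isSeparated G
  have : QuasiCompact (M.left ≫ G.hom) := by
    rw [Over.w]; infer_instance
  have : QuasiCompact M.left := .of_comp _ G.hom
  refine isClosed_of_closure_subset fun x hx => ?_
  rw [← hrange] at hx
  obtain ⟨z, hz⟩ := SchPoints.exists_specializes_of_mem_closure_range M.left hx
  obtain ⟨a, -, haU, hs, -⟩ := exists_gen_of_mem_saturation G (hrange ▸ ⟨z, rfl⟩ :
    M.left z ∈ saturation G U)
  exact mem_saturation_of_specializes G haU (hs.trans hz)

/-- Points off the identity component are separated from it by a clopen set. -/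
theorem exists_clopen {x : G.left} (hx : x ∉ irreducibleComponent (e₀ G)) :
    ∃ S : Set G.left, IsClopen S ∧ IsCompact S ∧ e₀ G ∈ S ∧ x ∉ S := by
  obtain ⟨b, hb, hbx⟩ := Component.exists_isMaxGen x
  have hne : e₀ G ∉ closure ({b} : Set G.left) := fun he => hx <| by
    obtain ⟨Z, hZ, hu⟩ := Component.existsUnique_component G (e₀ G)
    rw [hu _ ⟨irreducibleComponent_mem_irreducibleComponents _, mem_irreducibleComponent⟩,
      ← hu _ ⟨Component.isMaxGen_iff.mp hb, he⟩]
    exact specializes_iff_mem_closure.mp hbx
  obtain ⟨_, ⟨U : G.left.Opens, hU, rfl⟩, heU, hUb⟩ :=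
    G.left.isBasis_affineOpens.exists_subset_of_mem_open hne isClosed_closure.isOpen_compl
  refine ⟨saturation G U, ⟨isClosed_saturation G hU.isCompact, isOpen_saturation G U⟩, ?_,
    subset_saturation G heU, fun hxS => ?_⟩
  · let Uo := Over.mk (U.ι ≫ G.hom)
    have : CompactSpace (zObj G).left :=
      ⟨(zι G).left.isClosedEmbedding.isEmbedding.isCompact_iff.mpr
        (by rw [Set.image_univ, range_zι]; exact isCompact_component G)⟩
    have : QuasiCompact (zObj G).hom := inferInstance
    have : QuasiCompact (snd (zObj G) G).left :=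
      Basic.snd_left_mem @QuasiCompact ‹_›
    exact ((snd (zObj G) G).left.isCompact_preimage hU.isCompact).image
      ((zι G ▷ G) ≫ μ[G]).left.continuous
  · obtain ⟨a, ha, -, has, u, huU, hau⟩ := exists_gen_of_mem_saturation G hxS
    have := Component.uniqueComp G x a b ha hb has hbx
    subst this
    exact hUb huU (specializes_iff_mem_closure.mp hau)

/-- The connected component of the unit is its irreducible component. -/
theorem connectedComponent_eq : connectedComponent (e₀ G) = irreducibleComponent (e₀ G) := by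
  refine Set.Subset.antisymm (fun x hx => ?_) ?_
  · by_contra h
    obtain ⟨S, hS, -, he, hxS⟩ := exists_clopen G h
    exact hxS (hS.connectedComponent_subset he hx)
  · exact isIrreducible_irreducibleComponent.isConnected.subset_connectedComponent
      mem_irreducibleComponent

end Groth.Agent.GrpScheme.IdComponent

namespace Groth.Agent.GrpScheme.IdComponent

open AlgebraicGeometry CategoryTheory MonoidalCategory CartesianMonoidalCategory

variable {K : Type u} [Field K] (G : Over (Spec (CommRingCat.of K))) [GrpObj G]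

/-- The unit has a quasi-compact open and closed neighbourhood. -/
theorem exists_compact_clopen :
    ∃ S : Set G.left, IsClopen S ∧ IsCompact S ∧ e₀ G ∈ S := by
  obtain ⟨_, ⟨U : G.left.Opens, hU, rfl⟩, heU, -⟩ :=
    G.left.isBasis_affineOpens.exists_subset_of_mem_open (Set.mem_univ (e₀ G)) isOpen_univ
  refine ⟨saturation G U, ⟨isClosed_saturation G hU.isCompact, isOpen_saturation G U⟩, ?_,
    subset_saturation G heU⟩
  have : CompactSpace (zObj G).left :=
    ⟨(zι G).left.isClosedEmbedding.isEmbedding.isCompact_iff.mpr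
      (by rw [Set.image_univ, range_zι]; exact isCompact_component G)⟩
  have : QuasiCompact (zObj G).hom := inferInstance
  have : QuasiCompact (snd (zObj G) G).left := Basic.snd_left_mem @QuasiCompact ‹_›
  exact ((snd (zObj G) G).left.isCompact_preimage hU.isCompact).image
    ((zι G ▷ G) ≫ μ[G]).left.continuous

end Groth.Agent.GrpScheme.IdComponent
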