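import Groth.Prelude.Def_AlgGrp
import Mathlib.AlgebraicGeometry.Group.Abelian
import Mathlib.AlgebraicGeometry.Morphisms.UniversallyOpen

/-!
# Basic tools for group schemes over a base

Shear isomorphisms of actions, translations, transfer of properties to the multiplication map.
-/

set_option autoImplicit false

universe u

open CategoryTheory MonoidalCategory CartesianMonoidalCategory MonObj GrpObj AlgebraicGeometry
  Limits

namespace Groth.Agent.GrpScheme.Basic

variable {S : Scheme.{u}}

section Cartesian

variable {G X T T' : Over S} [GrpObj G]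

/-- The action of a point on a point. -/
noncomputable def smul (a : AlgGrp.Action G X) (g : T ⟶ G) (x : T ⟶ X) : T ⟶ X :=
  lift g x ≫ a.act

lemma comp_smul (a : AlgGrp.Action G X) (f : T' ⟶ T) (g : T ⟶ G) (x : T ⟶ X) :
    f ≫ smul a g x = smul a (f ≫ g) (f ≫ x) := by
  simp [smul, comp_lift_assoc]

lemma one_smul' (a : AlgGrp.Action G X) (x : T ⟶ X) : smul a 1 x = x := by
  have := lift (toUnit T) x ≫= a.one_act
  simpa [smul, Hom.one_def] using this

lemma mul_smul' (a : AlgGrp.Action G X) (g h : T ⟶ G) (x : T ⟶ X) :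
    smul a (g * h) x = smul a g (smul a h x) := by
  have := lift (lift g h) x ≫= a.mul_act
  simpa [smul, Hom.mul_def] using this

lemma inv_smul_smul' (a : AlgGrp.Action G X) (g : T ⟶ G) (x : T ⟶ X) :
    smul a g⁻¹ (smul a g x) = x := by
  rw [← mul_smul', inv_mul_cancel, one_smul']

lemma smul_inv_smul' (a : AlgGrp.Action G X) (g : T ⟶ G) (x : T ⟶ X) :
    smul a g (smul a g⁻¹ x) = x := by
  rw [← mul_smul', mul_inv_cancel, one_smul']

/-- The shear automorphism `(g, x) ↦ (g, g • x)` of `T ⊗ X`, for a point `g` of `G` over `T`. -/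
noncomputable def shear (a : AlgGrp.Action G X) (g : T ⟶ G) : T ⊗ X ≅ T ⊗ X where
  hom := lift (fst T X) (smul a (fst T X ≫ g) (snd T X))
  inv := lift (fst T X) (smul a (fst T X ≫ g)⁻¹ (snd T X))
  hom_inv_id := by
    refine CartesianMonoidalCategory.hom_ext _ _ (by simp) ?_
    rw [Category.assoc, lift_snd, comp_smul, GrpObj.comp_inv]
    simp [inv_smul_smul']
  inv_hom_id := by
    refine CartesianMonoidalCategory.hom_ext _ _ (by simp) ?_
    rw [Category.assoc, lift_snd, comp_smul]
    simp [smul_inv_smul']

lemma act_eq_shear_comp_snd (a : AlgGrp.Action G X) :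
    a.act = (shear a (𝟙 G)).hom ≫ snd G X := by
  simp [shear, smul]

/-- Left multiplication of a group object on itself. -/
noncomputable def leftAction (G : Over S) [GrpObj G] : AlgGrp.Action G G where
  act := μ[G]
  one_act := one_mul G
  mul_act := MonObj.mul_assoc G

lemma whiskerRight_comp_mul_eq (ψ : T ⟶ G) :
    ψ ▷ G ≫ μ[G] = (shear (leftAction G) ψ).hom ≫ snd T G := by
  have : ψ ▷ G = lift (fst T G ≫ ψ) (snd T G) := by
    refine CartesianMonoidalCategory.hom_ext _ _ (by simp) (by simp)
  rw [this]
  simp [shear, smul, leftAction]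

lemma mul_eq_shear_comp_snd : μ[G] = (shear (leftAction G) (𝟙 G)).hom ≫ snd G G :=
  act_eq_shear_comp_snd (leftAction G)

/-- Left translation by a section. -/
noncomputable def translate (g : 𝟙_ (Over S) ⟶ G) : G ≅ G where
  hom := (toUnit G ≫ g) * 𝟙 G
  inv := (toUnit G ≫ g)⁻¹ * 𝟙 G
  hom_inv_id := by
    rw [comp_mul, GrpObj.comp_inv, comp_toUnit_assoc, Category.comp_id, inv_mul_cancel_left]
  inv_hom_id := by
    rw [comp_mul, comp_toUnit_assoc, Category.comp_id, mul_inv_cancel_left]

/-- The shear automorphism `(a, b) ↦ (a * b, b)` of `G ⊗ G`. -/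
noncomputable def shearRight (G : Over S) [GrpObj G] : G ⊗ G ≅ G ⊗ G where
  hom := lift μ[G] (snd G G)
  inv := lift (fst G G * (snd G G)⁻¹) (snd G G)
  hom_inv_id := by
    refine CartesianMonoidalCategory.hom_ext _ _ ?_ (by simp)
    rw [Category.assoc, lift_fst, comp_mul, GrpObj.comp_inv, lift_fst, lift_snd, mul_eq_mul]
    simp
  inv_hom_id := by
    refine CartesianMonoidalCategory.hom_ext _ _ ?_ (by simp)
    rw [Category.assoc, lift_fst, mul_eq_mul, comp_mul, lift_fst, lift_snd]
    simp

/-- The diagonal of a group object is a base change of the unit section. -/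
lemma isPullback_diagonal (G : Over S) [GrpObj G] :
    IsPullback (lift (𝟙 G) (𝟙 G)) (toUnit G) (fst G G * (snd G G)⁻¹) η[G] where
  w := by
    rw [comp_mul, GrpObj.comp_inv, lift_fst, lift_snd, mul_inv_cancel, Hom.one_def]
  isLimit' := ⟨PullbackCone.IsLimit.mk _ (fun s => s.fst ≫ fst G G)
    (fun s => by
      have h := s.condition
      rw [comp_mul, GrpObj.comp_inv, toUnit_unique s.snd (toUnit _), ← Hom.one_def,
        mul_inv_eq_one] at h
      refine CartesianMonoidalCategory.hom_ext _ _ (by simp) ?_
      simp [h])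
    (fun s => toUnit_unique _ _)
    (fun s m hm _ => by simp [← hm])⟩

end Cartesian

section Properties

variable {G X T : Over S} [GrpObj G]

lemma snd_left_mem (P : MorphismProperty Scheme.{u}) [P.IsStableUnderBaseChange]
    (h : P T.hom) : P (snd T X).left :=
  MorphismProperty.pullback_snd T.hom X.hom h

lemma act_mem (P : MorphismProperty Scheme.{u}) [P.IsStableUnderBaseChange]
    (a : AlgGrp.Action G X) (h : P G.hom) : P a.act.left := by
  rw [act_eq_shear_comp_snd a, Over.comp_left]
  have : IsIso (shear a (𝟙 G)).hom.left :=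
    inferInstanceAs (IsIso ((Over.forget S).map (shear a (𝟙 G)).hom))
  rw [P.cancel_left_of_respectsIso]
  exact snd_left_mem P h

lemma mul_mem (P : MorphismProperty Scheme.{u}) [P.IsStableUnderBaseChange]
    (h : P G.hom) : P μ[G].left :=
  act_mem P (leftAction G) h

lemma whiskerRight_comp_mul_mem (P : MorphismProperty Scheme.{u}) [P.IsStableUnderBaseChange]
    (ψ : T ⟶ G) (h : P T.hom) : P (ψ ▷ G ≫ μ[G]).left := by
  rw [whiskerRight_comp_mul_eq, Over.comp_left]
  have : IsIso (shear (leftAction G) ψ).hom.left :=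
    inferInstanceAs (IsIso ((Over.forget S).map (shear (leftAction G) ψ).hom))
  rw [P.cancel_left_of_respectsIso]
  exact snd_left_mem P h

lemma diagonal_mem (P : MorphismProperty Scheme.{u}) [P.IsStableUnderBaseChange]
    (h : P η[G].left) : P (pullback.diagonal G.hom) :=
  P.of_isPullback ((isPullback_diagonal G).map (Over.forget S)).flip h

lemma isPullback_whiskerRight {A B R : Over S} (f : A ⟶ B) :
    IsPullback (f ▷ R) (fst A R) (fst B R) f where
  w := whiskerRight_fst f R
  isLimit' := ⟨PullbackCone.IsLimit.mk _ (fun s => lift s.snd (s.fst ≫ snd B R))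
    (fun s => CartesianMonoidalCategory.hom_ext _ _ (by simp [s.condition]) (by simp))
    (fun s => lift_fst _ _)
    (fun s m h₁ h₂ => CartesianMonoidalCategory.hom_ext _ _ (by simpa using h₂)
      (by simpa using h₁ =≫ snd B R))⟩

lemma isPullback_whiskerLeft {A B R : Over S} (f : A ⟶ B) :
    IsPullback (R ◁ f) (snd R A) (snd R B) f where
  w := whiskerLeft_snd R f
  isLimit' := ⟨PullbackCone.IsLimit.mk _ (fun s => lift (s.fst ≫ fst R B) s.snd)
    (fun s => CartesianMonoidalCategory.hom_ext _ _ (by simp) (by simp [s.condition]))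
    (fun s => lift_snd _ _)
    (fun s m h₁ h₂ => CartesianMonoidalCategory.hom_ext _ _ (by simpa using h₁ =≫ fst R B)
      (by simpa using h₂))⟩

lemma whiskerRight_mem (P : MorphismProperty Scheme.{u}) [P.IsStableUnderBaseChange]
    {A B : Over S} (f : A ⟶ B) (R : Over S) (h : P f.left) : P (f ▷ R).left :=
  P.of_isPullback ((isPullback_whiskerRight f).map (Over.forget S)).flip h

lemma whiskerLeft_mem (P : MorphismProperty Scheme.{u}) [P.IsStableUnderBaseChange]
    {A B : Over S} (f : A ⟶ B) (R : Over S) (h : P f.left) : P (R ◁ f).left :=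
  P.of_isPullback ((isPullback_whiskerLeft f).map (Over.forget S)).flip h

lemma isIso_left {A B : Over S} (f : A ⟶ B) [IsIso f] : IsIso f.left :=
  inferInstanceAs (IsIso ((Over.forget S).map f))

end Properties

end Groth.Agent.GrpScheme.Basic
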