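import Mathlib.RingTheory.Ideal.Cotangent
import Mathlib.RingTheory.Filtration
import Mathlib.RingTheory.MvPolynomial.EulerIdentity
import Mathlib.RingTheory.LocalRing.ResidueField.Basic
import Mathlib.RingTheory.Derivation.Basic
import Mathlib.RingTheory.Nakayama

/-!
# Local rings with enough derivations are reduced in characteristic zero

If a Noetherian local algebra `A` over a field `k` of characteristic zero has residue field `k` and
every linear form on the cotangent space is induced by a derivation of `A`, then `A` is reduced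
(in fact its associated graded ring is a polynomial ring).
-/

set_option autoImplicit false

universe u v

open IsLocalRing MvPolynomial

namespace Groth.Agent.GrpScheme.CartierAlg

variable {k : Type u} [Field k] {A : Type v} [CommRing A] [Algebra k A] [IsLocalRing A]


lemma derivation_pow_le (D : Derivation k A A) :
    ∀ (d : ℕ) (a : A), a ∈ (maximalIdeal A) ^ (d + 1) → D a ∈ (maximalIdeal A) ^ d := by
  intro d
  induction d with
  | zero => simp
  | succ d ih =>
    intro a ha
    rw [pow_succ _ (d + 1)] at ha
    induction ha using Submodule.mul_induction_on' with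
    | mem_mul_mem b hb c hc =>
      rw [D.leibniz]
      refine add_mem (Ideal.mul_mem_right _ _ hb) ?_
      rw [smul_eq_mul, mul_comm, pow_succ]
      exact Ideal.mul_mem_mul (ih b hb) hc
    | add x _ y _ hx hy => rw [map_add]; exact add_mem hx hy

variable {n : ℕ} (x : Fin n → A) (hx : ∀ i, x i ∈ (maximalIdeal A))

include hx in
lemma aeval_mem_pow {d : ℕ} (F : MvPolynomial (Fin n) k) (hF : F.IsHomogeneous d) :
    aeval x F ∈ (maximalIdeal A) ^ d := by
  rw [aeval_def, eval₂_eq']
  refine sum_mem fun s hs => ?_
  refine Ideal.mul_mem_left _ _ ?_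
  have hd : ∑ i, s i = d := by
    have := hF (Finsupp.mem_support_iff.mp hs)
    rw [← this, Finsupp.weight_apply, Finsupp.sum_fintype] <;> simp
  rw [← hd, ← Finset.prod_pow_eq_pow_sum]
  exact Ideal.prod_mem_prod fun i _ => Ideal.pow_mem_pow (hx i) _

variable (D : Fin n → Derivation k A A) (hD : ∀ i j, D i (x j) - (if i = j then 1 else 0) ∈ (maximalIdeal A))

include hx hD in
lemma derivation_aeval (i : Fin n) {d : ℕ} (F : MvPolynomial (Fin n) k)
    (hF : F.IsHomogeneous (d + 1)) :
    D i (aeval x F) - aeval x (pderiv i F) ∈ (maximalIdeal A) ^ (d + 1) := by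
  have key : ∀ G : MvPolynomial (Fin n) k,
      D i (aeval x G) = ∑ j, aeval x (pderiv j G) * D i (x j) := by
    intro G
    induction G using MvPolynomial.induction_on with
    | C c => simp [MvPolynomial.algebraMap_eq]
    | add p q hp hq => simp [map_add, hp, hq, add_mul, Finset.sum_add_distrib]
    | mul_X p j hp =>
      simp only [map_mul, aeval_X, pderiv_mul, map_add, pderiv_X]
      rw [(D i).leibniz, hp, smul_eq_mul, smul_eq_mul, Finset.mul_sum]
      simp only [add_mul, Finset.sum_add_distrib]
      rw [add_comm]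
      congr 1
      · exact Finset.sum_congr rfl fun l _ => by ring
      · rw [Finset.sum_eq_single j] <;> simp +contextual [eq_comm]
  have hsum : aeval x (pderiv i F) = ∑ j, aeval x (pderiv j F) * (if i = j then 1 else 0) := by
    simp
  rw [key, hsum, ← Finset.sum_sub_distrib]
  refine sum_mem fun j _ => ?_
  rw [← mul_sub, pow_succ]
  exact Ideal.mul_mem_mul (aeval_mem_pow x hx _ hF.pderiv) (hD i j)

include hx hD in
lemma eq_zero_of_aeval_mem [CharZero k] : ∀ (d : ℕ) (F : MvPolynomial (Fin n) k),
    F.IsHomogeneous d → aeval x F ∈ (maximalIdeal A) ^ (d + 1) → F = 0 := by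
  intro d
  induction d with
  | zero =>
    intro F hF h
    rw [← totalDegree_zero_iff_isHomogeneous, totalDegree_eq_zero_iff_eq_C] at hF
    rw [hF, aeval_C, pow_one, IsLocalRing.mem_maximalIdeal, mem_nonunits_iff] at h
    by_contra hne
    apply h
    refine (isUnit_iff_ne_zero.mpr ?_).map (algebraMap k A)
    intro hc
    rw [hc, C_0] at hF
    exact hne hF
  | succ d ih =>
    intro F hF h
    have hp : ∀ i, pderiv i F = 0 := by
      intro i
      refine ih _ hF.pderiv ?_
      have := sub_mem (derivation_pow_le (D i) _ _ h) (derivation_aeval x hx D hD i F hF)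
      simpa using this
    have e := hF.sum_X_mul_pderiv
    simp only [hp, mul_zero, Finset.sum_const_zero] at e
    rw [eq_comm, nsmul_eq_mul, mul_eq_zero] at e
    refine e.resolve_left ?_
    rw [← map_natCast (C : k →+* MvPolynomial (Fin n) k), C_eq_zero]
    exact_mod_cast (Nat.succ_ne_zero d)

variable (hres : ∀ a : A, ∃ c : k, a - algebraMap k A c ∈ (maximalIdeal A))
  (hgen : Ideal.span (Set.range x) = (maximalIdeal A))

include hx hres hgen in
lemma exists_homogeneous : ∀ (d : ℕ) (a : A), a ∈ (maximalIdeal A) ^ d →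
    ∃ F : MvPolynomial (Fin n) k, F.IsHomogeneous d ∧ a - aeval x F ∈ (maximalIdeal A) ^ (d + 1) := by
  intro d
  induction d with
  | zero =>
    intro a _
    obtain ⟨c, hc⟩ := hres a
    exact ⟨C c, isHomogeneous_C _ _, by simpa using hc⟩
  | succ d ih =>
    intro a ha
    rw [pow_succ] at ha
    induction ha using Submodule.mul_induction_on' with
    | mem_mul_mem b hb c hc =>
      obtain ⟨F, hF, hFb⟩ := ih b hb
      rw [← hgen] at hc
      obtain ⟨co, rfl⟩ := Ideal.mem_span_range_iff_exists_fun.mp hc
      choose γ hγ using fun i => hres (co i)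
      let L : MvPolynomial (Fin n) k := ∑ i, C (γ i) * X i
      have hL : L.IsHomogeneous 1 := by
        refine IsHomogeneous.sum _ _ _ fun i _ => ?_
        simpa using (isHomogeneous_C (Fin n) (γ i)).mul (isHomogeneous_X k i)
      refine ⟨F * L, hF.mul hL, ?_⟩
      have hLc : (∑ i, co i * x i) - aeval x L ∈ (maximalIdeal A) ^ 2 := by
        simp only [L, map_sum, map_mul, aeval_C, aeval_X, ← Finset.sum_sub_distrib, ← sub_mul]
        rw [pow_two]
        exact sum_mem fun i _ => Ideal.mul_mem_mul (hγ i) (hx i)
      have hc' : (∑ i, co i * x i) ∈ (maximalIdeal A) := hgen ▸ hc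
      have : b * (∑ i, co i * x i) - aeval x (F * L) =
          (b - aeval x F) * (∑ i, co i * x i) + aeval x F * ((∑ i, co i * x i) - aeval x L) := by
        rw [map_mul]; ring
      rw [this]
      refine add_mem ?_ ?_
      · rw [pow_succ]; exact Ideal.mul_mem_mul hFb hc'
      · rw [show d + 1 + 1 = d + 2 from rfl, pow_add]
        exact Ideal.mul_mem_mul (aeval_mem_pow x hx F hF) hLc
    | add a _ b _ ha hb =>
      obtain ⟨F, hF, hFa⟩ := ha
      obtain ⟨G, hG, hGb⟩ := hb
      refine ⟨F + G, hF.add hG, ?_⟩
      rw [map_add, add_sub_add_comm]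
      exact add_mem hFa hGb

include hx hD hres hgen in
lemma isReduced_of_derivations [CharZero k] [IsNoetherianRing A] : IsReduced A := by
  classical
  constructor
  intro a ⟨N, hN⟩
  by_contra ha
  have hex : ∃ d, a ∉ (maximalIdeal A) ^ d := by
    by_contra h
    push Not at h
    apply ha
    have : a ∈ (⨅ d : ℕ, (maximalIdeal A) ^ d) := by simpa using h
    rwa [Ideal.iInf_pow_eq_bot_of_isLocalRing _ (IsLocalRing.maximalIdeal.isMaximal A).ne_top] at this
  obtain ⟨d, hd, hd'⟩ : ∃ d, a ∈ (maximalIdeal A) ^ d ∧ a ∉ (maximalIdeal A) ^ (d + 1) := by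
    have h0 : Nat.find hex ≠ 0 := fun h => by simpa [h] using Nat.find_spec hex
    obtain ⟨d, hd⟩ := Nat.exists_eq_succ_of_ne_zero h0
    have h2 := Nat.find_spec hex
    rw [hd] at h2
    exact ⟨d, not_not.mp (Nat.find_min hex (by omega)), h2⟩
  obtain ⟨F, hF, hFa⟩ := exists_homogeneous x hx hres hgen d a hd
  have hpow : ∀ M : ℕ, a ^ M - aeval x (F ^ M) ∈ (maximalIdeal A) ^ (d * M + 1) := by
    intro M
    induction M with
    | zero => simp
    | succ M ihM =>
      have : a ^ (M + 1) - aeval x (F ^ (M + 1)) =
          (a ^ M - aeval x (F ^ M)) * a + aeval x (F ^ M) * (a - aeval x F) := by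
        rw [pow_succ, pow_succ, map_mul]; ring
      rw [this]
      refine add_mem ?_ ?_
      · rw [show d * (M + 1) + 1 = (d * M + 1) + d by ring, pow_add]
        exact Ideal.mul_mem_mul ihM hd
      · rw [show d * (M + 1) + 1 = d * M + (d + 1) by ring, pow_add]
        exact Ideal.mul_mem_mul (aeval_mem_pow x hx _ (hF.pow M)) hFa
  have hz : aeval x (F ^ N) ∈ (maximalIdeal A) ^ (d * N + 1) := by simpa [hN] using hpow N
  have hFN : F ^ N = 0 := eq_zero_of_aeval_mem x hx D hD _ _ (hF.pow N) hz
  have hF0 : F = 0 := eq_zero_of_pow_eq_zero hFN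
  exact hd' (by simpa [hF0] using hFa)

end Groth.Agent.GrpScheme.CartierAlg
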