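import Groth.Agent.GrpScheme.Smooth
import Groth.Agent.GrpScheme.CartierAlg
import Mathlib.Algebra.TrivSqZeroExt.Basic
import Mathlib.Algebra.CharP.Algebra
import Mathlib.AlgebraicGeometry.Stalk

/-!
# Invariant derivations and Cartier's theorem

For a group scheme `G` locally of finite type over a field `K`, every tangent vector at the unit
extends to a derivation of the local ring at the unit. In characteristic zero this implies that `G`
is reduced, hence smooth.
-/

set_option autoImplicit false

universe u

open CategoryTheory MonoidalCategory CartesianMonoidalCategory MonObj GrpObj AlgebraicGeometry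
  Limits IsLocalRing TrivSqZeroExt

namespace Groth.Agent.GrpScheme.Cartier

variable {K : Type u} [Field K] (G : Over (Spec (CommRingCat.of K))) [GrpObj G]

/-- The point underlying the unit section. -/
noncomputable abbrev unitPt : G.left := η[G].left (closedPoint K)

/-- The local ring at the unit. -/
noncomputable abbrev stalkUnit : CommRingCat.{u} := G.left.presheaf.stalk (unitPt G)

/-- The structure map of the local ring at the unit. -/
noncomputable def structHom : CommRingCat.of K ⟶ stalkUnit G :=
  Spec.preimage (G.left.fromSpecStalk (unitPt G) ≫ G.hom)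

noncomputable instance : Algebra K (stalkUnit G) := (structHom G).hom.toAlgebra

/-- Evaluation at the unit. -/
noncomputable def augHom : stalkUnit G ⟶ CommRingCat.of K :=
  Scheme.stalkClosedPointTo (R := CommRingCat.of K) η[G].left

lemma spec_augHom : Spec.map (augHom G) ≫ G.left.fromSpecStalk (unitPt G) = η[G].left :=
  Scheme.Spec_stalkClosedPointTo_fromSpecStalk (R := CommRingCat.of K) η[G].left

lemma structHom_augHom : structHom G ≫ augHom G = 𝟙 _ := by
  apply Spec.map_injective
  rw [Spec.map_comp, structHom, Spec.map_preimage, ← Category.assoc, spec_augHom, Spec.map_id]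
  exact Over.w η[G]

/-- Evaluation at the unit, as an algebra map. -/
noncomputable def aug : stalkUnit G →ₐ[K] K :=
  { (augHom G).hom with
    commutes' := fun r => congr($(structHom_augHom G).hom r) }

lemma mem_maximalIdeal_iff (a : stalkUnit G) : a ∈ maximalIdeal (stalkUnit G) ↔ aug G a = 0 := by
  have hl : IsLocalHom (augHom G).hom :=
    Scheme.isLocalHom_stalkClosedPointTo' (R := K) η[G].left
  rw [mem_maximalIdeal, mem_nonunits_iff, ← not_iff_not, not_not, ← ne_eq, ← isUnit_iff_ne_zero]
  exact ⟨fun h => h.map (aug G), fun h => hl.map_nonunit a h⟩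

lemma sub_aug_mem (a : stalkUnit G) :
    a - algebraMap K _ (aug G a) ∈ maximalIdeal (stalkUnit G) := by
  rw [mem_maximalIdeal_iff, map_sub, AlgHom.commutes]
  simp

section Derivation

variable (v : stalkUnit G →ₗ[K] K)

/-- The ring map to the dual numbers over the local ring defined by a tangent vector. -/
noncomputable def tangentHom (h1 : v 1 = 0) (hv : ∀ a b, v (a * b) = aug G a * v b + aug G b * v a) :
    stalkUnit G →+* TrivSqZeroExt (stalkUnit G) (stalkUnit G) where
  toFun a := inl (algebraMap K _ (aug G a)) + inr (algebraMap K _ (v a))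
  map_one' := by simp [h1]
  map_zero' := by simp
  map_add' a b := by ext <;> simp
  map_mul' a b := by
    ext <;> simp [hv, map_mul]
    ring

/-- Reduction of dual numbers along the evaluation at the unit. -/
noncomputable def redHom :
    TrivSqZeroExt (stalkUnit G) (stalkUnit G) →+* TrivSqZeroExt K K where
  toFun x := inl (aug G x.fst) + inr (aug G x.snd)
  map_one' := by simp
  map_zero' := by simp
  map_add' a b := by ext <;> simp
  map_mul' a b := by
    ext <;> simp [map_mul]

instance isLocalRing_dualNumber {R : Type u} [CommRing R] [IsLocalRing R] :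
    IsLocalRing (TrivSqZeroExt R R) :=
  IsLocalRing.of_isUnit_or_isUnit_one_sub_self fun a => by
    simp only [TrivSqZeroExt.isUnit_iff_isUnit_fst, fst_sub, fst_one]
    exact IsLocalRing.isUnit_or_isUnit_one_sub_self a.fst

set_option maxHeartbeats 400000 in
/-- A tangent vector at the unit extends to a derivation of the local ring. -/
theorem exists_derivation (h1 : v 1 = 0)
    (hv : ∀ a b, v (a * b) = aug G a * v b + aug G b * v a) :
    ∃ D : Derivation K (stalkUnit G) (stalkUnit G), ∀ a, aug G (D a) = v a := by
  let x₀ := unitPt G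
  let B : CommRingCat.{u} := CommRingCat.of (TrivSqZeroExt (stalkUnit G) (stalkUnit G))
  let k' : CommRingCat.of K ⟶ B := structHom G ≫ CommRingCat.ofHom (inlHom (stalkUnit G) (stalkUnit G))
  let fstB : B ⟶ (stalkUnit G) := CommRingCat.ofHom (fstHom (stalkUnit G) (stalkUnit G) (stalkUnit G)).toRingHom
  let red : B ⟶ CommRingCat.of (TrivSqZeroExt K K) := CommRingCat.ofHom (redHom G)
  let ι₁ : (stalkUnit G) ⟶ B := CommRingCat.ofHom (inlHom (stalkUnit G) (stalkUnit G))
  let ι₂ : (stalkUnit G) ⟶ B := CommRingCat.ofHom (tangentHom G v h1 hv)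
  let T : Over (Spec (CommRingCat.of K)) := Over.mk (Spec.map k')
  have hc : G.left.fromSpecStalk x₀ ≫ G.hom = Spec.map (structHom G) := (Spec.map_preimage _).symm
  have hk₂ : structHom G ≫ ι₂ = k' := by
    ext r
    · change (tangentHom G v h1 hv (algebraMap K (stalkUnit G) r)).fst =
        (inl (algebraMap K (stalkUnit G) r) : TrivSqZeroExt (stalkUnit G) (stalkUnit G)).fst
      simp [tangentHom]
    · change (tangentHom G v h1 hv (algebraMap K (stalkUnit G) r)).snd =
        (inl (algebraMap K (stalkUnit G) r) : TrivSqZeroExt (stalkUnit G) (stalkUnit G)).snd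
      have : v (algebraMap K (stalkUnit G) r) = 0 := by
        rw [Algebra.algebraMap_eq_smul_one, map_smul, h1, smul_zero]
      simp [tangentHom, this]
  let p : T ⟶ G := Over.homMk (Spec.map ι₁ ≫ G.left.fromSpecStalk x₀)
    (by rw [Category.assoc, hc, ← Spec.map_comp]; rfl)
  let q : T ⟶ G := Over.homMk (Spec.map ι₂ ≫ G.left.fromSpecStalk x₀)
    (by rw [Category.assoc, hc, ← Spec.map_comp, hk₂]; rfl)
  let r : T ⟶ G := p * q
  -- restriction to the reduced point `Spec (stalkUnit G)`
  let T₀ : Over (Spec (CommRingCat.of K)) := Over.mk (Spec.map (k' ≫ fstB))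
  let i₀ : T₀ ⟶ T := Over.homMk (Spec.map fstB) (Spec.map_comp _ _).symm
  have hq₀ : i₀ ≫ q = 1 := by
    rw [Hom.one_def]
    ext1
    have e : ι₂ ≫ fstB = augHom G ≫ (k' ≫ fstB) := by
      ext a
      change (tangentHom G v h1 hv a).fst = (inl (algebraMap K (stalkUnit G) (aug G a)) : TrivSqZeroExt (stalkUnit G) (stalkUnit G)).fst
      simp [tangentHom]
    change Spec.map fstB ≫ Spec.map ι₂ ≫ G.left.fromSpecStalk x₀ = Spec.map (k' ≫ fstB) ≫ η[G].left
    rw [← Spec.map_comp_assoc, e, Spec.map_comp_assoc, spec_augHom]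
  have hr₀ : Spec.map fstB ≫ r.left = G.left.fromSpecStalk x₀ := by
    have h : i₀ ≫ r = i₀ ≫ p := by rw [MonObj.comp_mul, hq₀, _root_.mul_one]
    refine (congr(($h).left)).trans ?_
    change Spec.map fstB ≫ Spec.map ι₁ ≫ G.left.fromSpecStalk x₀ = _
    rw [← Spec.map_comp_assoc]
    have : ι₁ ≫ fstB = 𝟙 (stalkUnit G) := by ext a; rfl
    rw [this, Spec.map_id, Category.id_comp]
  -- restriction to `Spec K[ε]`
  let T₁ : Over (Spec (CommRingCat.of K)) := Over.mk (Spec.map (k' ≫ red))
  let i₁ : T₁ ⟶ T := Over.homMk (Spec.map red) (Spec.map_comp _ _).symm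
  have hp₁ : i₁ ≫ p = 1 := by
    rw [Hom.one_def]
    ext1
    have e : ι₁ ≫ red = augHom G ≫ (k' ≫ red) := by
      ext a
      · change (redHom G (inl a)).fst = (redHom G (inl (algebraMap K (stalkUnit G) (aug G a)))).fst
        simp [redHom]
      · change (redHom G (inl a)).snd = (redHom G (inl (algebraMap K (stalkUnit G) (aug G a)))).snd
        simp [redHom]
    change Spec.map red ≫ Spec.map ι₁ ≫ G.left.fromSpecStalk x₀ = Spec.map (k' ≫ red) ≫ η[G].left
    rw [← Spec.map_comp_assoc, e, Spec.map_comp_assoc, spec_augHom]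
  have hr₁ : Spec.map red ≫ r.left = Spec.map (ι₂ ≫ red) ≫ G.left.fromSpecStalk x₀ := by
    have h : i₁ ≫ r = i₁ ≫ q := by rw [MonObj.comp_mul, hp₁, _root_.one_mul]
    refine (congr(($h).left)).trans ?_
    rw [Spec.map_comp_assoc]; rfl
  -- the comorphism
  have : IsLocalHom fstB.hom := ⟨fun a ha => TrivSqZeroExt.isUnit_iff_isUnit_fst.mpr ha⟩
  have hpt : r.left (closedPoint B) = x₀ := by
    rw [← Scheme.fromSpecStalk_closedPoint (X := G.left) (x := x₀), ← hr₀]
    refine Eq.trans ?_ (Scheme.Hom.comp_apply _ _ _).symm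
    exact congrArg r.left (Spec_closedPoint (f := fstB)).symm
  let φ : (stalkUnit G) ⟶ B := G.left.presheaf.stalkSpecializes (specializes_of_eq hpt) ≫
    Scheme.stalkClosedPointTo r.left
  have hφ : Spec.map φ ≫ G.left.fromSpecStalk x₀ = r.left := by
    rw [Spec.map_comp_assoc, Scheme.SpecMap_stalkSpecializes_fromSpecStalk,
      Scheme.Spec_stalkClosedPointTo_fromSpecStalk]
  have hφ₀ : φ ≫ fstB = 𝟙 (stalkUnit G) := by
    apply Spec.map_injective
    rw [← cancel_mono (G.left.fromSpecStalk x₀), Spec.map_comp_assoc, hφ, hr₀, Spec.map_id,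
      Category.id_comp]
  have hφ₁ : φ ≫ red = ι₂ ≫ red := by
    apply Spec.map_injective
    rw [← cancel_mono (G.left.fromSpecStalk x₀), Spec.map_comp_assoc, hφ, hr₁]
  have hφk : structHom G ≫ φ = k' := by
    apply Spec.map_injective
    rw [Spec.map_comp, ← hc, ← Category.assoc, hφ]
    exact Over.w r
  let φ' : stalkUnit G →+* TrivSqZeroExt (stalkUnit G) (stalkUnit G) := φ.hom
  have hfst : ∀ a, (φ' a).fst = a := fun a => congr($(hφ₀).hom a)
  refine ⟨Derivation.mk'
    { toFun := fun a => (φ' a).snd
      map_add' := fun a b => by rw [map_add, snd_add]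
      map_smul' := fun c a => ?_ } fun a b => ?_, fun a => ?_⟩
  · have hc' : φ' (algebraMap K (stalkUnit G) c) = inl (algebraMap K (stalkUnit G) c) :=
      congr($(hφk).hom c)
    rw [Algebra.smul_def, map_mul, hc', snd_mul]
    simp [Algebra.smul_def]
  · change (φ' (a * b)).snd = a • (φ' b).snd + b • (φ' a).snd
    rw [map_mul, snd_mul, hfst, hfst]
    simp
    ring
  · have h : (redHom G (φ' a)).snd = (redHom G (tangentHom G v h1 hv a)).snd :=
      congr(($(hφ₁).hom a).snd)
    simpa [redHom, tangentHom] using h

end Derivation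

set_option maxHeartbeats 400000 in
/-- **Cartier**: in characteristic zero the local ring at the unit is reduced. -/
theorem isReduced_stalkUnit [CharZero K] [LocallyOfFiniteType G.hom] :
    _root_.IsReduced (stalkUnit G) := by
  have : IsLocallyNoetherian G.left := LocallyOfFiniteType.isLocallyNoetherian G.hom
  let m := maximalIdeal (stalkUnit G)
  have hfg : m.FG := Ideal.fg_of_isNoetherianRing m
  let ψ : (stalkUnit G) →ₗ[K] m :=
    (LinearMap.id - (Algebra.linearMap K (stalkUnit G)).comp (aug G).toLinearMap).codRestrict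
      (m.restrictScalars K) (sub_aug_mem G)
  have hψ : ∀ a, (ψ a : (stalkUnit G)) = a - algebraMap K (stalkUnit G) (aug G a) := fun a => rfl
  have : Module.Finite (stalkUnit G) m := Module.Finite.iff_fg.mpr hfg
  have : Module.Finite (stalkUnit G) m.Cotangent := Module.Finite.of_surjective _ m.toCotangent_surjective
  have hsc : ∀ (a : (stalkUnit G)) (c : m.Cotangent), a • c = aug G a • c := by
    intro a c
    obtain ⟨y, rfl⟩ := m.toCotangent_surjective c
    rw [← IsScalarTower.algebraMap_smul (stalkUnit G) (aug G a) (m.toCotangent y), ← sub_eq_zero, ← sub_smul,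
      ← map_smul, Ideal.toCotangent_eq_zero, pow_two]
    exact Ideal.mul_mem_mul (sub_aug_mem G a) y.2
  have : Module.Finite K m.Cotangent := by
    obtain ⟨s, hs⟩ := ‹Module.Finite (stalkUnit G) m.Cotangent›.fg_top
    refine ⟨⟨s, eq_top_iff.mpr fun c _ => ?_⟩⟩
    have hc : c ∈ Submodule.span (stalkUnit G) (s : Set m.Cotangent) := hs ▸ trivial
    induction hc using Submodule.span_induction with
    | mem x hx => exact Submodule.subset_span hx
    | zero => simp
    | add x y _ _ hx hy => exact add_mem (hx trivial) (hy trivial)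
    | smul a x _ hx => rw [hsc]; exact Submodule.smul_mem _ _ (hx trivial)
  let b := Module.finBasis K m.Cotangent
  choose x hx using fun i => m.toCotangent_surjective (b i)
  have hgen : Ideal.span (Set.range fun i => (x i : (stalkUnit G))) = m := by
    refine le_antisymm (Ideal.span_le.mpr (by rintro _ ⟨i, rfl⟩; exact (x i).2)) ?_
    refine Submodule.le_of_le_smul_of_le_jacobson_bot hfg (IsLocalRing.maximalIdeal_le_jacobson _) ?_
    intro a ha
    rw [Submodule.mem_sup, smul_eq_mul]
    refine ⟨∑ i, algebraMap K (stalkUnit G) (b.repr (m.toCotangent ⟨a, ha⟩) i) * (x i : (stalkUnit G)),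
      Ideal.sum_mem _ fun i _ => Ideal.mul_mem_left _ _ (Ideal.subset_span ⟨i, rfl⟩),
      a - ∑ i, algebraMap K (stalkUnit G) (b.repr (m.toCotangent ⟨a, ha⟩) i) * (x i : (stalkUnit G)), ?_, by ring⟩
    rw [← pow_two]
    have h := (Ideal.toCotangent_eq_zero m
      (⟨a, ha⟩ - ∑ i, algebraMap K (stalkUnit G) (b.repr (m.toCotangent ⟨a, ha⟩) i) • x i)).mp ?_
    · simpa [Algebra.smul_def, m] using h
    · simp [hx, b.sum_repr]
  let v : Fin (Module.finrank K m.Cotangent) → (stalkUnit G) →ₗ[K] K := fun i =>
    (b.coord i).comp ((m.toCotangent.restrictScalars K).comp ψ)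
  have hv1 : ∀ i, v i 1 = 0 := by
    intro i
    have : ψ 1 = 0 := Subtype.ext (by rw [hψ]; simp)
    simp [v, this]
  have hv : ∀ i a c, v i (a * c) = aug G a * v i c + aug G c * v i a := by
    intro i a c
    have e : ψ (a * c) = algebraMap K (stalkUnit G) (aug G a) • ψ c + algebraMap K (stalkUnit G) (aug G c) • ψ a +
        (a - algebraMap K (stalkUnit G) (aug G a)) • ψ c := Subtype.ext (by simp [hψ, map_mul, Algebra.smul_def]; ring)
    have e0 : m.toCotangent ((a - algebraMap K (stalkUnit G) (aug G a)) • ψ c) = 0 := by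
      rw [Ideal.toCotangent_eq_zero, pow_two]
      exact Ideal.mul_mem_mul (sub_aug_mem G a) (ψ c).2
    simp [v, e, e0, map_add]
  choose D hD using fun i => exists_derivation G (v i) (hv1 i) (hv i)
  refine CartierAlg.isReduced_of_derivations (fun i => (x i : (stalkUnit G))) (fun i => (x i).2) D (fun i j => ?_)
    (fun a => ⟨aug G a, sub_aug_mem G a⟩) hgen
  rw [mem_maximalIdeal_iff, map_sub, hD]
  have hxj : ψ (x j) = x j := Subtype.ext (by
    rw [hψ, (mem_maximalIdeal_iff G _).mp (x j).2]; simp)
  have : v i (x j : stalkUnit G) = if i = j then 1 else 0 := by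
    simp only [v, LinearMap.coe_comp, LinearMap.coe_restrictScalars, Function.comp_apply, hxj, hx,
      Module.Basis.coord_apply, Module.Basis.repr_self, Finsupp.single_apply]
    rcases eq_or_ne i j with h | h
    · rw [if_pos h, if_pos h.symm]
    · rw [if_neg h, if_neg h.symm]
  rw [this]
  rcases eq_or_ne i j with h | h
  · rw [if_pos h, if_pos h, map_one, sub_self]
  · rw [if_neg h, if_neg h, map_zero, sub_self]

/-- (stalkUnit G) group scheme locally of finite type over a field of characteristic zero is smooth. -/
theorem smooth_of_charZero [CharZero K] [LocallyOfFiniteType G.hom] :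
    AlgebraicGeometry.Smooth G.hom := by
  let Ω : Type u := AlgebraicClosure K
  let g : Spec (.of Ω) ⟶ Spec (.of K) := Spec.map (CommRingCat.ofHom <| algebraMap K Ω)
  apply MorphismProperty.of_pullback_snd_of_descendsAlong
    (Q := @Surjective ⊓ @Flat ⊓ @QuasiCompact) (g := g)
  · exact ⟨⟨inferInstance, inferInstance⟩, inferInstance⟩
  have : CharZero Ω := charZero_of_injective_algebraMap (algebraMap K Ω).injective
  let : GrpObj (Over.mk G.hom) := ‹GrpObj G›
  let : GrpObj (Over.mk (pullback.snd G.hom g)) := Over.grpObjMkPullbackSnd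
  let H := Over.mk (pullback.snd G.hom g)
  have : LocallyOfFiniteType H.hom := inferInstanceAs (LocallyOfFiniteType (pullback.snd G.hom g))
  have : JacobsonSpace H.left := LocallyOfFiniteType.jacobsonSpace H.hom
  have he : IsClosed {unitPt H} :=
    ((pointEquivClosedPoint H.hom) ⟨η[H].left, Over.w η[H]⟩).2
  have hstalk : ∀ y : H.left, IsClosed {y} → _root_.IsReduced (H.left.presheaf.stalk y) := by
    intro y hy
    obtain ⟨α, hα⟩ := Smooth.exists_translation H (unitPt H) y he hy
    have := Basic.isIso_left α.hom
    have hinj : Function.Injective (α.hom.left.stalkMap (unitPt H)).hom :=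
      (asIso (α.hom.left.stalkMap (unitPt H))).commRingCatIsoToRingEquiv.injective
    have := isReduced_stalkUnit H
    rw [← hα]
    exact isReduced_of_injective _ hinj
  have : IsReduced H.left := by
    suffices hi : ∀ i, IsReduced (H.left.affineCover.X i) from
      IsReduced.of_openCover _ H.left.affineCover
    intro i
    let U := Scheme.Hom.opensRange (H.left.affineCover.f i)
    have hU : IsAffineOpen U := isAffineOpen_opensRange _
    have : _root_.IsReduced Γ(H.left, U) := by
      refine isReduced_ofLocalizationMaximal _ fun J hJ => ?_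
      let pt : Spec Γ(H.left, U) := ⟨J, hJ.isPrime⟩
      have hclosed : pt ∈ closedPoints (Spec Γ(H.left, U)) :=
        mem_closedPoints_iff.mpr ((PrimeSpectrum.isClosed_singleton_iff_isMaximal _).mpr hJ)
      have hy : IsClosed {hU.fromSpec pt} := by
        rw [← hU.fromSpec.isOpenEmbedding.preimage_closedPoints] at hclosed
        exact hclosed
      have hmem : hU.fromSpec pt ∈ U := (hU.isoSpec.inv pt).2
      let := TopCat.Presheaf.algebra_section_stalk H.left.presheaf ⟨hU.fromSpec pt, hmem⟩
      have hloc : IsLocalization J.primeCompl (H.left.presheaf.stalk (hU.fromSpec pt)) :=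
        hU.isLocalization_stalk' pt hmem
      have := hstalk _ hy
      exact isReduced_of_injective _
        (IsLocalization.algEquiv J.primeCompl (Localization.AtPrime J)
          (H.left.presheaf.stalk (hU.fromSpec pt))).injective
    have : IsReduced (Spec Γ(H.left, U)) := inferInstance
    exact isReduced_of_isOpenImmersion ((Scheme.Hom.isoOpensRange _).hom ≫ hU.isoSpec.hom)
  exact Smooth.smooth_of_perfectField H

end Groth.Agent.GrpScheme.Cartier
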