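import Groth.Agent.GrpScheme.Points
import Groth.Agent.GrpdLib.GrpOver
import Groth.Agent.ConstrLib.Basic
import Mathlib.AlgebraicGeometry.Morphisms.FinitePresentation

/-!
# Images of quasi-compact homomorphisms of group schemes over a field are closed
-/

set_option autoImplicit false

universe u

open CategoryTheory MonoidalCategory CartesianMonoidalCategory MonObj GrpObj AlgebraicGeometry
  Limits Topology

namespace Groth.Agent.GrpScheme.ClosedImage

/-- A finite union of locally closed sets has a nonempty subset open in its closure. -/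
lemma exists_open_inter_closure_subset {X : Type*} [TopologicalSpace X] {S : Set (Set X)}
    (hS : S.Finite) (hl : ∀ t ∈ S, IsLocallyClosed t) (hne : (⋃₀ S).Nonempty) :
    ∃ O : Set X, IsOpen O ∧ (O ∩ ⋃₀ S).Nonempty ∧ O ∩ closure (⋃₀ S) ⊆ ⋃₀ S := by
  induction S, hS using Set.Finite.induction_on with
  | empty => simp at hne
  | @insert t S _ hS ih =>
    rw [Set.sUnion_insert] at hne ⊢
    by_cases ht : t ⊆ closure (⋃₀ S)
    · have hcl : closure (t ∪ ⋃₀ S) = closure (⋃₀ S) := by
        rw [closure_union, Set.union_eq_right]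
        exact closure_minimal ht isClosed_closure
      have hne' : (⋃₀ S).Nonempty := by
        obtain ⟨x, hx | hx⟩ := hne
        · exact closure_nonempty_iff.mp ⟨x, ht hx⟩
        · exact ⟨x, hx⟩
      obtain ⟨O, hO, ⟨x, hxO, hxS⟩, hsub⟩ := ih (fun s hs => hl s (Set.mem_insert_of_mem _ hs)) hne'
      refine ⟨O, hO, ⟨x, hxO, Or.inr hxS⟩, ?_⟩
      rw [hcl]
      exact hsub.trans Set.subset_union_right
    · obtain ⟨x, hxt, hx⟩ := Set.not_subset.mp ht
      refine ⟨(closure (⋃₀ S))ᶜ ∩ coborder t,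
        isClosed_closure.isOpen_compl.inter (hl t (Set.mem_insert _ _)).isOpen_coborder,
        ⟨x, ⟨hx, subset_coborder hxt⟩, Or.inl hxt⟩, ?_⟩
      rintro z ⟨⟨hz, hzc⟩, hzcl⟩
      rw [closure_union] at hzcl
      exact Or.inl ((closure_inter_coborder (s := t)).subset ⟨hzcl.resolve_right hz, hzc⟩)

/-- A nonempty locally constructible subset of a scheme contains a nonempty subset which is open
in its closure. -/
lemma exists_open_inter_closure_subset' {X : Scheme.{u}} {U : Set X}
    (hU : IsLocallyConstructible U) (hne : U.Nonempty) :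
    ∃ O : Set X, IsOpen O ∧ (O ∩ U).Nonempty ∧ O ∩ closure U ⊆ U := by
  obtain ⟨x, hx⟩ := hne
  obtain ⟨W, hW, hxW, -⟩ := exists_isAffineOpen_mem_and_subset (x := x) (U := ⊤) trivial
  have : IsAffine W.toScheme := hW
  have h1 : IsConstructible (W.ι ⁻¹' U) :=
    (hU.preimage_of_isOpenEmbedding W.ι.isOpenEmbedding).isConstructible
  obtain ⟨S, hS, hl, hS'⟩ := ConstrLib.exists_locallyClosed_cover h1
  obtain ⟨O, hO, ⟨z, hzO, hzS⟩, hsub⟩ := exists_open_inter_closure_subset hS hl
    (hS' ▸ ⟨⟨x, hxW⟩, hx⟩)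
  rw [← hS'] at hzS hsub
  refine ⟨W.ι '' O, W.ι.isOpenEmbedding.isOpenMap _ hO, ⟨W.ι z, ⟨z, hzO, rfl⟩, hzS⟩, ?_⟩
  rintro _ ⟨⟨w, hw, rfl⟩, hwc⟩
  refine hsub ⟨hw, ?_⟩
  rw [← W.ι.isOpenEmbedding.isOpenMap.preimage_closure_eq_closure_preimage W.ι.continuous]
  exact hwc

variable {K : Type u} [Field K] {H G : Over (Spec (CommRingCat.of K))} [GrpObj H] [GrpObj G]
  (f : H ⟶ G) [IsMonHom f]

/-- If the image of a homomorphism contains a nonempty subset open in its closure, it is locally
closed. -/
lemma isLocallyClosed_range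
    (hO : ∃ O : Set G.left, IsOpen O ∧ (O ∩ Set.range f.left).Nonempty ∧
      O ∩ closure (Set.range f.left) ⊆ Set.range f.left) :
    IsLocallyClosed (Set.range f.left) := by
  set U := Set.range f.left with hUdef
  obtain ⟨W, hW, ⟨v, hvW, h₀, rfl⟩, hsub⟩ := hO
  suffices h : ∀ x ∈ U, ∃ W' : Set G.left, IsOpen W' ∧ x ∈ W' ∧ W' ∩ closure U ⊆ U by
    choose W' hW'o hW'x hW's using h
    refine ⟨⋃ (x) (hx : x ∈ U), W' x hx, closure U, isOpen_iUnion fun x => isOpen_iUnion fun hx =>
      hW'o x hx, isClosed_closure, Set.Subset.antisymm (fun x hx =>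
        ⟨Set.mem_iUnion₂.mpr ⟨x, hx, hW'x x hx⟩, subset_closure hx⟩) ?_⟩
    rintro z ⟨hz, hzc⟩
    obtain ⟨x, hx, hzx⟩ := Set.mem_iUnion₂.mp hz
    exact hW's x hx ⟨hzx, hzc⟩
  rintro _ ⟨h, rfl⟩
  obtain ⟨p, hp₁, hp₂⟩ := Scheme.Pullback.exists_preimage_pullback (f := H.hom) (g := H.hom) h h₀
    (Subsingleton.elim (α := Spec (CommRingCat.of K)) _ _)
  let T := Points.pointObj (H ⊗ H) p
  let a : T ⟶ G := Points.pointHom (H ⊗ H) p ≫ fst H H ≫ f
  let b : T ⟶ G := Points.pointHom (H ⊗ H) p ≫ snd H H ≫ f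
  have ha : ∀ t, a.left t = f.left h := fun t => by
    simp only [a, Points.comp_apply]
    exact congrArg f.left ((congrArg (fst H H).left (Points.pointHom_apply (H ⊗ H) p t)).trans hp₁)
  have hb : ∀ t, b.left t = f.left h₀ := fun t => by
    simp only [b, Points.comp_apply]
    exact congrArg f.left ((congrArg (snd H H).left (Points.pointHom_apply (H ⊗ H) p t)).trans hp₂)
  let g : T ⟶ G := a⁻¹ * b
  let w : T ⟶ H := Points.pointHom (H ⊗ H) p ≫ ((fst H H)⁻¹ * snd H H)
  have hg : g = w ≫ f := by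
    simp only [g, a, b, w, Category.assoc, ← GrpObj.comp_inv, ← MonObj.comp_mul, MonObj.mul_comp,
      GrpObj.inv_comp]
  let e : T ⊗ G ⟶ G := (Points.rightShear g).hom ≫ snd T G
  have he : ∀ {P : Over (Spec (CommRingCat.of K))} (q : P ⟶ T ⊗ G),
      q ≫ e = (q ≫ snd T G) * (q ≫ fst T G ≫ g) := by
    intro P q
    simp [e, Points.rightShear, MonObj.comp_mul]
  obtain ⟨t⟩ := (inferInstance : Nonempty T.left)
  refine ⟨(snd T G).left '' (e.left ⁻¹' W), ?_, ⟨(lift (𝟙 T) a).left t, ?_, ?_⟩, ?_⟩
  · have : UniversallyOpen (snd T G).left := Basic.snd_left_mem @UniversallyOpen inferInstance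
    exact (snd T G).left.isOpenMap _ (hW.preimage e.left.continuous)
  · show e.left ((lift (𝟙 T) a).left t) ∈ W
    rw [← Points.comp_apply, he, lift_snd, lift_fst_assoc, Category.id_comp]
    simp only [g, mul_inv_cancel_left, hb]
    exact hvW
  · rw [← Points.comp_apply, lift_snd, ha]
  · rintro _ ⟨⟨q, hq, rfl⟩, hqc⟩
    have hinv : ∀ r ∈ (snd T G).left ⁻¹' U, e.left r ∈ U := by
      intro r hr
      refine Points.mul_mem_range f (Points.pointHom (T ⊗ G) r ≫ snd T G)
        (Points.pointHom (T ⊗ G) r ≫ fst T G ≫ g) (fun s => ?_) (fun s => ?_) _ (fun s => ?_)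
      · rw [Points.comp_apply, Points.pointHom_apply]; exact hr
      · rw [hg, Points.comp_apply, Points.comp_apply, Points.comp_apply]; exact ⟨_, rfl⟩
      · rw [← he, Points.comp_apply, Points.pointHom_apply]
    have hqc' : e.left q ∈ closure U := by
      have hop : IsOpenMap (snd T G).left :=
        have : UniversallyOpen (snd T G).left := Basic.snd_left_mem @UniversallyOpen inferInstance
        Scheme.Hom.isOpenMap _
      have : q ∈ closure ((snd T G).left ⁻¹' U) := by
        rw [← hop.preimage_closure_eq_closure_preimage (snd T G).left.continuous]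
        exact hqc
      exact map_mem_closure e.left.continuous this hinv
    let P := Points.pointHom (T ⊗ G) q
    refine Points.mul_mem_range f (P ≫ e) ((P ≫ fst T G ≫ g)⁻¹) (fun s => ?_) (fun s => ?_) _
      (fun s => ?_)
    · rw [Points.comp_apply, Points.pointHom_apply]; exact hsub ⟨hq, hqc'⟩
    · rw [Points.inv_left_apply]
      refine Points.inv_mem_range f ?_
      rw [hg, Points.comp_apply, Points.comp_apply, Points.comp_apply]; exact ⟨_, rfl⟩
    · rw [he, mul_inv_cancel_right, Points.comp_apply, Points.pointHom_apply]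

/-- The image of a quasi-compact homomorphism of group schemes locally of finite type over a field
is closed. -/
theorem isClosed_range [LocallyOfFiniteType H.hom] [LocallyOfFiniteType G.hom]
    [QuasiCompact f.left] : IsClosed (Set.range f.left) := by
  refine Points.isClosed_range_of_isLocallyClosed f (isLocallyClosed_range f
    (exists_open_inter_closure_subset' ?_ ⟨_, η[H].left (IsLocalRing.closedPoint K), rfl⟩))
  have := GrpdLib.GrpOver.lfp_left f
  simpa using f.left.isLocallyConstructible_image (IsConstructible.univ.isLocallyConstructible)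

end Groth.Agent.GrpScheme.ClosedImage
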