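import Groth.Agent.GrpScheme.Points
import Groth.Agent.FBase.BC
import Groth.Agent.FBase.BC2
import Groth.Agent.SchPoints.Basic
import Mathlib.AlgebraicGeometry.IdealSheaf.Functorial

/-!
# Irreducible components of group schemes over a field

Through every point of a group scheme over a field passes a unique irreducible component, and the
component of the unit is geometrically irreducible.
-/

set_option autoImplicit false

universe u

open CategoryTheory MonoidalCategory CartesianMonoidalCategory MonObj GrpObj AlgebraicGeometry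
  Limits

namespace Groth.Agent.GrpScheme.Component

section Topology

variable {X : Type*} [TopologicalSpace X]

/-- `a` has no nontrivial generalization. -/
def IsMaxGen (a : X) : Prop := ∀ w, w ⤳ a → w = a

/-- `x` has at most one maximal generalization. -/
def UniqueComp (x : X) : Prop := ∀ a b, IsMaxGen a → IsMaxGen b → a ⤳ x → b ⤳ x → a = b

lemma isMaxGen_iff [T0Space X] [QuasiSober X] {a : X} :
    IsMaxGen a ↔ closure {a} ∈ irreducibleComponents X := by
  rw [SchPoints.closure_mem_irreducibleComponents_iff]
  exact ⟨fun h w hw => by rw [h w hw],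
    fun h w hw => (hw.antisymm (h w hw)).eq⟩

lemma exists_isMaxGen [T0Space X] [QuasiSober X] (x : X) : ∃ a, IsMaxGen a ∧ a ⤳ x := by
  obtain ⟨a, ha⟩ := QuasiSober.sober (isIrreducible_irreducibleComponent (x := x))
    isClosed_irreducibleComponent
  refine ⟨a, isMaxGen_iff.mpr ?_, ha.specializes mem_irreducibleComponent⟩
  rw [ha.def]
  exact irreducibleComponent_mem_irreducibleComponents x

lemma uniqueComp_homeomorph {Y : Type*} [TopologicalSpace Y] (e : X ≃ₜ Y) {x : X}
    (h : UniqueComp x) : UniqueComp (e x) := by
  intro a b ha hb hax hbx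
  have hm : ∀ c, IsMaxGen c → IsMaxGen (e.symm c) := fun c hc w hw => by
    rw [← hc (e w) (by simpa using hw.map e.continuous), e.symm_apply_apply]
  have := h (e.symm a) (e.symm b) (hm a ha) (hm b hb)
    (by simpa using hax.map e.symm.continuous) (by simpa using hbx.map e.symm.continuous)
  simpa using congrArg e this

end Topology

variable {K : Type u} [Field K]

lemma exists_eq_one {G T : Over (Spec (CommRingCat.of K))} [GrpObj G] [Nonempty T.left] (g : T ⟶ G)
    (hg : ∀ t, g.left t = η[G].left (IsLocalRing.closedPoint K)) :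
    ∃ (T' : Over (Spec (CommRingCat.of K))) (_ : Nonempty T'.left) (π : T' ⟶ T), π ≫ g = 1 := by
  obtain ⟨T', hT', π, h, e⟩ := Points.exists_lift η[G] g fun t => ⟨_, (hg t).symm⟩
  exact ⟨T', hT', π, by rw [← e, Hom.one_def, toUnit_unique h (toUnit T')]⟩

/-- The reduced closed subscheme on a closed set, over the base. -/
noncomputable abbrev redSub (G : Over (Spec (CommRingCat.of K))) (Z : TopologicalSpace.Closeds G.left) :
    Over (Spec (CommRingCat.of K)) :=
  Over.mk ((Scheme.IdealSheafData.vanishingIdeal Z).subschemeι ≫ G.hom)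

lemma uniqueComp_unit_of_isAlgClosed [IsAlgClosed K] (G : Over (Spec (CommRingCat.of K))) [GrpObj G] :
    UniqueComp (η[G].left (IsLocalRing.closedPoint K)) := by
  set e := η[G].left (IsLocalRing.closedPoint K) with he
  intro a b ha hb hae hbe
  let Z₁ : TopologicalSpace.Closeds G.left := ⟨closure {a}, isClosed_closure⟩
  let Z₂ : TopologicalSpace.Closeds G.left := ⟨closure {b}, isClosed_closure⟩
  let A := redSub G Z₁
  let B := redSub G Z₂
  let ia : A ⟶ G := Over.homMk (Scheme.IdealSheafData.vanishingIdeal Z₁).subschemeι rfl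
  let ib : B ⟶ G := Over.homMk (Scheme.IdealSheafData.vanishingIdeal Z₂).subschemeι rfl
  have hra : Set.range ia.left = closure {a} :=
    (Scheme.IdealSheafData.range_subschemeι _).trans
      (Scheme.IdealSheafData.coe_support_vanishingIdeal _)
  have hrb : Set.range ib.left = closure {b} :=
    (Scheme.IdealSheafData.range_subschemeι _).trans
      (Scheme.IdealSheafData.coe_support_vanishingIdeal _)
  have hirr : ∀ {W : Over (Spec (CommRingCat.of K))} (i : W ⟶ G) [IsClosedImmersion i.left] (c : G.left),
      Set.range i.left = closure {c} → IrreducibleSpace W.left := by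
    intro W i _ c hc
    rw [i.left.isClosedEmbedding.isEmbedding.toHomeomorph.irreducibleSpace_iff,
      ← isIrreducible_iff_irreducibleSpace, hc]
    exact isIrreducible_singleton.closure
  have : IsClosedImmersion ia.left :=
    inferInstanceAs (IsClosedImmersion (Scheme.IdealSheafData.vanishingIdeal Z₁).subschemeι)
  have : IsClosedImmersion ib.left :=
    inferInstanceAs (IsClosedImmersion (Scheme.IdealSheafData.vanishingIdeal Z₂).subschemeι)
  have : IrreducibleSpace A.left := hirr ia a hra
  have : IrreducibleSpace B.left := hirr ib b hrb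
  have : GeometricallyIrreducible A.hom := FBase.BC.geometricallyIrreducible_of_isSepClosed A.hom
  have : IrreducibleSpace (A ⊗ B).left := inferInstanceAs (IrreducibleSpace ↥(pullback A.hom B.hom))
  let M : A ⊗ B ⟶ G := (fst A B ≫ ia) * (snd A B ≫ ib)
  have hM : IsIrreducible (Set.range M.left) := by
    rw [← Set.image_univ]
    exact (IrreducibleSpace.isIrreducible_univ _).image _ M.left.continuous.continuousOn
  -- both components lie in the image
  have h₁ : closure {a} ⊆ closure (Set.range M.left) := by
    refine fun z hz => subset_closure ?_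
    obtain ⟨x, rfl⟩ := hra.symm ▸ hz
    obtain ⟨y, hy⟩ : e ∈ Set.range ib.left := hrb.symm ▸ specializes_iff_mem_closure.mp hbe
    obtain ⟨q, hq₁, hq₂⟩ := Scheme.Pullback.exists_preimage_pullback (f := A.hom) (g := B.hom) x y
      (Subsingleton.elim (α := Spec (CommRingCat.of K)) _ _)
    let p := Points.pointHom (A ⊗ B) q
    obtain ⟨T', ⟨t⟩, π, hπ⟩ := exists_eq_one (p ≫ snd A B ≫ ib) fun s => by
      rw [Points.comp_apply, Points.comp_apply, Points.pointHom_apply]
      exact (congrArg ib.left hq₂).trans hy
    refine ⟨q, ?_⟩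
    have h := congr(($(show π ≫ p ≫ M = π ≫ p ≫ fst A B ≫ ia by
      rw [MonObj.comp_mul, MonObj.comp_mul, hπ, _root_.mul_one])).left t)
    simp only [Points.comp_apply, p, Points.pointHom_apply] at h
    rw [h]
    exact congrArg ia.left hq₁
  have h₂ : closure {b} ⊆ closure (Set.range M.left) := by
    refine fun z hz => subset_closure ?_
    obtain ⟨y, rfl⟩ := hrb.symm ▸ hz
    obtain ⟨x, hx⟩ : e ∈ Set.range ia.left := hra.symm ▸ specializes_iff_mem_closure.mp hae
    obtain ⟨q, hq₁, hq₂⟩ := Scheme.Pullback.exists_preimage_pullback (f := A.hom) (g := B.hom) x y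
      (Subsingleton.elim (α := Spec (CommRingCat.of K)) _ _)
    let p := Points.pointHom (A ⊗ B) q
    obtain ⟨T', ⟨t⟩, π, hπ⟩ := exists_eq_one (p ≫ fst A B ≫ ia) fun s => by
      rw [Points.comp_apply, Points.comp_apply, Points.pointHom_apply]
      exact (congrArg ia.left hq₁).trans hx
    refine ⟨q, ?_⟩
    have h := congr(($(show π ≫ p ≫ M = π ≫ p ≫ snd A B ≫ ib by
      rw [MonObj.comp_mul, MonObj.comp_mul, hπ, _root_.one_mul])).left t)
    simp only [Points.comp_apply, p, Points.pointHom_apply] at h
    rw [h]
    exact congrArg ib.left hq₂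
  have e₁ := (isMaxGen_iff.mp ha).2 hM.closure h₁
  have e₂ := (isMaxGen_iff.mp hb).2 hM.closure h₂
  have : closure {a} = closure {b} :=
    (Set.Subset.antisymm h₁ e₁).trans (Set.Subset.antisymm e₂ h₂)
  exact (inseparable_iff_closure_eq.mpr this).eq

section BaseChange

variable (L : Type u) [Field L] [Algebra K L] (G : Over (Spec (CommRingCat.of K))) [GrpObj G]

/-- Base change of `G` to an extension field. -/
noncomputable abbrev bcL : Over (Spec (CommRingCat.of L)) :=
  (Over.pullback (FBase.BC.specMap K L)).obj G

noncomputable instance : GrpObj (bcL L G) := Functor.grpObjObj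

/-- The projection from the base change. -/
noncomputable abbrev proj : (bcL L G).left ⟶ G.left := pullback.fst G.hom (FBase.BC.specMap K L)

lemma eq_of_proj_eq_unit {z z' : (bcL L G).left}
    (hz : proj L G z = η[G].left (IsLocalRing.closedPoint K))
    (hz' : proj L G z' = η[G].left (IsLocalRing.closedPoint K)) : z = z' := by
  let f := FBase.BC.specMap K L
  have hsq : IsPullback ((Over.pullback f).map η[G]).left
      (pullback.fst (𝟙_ (Over (Spec (CommRingCat.of K)))).hom f) (proj L G) η[G].left := by
    refine IsPullback.of_right (h₁₂ := pullback.snd G.hom f) (h₂₂ := G.hom) (v₁₃ := f) ?_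
      (pullback.lift_fst _ _ _) (IsPullback.of_hasPullback G.hom f).flip
    rw [Over.w η[G]]
    have : ((Over.pullback f).map η[G]).left ≫ pullback.snd G.hom f =
        pullback.snd (𝟙_ (Over (Spec (CommRingCat.of K)))).hom f :=
      (pullback.lift_snd _ _ _)
    rw [this]
    exact (IsPullback.of_hasPullback _ f).flip
  have hss : Subsingleton ↥(pullback (𝟙_ (Over (Spec (CommRingCat.of K)))).hom f) :=
    have : IsIso (pullback.snd (𝟙_ (Over (Spec (CommRingCat.of K)))).hom f) :=
      inferInstanceAs (IsIso (pullback.snd (𝟙 _) f))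
    (pullback.snd (𝟙_ (Over (Spec (CommRingCat.of K)))).hom f).homeomorph.injective.subsingleton
  obtain ⟨p, hp, -⟩ := Scheme.exists_preimage_of_isPullback hsq z _ hz
  obtain ⟨p', hp', -⟩ := Scheme.exists_preimage_of_isPullback hsq z' _ hz'
  rw [← hp, ← hp']
  exact congrArg _ (hss.elim _ _)

lemma proj_unit : proj L G (η[bcL L G].left (IsLocalRing.closedPoint L)) =
    η[G].left (IsLocalRing.closedPoint K) := by
  let f := FBase.BC.specMap K L
  have : η[bcL L G].left ≫ proj L G =
      (Functor.LaxMonoidal.ε (Over.pullback f)).left ≫ pullback.fst _ f ≫ η[G].left := by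
    rw [Functor.obj.η_def, Over.comp_left, Category.assoc]
    exact congrArg _ (pullback.lift_fst _ _ _)
  refine ((Scheme.Hom.comp_apply _ _ _).symm.trans (congr(($this) (IsLocalRing.closedPoint L)))).trans ?_
  refine (Scheme.Hom.comp_apply _ _ _).trans ((Scheme.Hom.comp_apply _ _ _).trans ?_)
  exact congrArg η[G].left (Subsingleton.elim (α := Spec (CommRingCat.of K)) _ _)

instance : Flat (proj L G) :=
  inferInstanceAs (Flat (pullback.fst G.hom (FBase.BC.specMap K L)))

omit [GrpObj G] in
lemma exists_isMaxGen_lift {z : (bcL L G).left} {a : G.left} (ha : IsMaxGen a)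
    (haz : a ⤳ proj L G z) : ∃ a', IsMaxGen a' ∧ a' ⤳ z ∧ proj L G a' = a := by
  obtain ⟨a₁, h₁, e₁⟩ := Flat.generalizingMap (proj L G) haz
  obtain ⟨a₀, h₀, h₀₁⟩ := exists_isMaxGen a₁
  exact ⟨a₀, h₀, h₀₁.trans h₁, ha _ (e₁ ▸ h₀₁.map (proj L G).continuous)⟩

end BaseChange

/-- Through every point of a group scheme over a field passes a unique irreducible component. -/
theorem uniqueComp (G : Over (Spec (CommRingCat.of K))) [GrpObj G] (x : G.left) : UniqueComp x := by
  let φ : K →+* G.left.residueField x :=
    (Spec.preimage (G.left.fromSpecResidueField x ≫ G.hom)).hom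
  let L := AlgebraicClosure (G.left.residueField x)
  let : Algebra K L := ((algebraMap (G.left.residueField x) L).comp φ).toAlgebra
  let y : Spec (CommRingCat.of L) ⟶ G.left :=
    Spec.map (CommRingCat.ofHom (algebraMap (G.left.residueField x) L)) ≫
      G.left.fromSpecResidueField x
  have hy : y ≫ G.hom = 𝟙 _ ≫ FBase.BC.specMap K L := by
    rw [Category.id_comp, Category.assoc, ← Spec.map_preimage (G.left.fromSpecResidueField x ≫ G.hom),
      ← Spec.map_comp]
    rfl
  let g : 𝟙_ (Over (Spec (CommRingCat.of L))) ⟶ bcL L G :=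
    Over.homMk (pullback.lift y (𝟙 _) hy) (pullback.lift_snd _ _ _)
  let pt : (bcL L G).left := g.left (IsLocalRing.closedPoint L)
  have hpt : proj L G pt = x := by
    refine (Scheme.Hom.comp_apply _ _ _).symm.trans ?_
    rw [show g.left ≫ proj L G = y from pullback.lift_fst _ _ _]
    exact (Scheme.Hom.comp_apply _ _ _).trans (Scheme.fromSpecResidueField_apply x _)
  have hptc : UniqueComp pt := by
    have := Basic.isIso_left (GrpObj.mulRight g).hom
    have he : (GrpObj.mulRight g).hom.left (η[bcL L G].left (IsLocalRing.closedPoint L)) = pt := by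
      have : η[bcL L G] ≫ (GrpObj.mulRight g).hom = g := by
        have h1 : (η[bcL L G] : 𝟙_ _ ⟶ bcL L G) = 1 := by
          rw [Hom.one_def, toUnit_unit, Category.id_comp]
        rw [GrpObj.mulRight_hom, comp_lift_assoc, Category.comp_id, comp_toUnit_assoc, toUnit_unit,
          Category.id_comp, ← Hom.mul_def, h1, _root_.one_mul]
      exact (Points.comp_apply _ _ _).symm.trans (congr(($this).left (IsLocalRing.closedPoint L)))
    rw [← he]
    exact uniqueComp_homeomorph (GrpObj.mulRight g).hom.left.homeomorph
      (uniqueComp_unit_of_isAlgClosed (bcL L G))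
  intro a b ha hb hax hbx
  obtain ⟨a', ha', haz, rfl⟩ := exists_isMaxGen_lift L G ha (z := pt) (by rw [hpt]; exact hax)
  obtain ⟨b', hb', hbz, rfl⟩ := exists_isMaxGen_lift L G hb (z := pt) (by rw [hpt]; exact hbx)
  rw [hptc a' b' ha' hb' haz hbz]

/-- The local rings of a group scheme over a field have at most one minimal prime. -/
theorem minimalPrimes_stalk_subsingleton (G : Over (Spec (CommRingCat.of K))) [GrpObj G]
    (x : G.left) : (minimalPrimes (G.left.presheaf.stalk x)).Subsingleton := by
  intro p hp q hq
  have hpp : p.IsPrime := hp.1.1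
  have hqp : q.IsPrime := hq.1.1
  have hmax : ∀ (r : Spec (G.left.presheaf.stalk x)),
      r.asIdeal ∈ minimalPrimes (G.left.presheaf.stalk x) →
        IsMaxGen (G.left.fromSpecStalk x r) := by
    intro r hr w hw
    obtain ⟨z, rfl⟩ := SchPoints.exists_fromSpecStalk_eq
      (hw.trans (SchPoints.fromSpecStalk_specializes x r))
    have hzr := (G.left.fromSpecStalk x).isEmbedding.isInducing.specializes_iff.1 hw
    have hle : z.asIdeal ≤ r.asIdeal := (PrimeSpectrum.le_iff_specializes _ _).mpr hzr
    exact congrArg _ (PrimeSpectrum.ext (le_antisymm hle (hr.2 ⟨z.isPrime, bot_le⟩ hle)))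
  have := uniqueComp G x _ _ (hmax ⟨p, hpp⟩ hp) (hmax ⟨q, hqp⟩ hq)
    (SchPoints.fromSpecStalk_specializes x _) (SchPoints.fromSpecStalk_specializes x _)
  exact congrArg PrimeSpectrum.asIdeal ((G.left.fromSpecStalk x).isEmbedding.injective this)

/-- Exactly one irreducible component passes through each point. -/
theorem existsUnique_component (G : Over (Spec (CommRingCat.of K))) [GrpObj G] (x : G.left) :
    ∃! Z : Set G.left, Z ∈ irreducibleComponents (G.left : Type u) ∧ x ∈ Z := by
  refine ⟨irreducibleComponent x,
    ⟨irreducibleComponent_mem_irreducibleComponents x, mem_irreducibleComponent⟩, ?_⟩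
  rintro Z ⟨hZ, hxZ⟩
  obtain ⟨a, ha⟩ := QuasiSober.sober hZ.1 (isClosed_of_mem_irreducibleComponents Z hZ)
  obtain ⟨b, hb⟩ := QuasiSober.sober (isIrreducible_irreducibleComponent (x := x))
    isClosed_irreducibleComponent
  have := uniqueComp G x a b (isMaxGen_iff.mpr (ha.def.symm ▸ hZ))
    (isMaxGen_iff.mpr (hb.def.symm ▸ irreducibleComponent_mem_irreducibleComponents x))
    (ha.specializes hxZ) (hb.specializes mem_irreducibleComponent)
  rw [← ha.def, ← hb.def, this]

/-- A closed subscheme supported on the component of the unit is geometrically irreducible. -/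
theorem geometricallyIrreducible_component (G : Over (Spec (CommRingCat.of K))) [GrpObj G]
    {Z : Scheme.{u}} (incl : Z ⟶ G.left) [IsClosedImmersion incl]
    (hZ : Set.range incl ∈ irreducibleComponents (G.left : Type u))
    (he : η[G].left (IsLocalRing.closedPoint K) ∈ Set.range incl) :
    GeometricallyIrreducible (incl ≫ G.hom) := by
  let L := AlgebraicClosure K
  let f := FBase.BC.specMap K L
  set e := η[G].left (IsLocalRing.closedPoint K)
  let e' := η[bcL L G].left (IsLocalRing.closedPoint L)
  have he' : proj L G e' = e := proj_unit L G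
  have huniq : UniqueComp e' := uniqueComp_unit_of_isAlgClosed (bcL L G)
  obtain ⟨η₀, hη₀⟩ := QuasiSober.sober hZ.1 incl.isClosedEmbedding.isClosed_range
  have hη₀max : IsMaxGen η₀ := isMaxGen_iff.mpr (hη₀.def.symm ▸ hZ)
  have : IsIntegralHom (proj L G) :=
    inferInstanceAs (IsIntegralHom (pullback.fst G.hom (FBase.BC.specMap K L)))
  obtain ⟨a₀, ha₀, ha₀e⟩ := exists_isMaxGen e'
  have key : ∀ w, proj L G w ∈ Set.range incl → a₀ ⤳ w ∧ proj L G a₀ = η₀ := by
    intro w hw
    obtain ⟨w₁, hw₁max, hw₁, hpw₁⟩ := exists_isMaxGen_lift L G hη₀max (hη₀.specializes hw)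
    have hcl : IsClosed (proj L G '' closure {w₁}) := (proj L G).isClosedMap _ isClosed_closure
    have : e ∈ proj L G '' closure {w₁} := by
      have h : closure {η₀} ⊆ proj L G '' closure {w₁} :=
        hcl.closure_subset_iff.mpr (Set.singleton_subset_iff.mpr ⟨w₁, subset_closure rfl, hpw₁⟩)
      exact h (specializes_iff_mem_closure.mp (hη₀.specializes he))
    obtain ⟨z, hz, hze⟩ := this
    have hze' : z = e' := eq_of_proj_eq_unit L G hze he'
    subst hze'
    have := huniq a₀ w₁ ha₀ hw₁max ha₀e (specializes_iff_mem_closure.mpr hz)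
    subst this
    exact ⟨hw₁, hpw₁⟩
  let i : pullback (incl ≫ G.hom) f ⟶ (bcL L G).left :=
    pullback.map (incl ≫ G.hom) f G.hom f incl (𝟙 _) (𝟙 _) (by simp) (by simp)
  have hi : IsPullback i (pullback.fst (incl ≫ G.hom) f) (proj L G) incl := by
    refine IsPullback.of_right (h₁₂ := pullback.snd G.hom f) (h₂₂ := G.hom) (v₁₃ := f) ?_
      (pullback.lift_fst _ _ _) (IsPullback.of_hasPullback G.hom f).flip
    rw [show i ≫ pullback.snd G.hom f = pullback.snd (incl ≫ G.hom) f from
      (pullback.lift_snd _ _ _).trans (Category.comp_id _)]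
    exact (IsPullback.of_hasPullback _ f).flip
  have : IsClosedImmersion i := MorphismProperty.of_isPullback hi.flip ‹_›
  have hrange : Set.range i = closure {a₀} := by
    have hr : Set.range i = proj L G ⁻¹' Set.range incl := by
      refine Set.Subset.antisymm ?_ fun w ⟨z, hz⟩ => ?_
      · rintro _ ⟨q, rfl⟩
        exact ⟨_, ((Scheme.Hom.comp_apply _ _ _).symm.trans (congr(($hi.w) q))).trans
          (Scheme.Hom.comp_apply _ _ _) |>.symm⟩
      · obtain ⟨q, hq, -⟩ := Scheme.exists_preimage_of_isPullback hi w z hz.symm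
        exact ⟨q, hq⟩
    rw [hr]
    refine Set.Subset.antisymm (fun w hw => specializes_iff_mem_closure.mp (key w hw).1) ?_
    refine (incl.isClosedEmbedding.isClosed_range.preimage
      (proj L G).continuous).closure_subset_iff.mpr (Set.singleton_subset_iff.mpr ?_)
    show proj L G a₀ ∈ Set.range incl
    rw [(key e' (he'.symm ▸ he)).2]
    exact hη₀.mem
  have : IrreducibleSpace ↥(pullback (incl ≫ G.hom) f) := by
    rw [i.isClosedEmbedding.isEmbedding.toHomeomorph.irreducibleSpace_iff,
      ← isIrreducible_iff_irreducibleSpace, hrange]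
    exact isIrreducible_singleton.closure
  exact (FBase.BC.geometricallyIrreducible_iff (K := L) _).mpr
    (FBase.BC.geometricallyIrreducible_of_isSepClosed (pullback.snd (incl ≫ G.hom) f))

/-- An irreducible group scheme over a field is geometrically irreducible. -/
theorem geometricallyIrreducible_of_irreducibleSpace (G : Over (Spec (CommRingCat.of K))) [GrpObj G]
    [IrreducibleSpace G.left] : GeometricallyIrreducible G.hom := by
  have := geometricallyIrreducible_component G (𝟙 G.left)
    (by simp [irreducibleComponents_eq_singleton]) (by simp)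
  simpa using this

end Groth.Agent.GrpScheme.Component
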