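import Groth.Agent.GrpScheme.Basic
import Groth.Agent.GrpdLib.GrpOver

/-!
# Kernel pairs of homomorphisms of group schemes
-/

set_option autoImplicit false

universe u

open CategoryTheory MonoidalCategory CartesianMonoidalCategory MonObj GrpObj AlgebraicGeometry
  Limits

namespace Groth.Agent.GrpScheme.KernelPair

variable {S : Scheme.{u}} {N G Q : Over S} [GrpObj G] [GrpObj Q] {i : N ⟶ G} {q : G ⟶ Q}
  [IsMonHom q]

/-- The kernel pair of a homomorphism is `G ⊗ N`. -/
lemma isPullback (h : AlgGrp.IsKernel i q) :
    IsPullback (fst G N) (fst G N * (snd G N ≫ i)) q q where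
  w := by
    rw [MonObj.mul_comp, GrpdLib.GrpOver.comp_kernel_comp h, _root_.mul_one]
  isLimit' := ⟨PullbackCone.IsLimit.mk _
    (fun s => lift s.fst (h.lift (s.fst⁻¹ * s.snd) (toUnit _) (by
      rw [MonObj.mul_comp, GrpObj.inv_comp, s.condition, inv_mul_cancel, Hom.one_def])))
    (fun s => lift_fst _ _)
    (fun s => by
      rw [MonObj.comp_mul, lift_fst, lift_snd_assoc, h.lift_fst, mul_inv_cancel_left])
    (fun s m h₁ h₂ => by
      refine CartesianMonoidalCategory.hom_ext _ _ (by rw [lift_fst]; exact h₁) ?_
      rw [lift_snd]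
      refine h.hom_ext ?_ (toUnit_unique _ _)
      rw [h.lift_fst, ← h₁, ← h₂, MonObj.comp_mul, Category.assoc, inv_mul_cancel_left])⟩

/-- A property of the structure morphism of the kernel holds for `q`, if it descends along `q`. -/
lemma mem_of_kernel (h : AlgGrp.IsKernel i q) (P P' : MorphismProperty Scheme.{u})
    [P.IsStableUnderBaseChange] [P.DescendsAlong P'] (hq : P' q.left) (hN : P N.hom) : P q.left := by
  have h₁ : P (fst G N).left := MorphismProperty.pullback_fst G.hom N.hom hN
  exact MorphismProperty.of_isPullback_of_descendsAlong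
    (GrpdLib.GrpOver.isPullback_left (isPullback h)) hq h₁

end Groth.Agent.GrpScheme.KernelPair
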