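import Groth.Agent.GrpScheme.Basic
import Mathlib.AlgebraicGeometry.Group.Smooth
import Mathlib.AlgebraicGeometry.Morphisms.SmoothFiber
import Mathlib.RingTheory.LocalProperties.Reduced

/-!
# Smoothness criteria for group schemes locally of finite type over a field
-/

set_option autoImplicit false

universe u

open CategoryTheory MonoidalCategory CartesianMonoidalCategory MonObj GrpObj AlgebraicGeometry
  Limits

namespace Groth.Agent.GrpScheme.Smooth

variable {K : Type u} [Field K]

/-- Over an algebraically closed field, translations act transitively on closed points. -/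
lemma exists_translation [IsAlgClosed K] (G : Over (Spec (CommRingCat.of K))) [GrpObj G]
    [LocallyOfFiniteType G.hom] (x y : G.left) (hx : IsClosed {x}) (hy : IsClosed {y}) :
    ∃ α : G ≅ G, α.hom.left x = y := by
  let x' : 𝟙_ _ ⟶ G := Over.homMk _ ((pointEquivClosedPoint G.hom).symm ⟨x, hx⟩).2
  let y' : 𝟙_ _ ⟶ G := Over.homMk _ ((pointEquivClosedPoint G.hom).symm ⟨y, hy⟩).2
  refine ⟨(GrpObj.mulRight x').symm ≪≫ GrpObj.mulRight y', ?_⟩
  have hα : x' ≫ ((GrpObj.mulRight x').symm ≪≫ GrpObj.mulRight y').hom = y' := by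
    dsimp only [Iso.trans_hom, Iso.symm_hom]
    rw [← Category.assoc, ← Iso.eq_comp_inv]
    simp [comp_lift_assoc]
  have h := congr(($hα).left (IsLocalRing.closedPoint K))
  rw [Over.comp_left] at h
  have hx' : x'.left (IsLocalRing.closedPoint K) = x :=
    pointOfClosedPoint_apply G.hom x hx _
  have hy' : y'.left (IsLocalRing.closedPoint K) = y :=
    pointOfClosedPoint_apply G.hom y hy _
  rw [← hx', ← hy']
  exact (Scheme.Hom.comp_apply _ _ _).symm.trans h

lemma smooth_of_nonempty_smoothLocus_isAlgClosed [IsAlgClosed K]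
    (G : Over (Spec (CommRingCat.of K))) [GrpObj G] [LocallyOfFiniteType G.hom]
    (hne : (G.hom.smoothLocus : Set G.left).Nonempty) : Smooth G.hom := by
  have := LocallyOfFiniteType.jacobsonSpace G.hom
  rw [← Scheme.Hom.smoothLocus_eq_top_iff, ← TopologicalSpace.Opens.coe_eq_univ,
    ← not_ne_iff, ← Set.nonempty_compl]
  intro H
  obtain ⟨x, hx, hxc⟩ :=
    nonempty_inter_closedPoints H G.hom.smoothLocus.2.isClosed_compl.isLocallyClosed
  obtain ⟨y, hy : y ∈ G.hom.smoothLocus, hyc⟩ := nonempty_inter_closedPoints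
    hne G.hom.smoothLocus.2.isLocallyClosed
  obtain ⟨α, hα⟩ := exists_translation G x y hxc hyc
  have : IsOpenImmersion α.hom.left :=
    have := Basic.isIso_left α.hom
    inferInstance
  rw! [← hα, ← α.hom.left.mem_preimage, Scheme.Hom.preimage_smoothLocus_eq, Over.w α.hom] at hy
  exact hx hy

/-- A group scheme locally of finite type over a field with a smooth point is smooth. -/
lemma smooth_of_nonempty_smoothLocus
    (G : Over (Spec (CommRingCat.of K))) [GrpObj G] [LocallyOfFiniteType G.hom]
    (hne : (G.hom.smoothLocus : Set G.left).Nonempty) : AlgebraicGeometry.Smooth G.hom := by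
  let Ω : Type u := AlgebraicClosure K
  let g : Spec (.of Ω) ⟶ Spec (.of K) := Spec.map (CommRingCat.ofHom <| algebraMap K Ω)
  apply MorphismProperty.of_pullback_snd_of_descendsAlong
    (Q := @Surjective ⊓ @Flat ⊓ @QuasiCompact) (g := g)
  · exact ⟨⟨inferInstance, inferInstance⟩, inferInstance⟩
  let : GrpObj (Over.mk G.hom) := ‹GrpObj G›
  let : GrpObj (Over.mk (pullback.snd G.hom g)) := Over.grpObjMkPullbackSnd
  have : LocallyOfFiniteType (Over.mk (pullback.snd G.hom g)).hom :=
    inferInstanceAs (LocallyOfFiniteType (pullback.snd G.hom g))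
  refine smooth_of_nonempty_smoothLocus_isAlgClosed (Over.mk (pullback.snd G.hom g)) ?_
  obtain ⟨x, hx⟩ := hne
  obtain ⟨z, hz⟩ := (pullback.fst G.hom g).surjective x
  refine ⟨z, ?_⟩
  set U := G.hom.smoothLocus with hU
  have hUs : AlgebraicGeometry.Smooth (U.ι ≫ G.hom) := by
    rw [← Scheme.Hom.smoothLocus_eq_top_iff, ← Scheme.Hom.preimage_smoothLocus_eq]
    exact U.ι_preimage_self
  have hzU : z ∈ pullback.fst G.hom g ⁻¹ᵁ U := by simpa [hz] using hx
  let V := pullback.fst G.hom g ⁻¹ᵁ U
  have hV : AlgebraicGeometry.Smooth (V.ι ≫ pullback.snd G.hom g) := by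
    have h₁ : IsPullback (pullback.fst G.hom g ∣_ U) V.ι U.ι (pullback.fst G.hom g) :=
      isPullback_morphismRestrict _ _
    exact MorphismProperty.of_isPullback
      (h₁.paste_vert (IsPullback.of_hasPullback G.hom g)) hUs
  show z ∈ (pullback.snd G.hom g).smoothLocus
  have hle := Scheme.Hom.preimage_smoothLocus_eq V.ι (pullback.snd G.hom g)
  rw [Scheme.Hom.smoothLocus_eq_top_iff.mpr hV] at hle
  have : (⟨z, hzU⟩ : V.toScheme) ∈ V.ι ⁻¹ᵁ (pullback.snd G.hom g).smoothLocus := by
    rw [hle]; trivial
  exact this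

/-- A reduced group scheme locally of finite type over a perfect field is smooth. -/
lemma smooth_of_perfectField [PerfectField K] (G : Over (Spec (CommRingCat.of K))) [GrpObj G]
    [LocallyOfFiniteType G.hom] [IsReduced G.left] : AlgebraicGeometry.Smooth G.hom := by
  have : Nonempty G.left := ⟨η[G].left (IsLocalRing.closedPoint K)⟩
  exact smooth_of_nonempty_smoothLocus G G.hom.dense_smoothLocus_of_perfectField.nonempty

/-- A flat, locally finitely presented group scheme with smooth fibres is smooth. -/
lemma smooth_of_fibres {S : Scheme.{u}} (G : Over S) [GrpObj G] [Flat G.hom]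
    [LocallyOfFinitePresentation G.hom]
    (h : ∀ (s : S) (H : Over (Spec (S.residueField s))) [GrpObj H] [LocallyOfFiniteType H.hom],
      (∀ P : MorphismProperty Scheme.{u}, P.IsStableUnderBaseChange → P G.hom → P H.hom) →
      AlgebraicGeometry.Smooth H.hom) :
    AlgebraicGeometry.Smooth G.hom := by
  refine Smooth.of_smooth_fiberToSpecResidueField _ fun s => ?_
  let : GrpObj (Over.mk G.hom) := ‹GrpObj G›
  let : GrpObj (Over.mk (pullback.snd G.hom (S.fromSpecResidueField s))) := Over.grpObjMkPullbackSnd
  have : LocallyOfFiniteType (Over.mk (pullback.snd G.hom (S.fromSpecResidueField s))).hom :=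
    inferInstanceAs (LocallyOfFiniteType (pullback.snd G.hom (S.fromSpecResidueField s)))
  exact h s (Over.mk (pullback.snd G.hom (S.fromSpecResidueField s))) fun P _ hP =>
    P.pullback_snd _ _ hP

end Groth.Agent.GrpScheme.Smooth
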