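import Groth.Agent.GrpScheme.QuasiAffine
import Groth.Agent.GrpScheme.SubgroupObj
import Groth.Agent.GrpScheme.ClosedImage
import Groth.Agent.GrpScheme.KernelPair
import Groth.Agent.GrpScheme.Component
import Groth.Agent.GrpScheme.IdComponent
import Groth.Agent.GrpScheme.Smooth
import Groth.Agent.FlatMisc.GenericFlat
import Groth.Agent.AffThick.Nil
import Groth.Agent.FpqcDesc.Props
import Groth.Prelude.Def_AlgGrp
import Groth.Prelude.Def_Mor2
import Groth.Agent.RedSub.Basic

/-!
# Homomorphisms with affine kernel pair are affine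
-/

set_option autoImplicit false
set_option backward.isDefEq.respectTransparency false

universe u

open CategoryTheory MonoidalCategory CartesianMonoidalCategory MonObj GrpObj AlgebraicGeometry
  Limits TopologicalSpace

namespace Groth.Agent.GrpScheme.AffineHom

/-- The kernel of a homomorphism. -/
theorem exists_kernel {S : Scheme.{u}} {G Q : Over S} [GrpObj G] [GrpObj Q] (q : G ⟶ Q)
    [IsMonHom q] :
    ∃ (N : Over S) (_ : GrpObj N) (i : N ⟶ G) (_ : IsMonHom i), AlgGrp.IsKernel i q := by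
  let N := pullback q η[Q]
  let i : N ⟶ G := pullback.fst q η[Q]
  have hker : AlgGrp.IsKernel i q := by
    show IsPullback i (toUnit N) q η[Q]
    rw [toUnit_unique (toUnit N) (pullback.snd q η[Q])]
    exact IsPullback.of_hasPullback q η[Q]
  have : Mono η[Q] := (IsSplitMono.mk' ⟨toUnit Q, toUnit_unique _ _⟩).mono
  have : Mono i := inferInstanceAs (Mono (pullback.fst q η[Q]))
  have hi : i ≫ q = 1 := by rw [hker.w, Hom.one_def]
  obtain ⟨g, hg⟩ := SubgroupObj.exists_grpObj i
    (GrpdLib.GrpOver.kernel_factor hker ((i ⊗ₘ i) ≫ μ[G]) (by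
      rw [Category.assoc, IsMonHom.mul_hom, ← Category.assoc, tensorHom_comp_tensorHom, hi,
        Hom.one_def]
      rw [show ((toUnit N ≫ η[Q]) ⊗ₘ (toUnit N ≫ η[Q])) = lift (1 : N ⊗ N ⟶ Q) 1 by
        refine CartesianMonoidalCategory.hom_ext _ _ ?_ ?_ <;>
          simp [Hom.one_def, comp_toUnit_assoc], ← Hom.mul_def, _root_.one_mul]))
    (GrpdLib.GrpOver.kernel_factor hker η[G] (by
      rw [IsMonHom.one_hom, Hom.one_def, toUnit_unique (toUnit _) (𝟙 _), Category.id_comp]))
    (GrpdLib.GrpOver.kernel_factor hker (i ≫ ι[G]) (by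
      rw [GrpObj.inv_eq_inv, GrpObj.comp_inv, Category.comp_id, GrpObj.inv_comp, hi, inv_one]))
  exact ⟨N, g, i, hg, hker⟩

variable {K : Type u} [Field K]

/-- A quasi-affine homomorphism has an affine kernel pair. -/
theorem isAffineHom_snd {P Q : Over (Spec (CommRingCat.of K))} [GrpObj P] [GrpObj Q]
    (f : P ⟶ Q) [IsMonHom f] (hf : Mor2.IsQuasiAffine f.left) :
    IsAffineHom (pullback.snd f.left f.left) := by
  obtain ⟨N, _, i, _, hker⟩ := exists_kernel f
  let e : Q.left := η[Q].left (IsLocalRing.closedPoint K)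
  obtain ⟨_, ⟨V, hV, rfl⟩, heV, -⟩ := Q.left.isBasis_affineOpens.exists_subset_of_mem_open
    (Set.mem_univ e) isOpen_univ
  have hsq := GrpdLib.GrpOver.isPullback_left hker
  have hsep := IdComponent.isSeparated Q
  have hη : IsClosedImmersion η[Q].left := by
    have : IsClosedImmersion (η[Q].left ≫ Q.hom) := by
      rw [Over.w η[Q]]; exact inferInstanceAs (IsClosedImmersion (𝟙 _))
    exact IsClosedImmersion.of_comp η[Q].left Q.hom
  have hci : IsClosedImmersion i.left := MorphismProperty.of_isPullback hsq.flip hη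
  have hqc : QuasiCompact N.hom := by
    have : QuasiCompact (toUnit N).left := MorphismProperty.of_isPullback hsq hf.1
    exact this
  have hN : CompactSpace N.left := QuasiCompact.compactSpace_of_compactSpace N.hom
  have hrange : Set.range i.left ⊆ (f.left ⁻¹ᵁ V : P.left.Opens) := by
    rintro _ ⟨n, rfl⟩
    show f.left (i.left n) ∈ V
    have : (i ≫ f).left n = (toUnit N ≫ η[Q]).left n := by rw [hker.w]
    rw [show f.left (i.left n) = e from this.trans
      (congrArg η[Q].left (Subsingleton.elim (α := PrimeSpectrum K) _ _))]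
    exact heV
  let j := IsOpenImmersion.lift (f.left ⁻¹ᵁ V : P.left.Opens).ι i.left (by simpa using hrange)
  have : IsImmersion j := by
    have : IsImmersion (j ≫ (f.left ⁻¹ᵁ V : P.left.Opens).ι) := by
      rw [IsOpenImmersion.lift_fac]; infer_instance
    exact IsImmersion.of_comp j (f.left ⁻¹ᵁ V : P.left.Opens).ι
  have := hf.2 V hV
  have : N.left.IsQuasiAffine := Scheme.IsQuasiAffine.of_isImmersion j
  have : IsAffine N.left := QuasiAffine.isAffine N
  have h1 : IsAffineHom (fst P N).left :=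
    MorphismProperty.pullback_fst P.hom N.hom (inferInstance : IsAffineHom N.hom)
  have h2 := GrpdLib.GrpOver.isPullback_left (KernelPair.isPullback hker)
  have h3 : IsAffineHom (pullback.fst f.left f.left) := by
    rw [← h2.isoPullback_inv_fst]
    infer_instance
  exact (MorphismProperty.cancel_left_of_respectsIso @IsAffineHom
      (pullbackSymmetry f.left f.left).hom _).1 (by rwa [pullbackSymmetry_hom_comp_snd])

/-- If the base change of `g` along itself is affine, so is its base change along any morphism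
factoring through it. -/
lemma isAffineHom_snd_comp {X Y T : Scheme.{u}} (g : X ⟶ Y) (a : T ⟶ X)
    [IsAffineHom (pullback.snd g g)] : IsAffineHom (pullback.snd g (a ≫ g)) := by
  rw [← pullbackLeftPullbackSndIso_inv_snd_snd g g a]
  refine (MorphismProperty.cancel_left_of_respectsIso @IsAffineHom _ _).2 ?_
  exact MorphismProperty.pullback_snd _ _ ‹_›

/-- Over an algebraically closed field, a homomorphism with affine kernel pair is affine. -/
theorem isAffineHom_of_isAlgClosed [IsAlgClosed K] {P Q : Over (Spec (CommRingCat.of K))} [GrpObj P]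
    [GrpObj Q] [LocallyOfFiniteType P.hom] [LocallyOfFiniteType Q.hom] (f : P ⟶ Q) [IsMonHom f]
    [QuasiCompact f.left] [IsAffineHom (pullback.snd f.left f.left)] : IsAffineHom f.left := by
  classical
  have : LocallyOfFiniteType (f.left ≫ Q.hom) := by rw [Over.w f]; infer_instance
  have : LocallyOfFiniteType f.left := locallyOfFiniteType_of_comp f.left Q.hom
  have hsubK : Subsingleton ↥(Spec (CommRingCat.of K)) :=
    inferInstanceAs (Subsingleton (PrimeSpectrum K))
  have hJP : JacobsonSpace P.left := LocallyOfFiniteType.jacobsonSpace P.hom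
  have hJQ : JacobsonSpace Q.left := LocallyOfFiniteType.jacobsonSpace Q.hom
  let Z : Closeds Q.left := ⟨Set.range f.left, ClosedImage.isClosed_range f⟩
  let I := (Scheme.IdealSheafData.vanishingIdeal Z).subscheme
  let ιI : I ⟶ Q.left := (Scheme.IdealSheafData.vanishingIdeal Z).subschemeι
  have hrI : Set.range ιI = Set.range f.left :=
    (Scheme.IdealSheafData.range_subschemeι _).trans
      (Scheme.IdealSheafData.coe_support_vanishingIdeal _)
  have : IsReduced I := RedSub.isReduced_vanishingIdeal Z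
  let fI := pullback.snd f.left ιI
  let pI := pullback.fst f.left ιI
  have hpI : Surjective pI := ⟨fun x => by
    obtain ⟨y, hy⟩ : f.left x ∈ Set.range ιI := hrI ▸ ⟨x, rfl⟩
    obtain ⟨z, hz, -⟩ := Scheme.Pullback.exists_preimage_pullback (f := f.left) (g := ιI) x y hy.symm
    exact ⟨z, hz⟩⟩
  have hfI : Surjective fI := ⟨fun y => by
    obtain ⟨x, hx⟩ : ιI y ∈ Set.range f.left := hrI ▸ ⟨y, rfl⟩
    obtain ⟨z, -, hz⟩ := Scheme.Pullback.exists_preimage_pullback (f := f.left) (g := ιI) x y hx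
    exact ⟨z, hz⟩⟩
  -- affine over a dense open of the image
  have hne : ((⊤ : I.Opens) : Set I).Nonempty := by
    obtain ⟨y, -⟩ : η[Q].left (IsLocalRing.closedPoint K) ∈ Set.range ιI :=
      hrI ▸ ⟨η[P].left (IsLocalRing.closedPoint K), by
        show (η[P] ≫ f).left (IsLocalRing.closedPoint K) = _
        rw [IsMonHom.one_hom]⟩
    exact ⟨y, trivial⟩
  obtain ⟨W, -, hW, hflat, hlfp⟩ := FlatMisc.GenericFlat.exists_open fI ⊤ hne
  have haff : IsAffineHom (fI ∣_ W) := by
    have hsur : Surjective (fI ∣_ W) := IsZariskiLocalAtTarget.restrict hfI _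
    have hqc : QuasiCompact (fI ∣_ W) := inferInstance
    have h1 : IsAffineHom (pullback.snd f.left ((fI ∣_ W) ≫ W.ι ≫ ιI)) := by
      have := isAffineHom_snd_comp f.left ((fI ⁻¹ᵁ W).ι ≫ pI)
      have e : ((fI ⁻¹ᵁ W).ι ≫ pI) ≫ f.left = (fI ∣_ W) ≫ W.ι ≫ ιI := by
        rw [Category.assoc, show pI ≫ f.left = fI ≫ ιI from pullback.condition,
          morphismRestrict_ι_assoc]
      exact e ▸ this
    have hsq : IsPullback ((fI ⁻¹ᵁ W).ι ≫ pI) (fI ∣_ W) f.left (W.ι ≫ ιI) :=
      (isPullback_morphismRestrict fI W).flip.paste_horiz (IsPullback.of_hasPullback f.left ιI)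
    have h2 : IsAffineHom (pullback.snd (fI ∣_ W) (fI ∣_ W)) := by
      have := (IsPullback.of_hasPullback (fI ∣_ W) (fI ∣_ W)).paste_horiz hsq
      rw [← this.isoPullback_hom_snd]
      infer_instance
    have := FpqcDesc.descendsAlong_isAffineHom.{u}
    have hmem : FpqcDesc.FPQC (fI ∣_ W) := ⟨⟨hsur, hflat⟩, hqc⟩
    exact MorphismProperty.of_pullback_snd_of_descendsAlong (P := @IsAffineHom) hmem h2
  -- good opens
  let good : Q.left.Opens → Prop := fun V => IsAffineOpen V ∧ IsAffineOpen (f.left ⁻¹ᵁ V)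
  obtain ⟨V₀, hV₀⟩ : ∃ V₀ : Q.left.Opens, ιI ⁻¹ᵁ V₀ = W := by
    obtain ⟨V₀, hV₀, e⟩ := ιI.isClosedEmbedding.isInducing.isOpen_iff.1 W.2
    exact ⟨⟨V₀, hV₀⟩, Opens.ext e⟩
  have hgood : ∀ V, IsAffineOpen V → V ≤ V₀ → good V := fun V hV hle => by
    refine ⟨hV, ?_⟩
    have h1 : IsAffineOpen (pI ⁻¹ᵁ (f.left ⁻¹ᵁ V)) := by
      rw [← Scheme.Hom.comp_preimage, show pI ≫ f.left = fI ≫ ιI from pullback.condition,
        Scheme.Hom.comp_preimage]
      have hW' : ιI ⁻¹ᵁ V ≤ W := hV₀ ▸ ιI.preimage_mono hle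
      exact isAffineOpen_preimage_of_le fI W _ hW' (hV.preimage ιI)
    have : IsAffine (pI ⁻¹ᵁ (f.left ⁻¹ᵁ V) : (pullback f.left ιI).Opens).toScheme := h1
    have : IsClosedImmersion (pI ∣_ f.left ⁻¹ᵁ V) :=
      IsZariskiLocalAtTarget.restrict (inferInstance : IsClosedImmersion pI) _
    have : Surjective (pI ∣_ f.left ⁻¹ᵁ V) := IsZariskiLocalAtTarget.restrict hpI _
    exact AffThick.isAffine_of_surjective (pI ∣_ f.left ⁻¹ᵁ V)
  -- closed points
  obtain ⟨w, hwW, hwcl⟩ : ∃ w, w ∈ V₀ ∧ w ∈ Set.range f.left ∧ IsClosed ({w} : Set Q.left) := by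
    have : JacobsonSpace I := LocallyOfFiniteType.jacobsonSpace (ιI ≫ Q.hom)
    obtain ⟨y, hy, hyc⟩ := nonempty_inter_closedPoints hW W.2.isLocallyClosed
    refine ⟨ιI y, show y ∈ ιI ⁻¹ᵁ V₀ from hV₀ ▸ hy, hrI ▸ ⟨y, rfl⟩, ?_⟩
    simpa using ιI.isClosedEmbedding.isClosedMap _ hyc
  have hlift : ∀ z : Q.left, IsClosed ({z} : Set Q.left) → z ∈ Set.range f.left →
      ∃ p : 𝟙_ _ ⟶ P, f.left (p.left (IsLocalRing.closedPoint K)) = z := by
    intro z hz hzr
    obtain ⟨x, hx, hxc⟩ := nonempty_inter_closedPoints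
      (Z := f.left ⁻¹' {z}) (by obtain ⟨x, hx⟩ := hzr; exact ⟨x, hx⟩)
      (hz.preimage f.left.continuous).isLocallyClosed
    let p : 𝟙_ _ ⟶ P := Over.homMk _ ((pointEquivClosedPoint P.hom).symm ⟨x, hxc⟩).2
    refine ⟨p, ?_⟩
    rw [show p.left (IsLocalRing.closedPoint K) = x from pointOfClosedPoint_apply P.hom x hxc _]
    exact hx
  obtain ⟨q, hq⟩ := hlift w hwcl.2 hwcl.1
  apply isAffineHom_of_forall_exists_isAffineOpen
  let O : Q.left.Opens := ⨆ (V) (_ : good V), V
  suffices hO : O = ⊤ by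
    intro x
    have hx : x ∈ O := hO ▸ trivial
    simp only [O, Opens.mem_iSup] at hx
    obtain ⟨V, hV, hxV⟩ := hx
    exact ⟨V, hxV, hV.1, hV.2⟩
  by_contra hO
  obtain ⟨z, hzO, hzc⟩ := nonempty_inter_closedPoints (Z := (O : Set Q.left)ᶜ)
    (Set.nonempty_compl.2 fun h => hO (Opens.ext h)) O.2.isClosed_compl.isLocallyClosed
  refine hzO ?_
  suffices ∃ V, good V ∧ z ∈ V by
    obtain ⟨V, hV, hzV⟩ := this
    exact Opens.mem_iSup.2 ⟨V, Opens.mem_iSup.2 ⟨hV, hzV⟩⟩
  by_cases hzr : z ∈ Set.range f.left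
  · obtain ⟨p, hp⟩ := hlift z hzc hzr
    obtain ⟨_, ⟨V, hV, rfl⟩, hwV, hVV₀⟩ :=
      Q.left.isBasis_affineOpens.exists_subset_of_mem_open hwW V₀.2
    have hVgood := hgood V hV hVV₀
    let α : P ≅ P := Basic.translate (q * p⁻¹)
    let β : Q ≅ Q := Basic.translate ((q * p⁻¹) ≫ f)
    have hαβ : α.hom ≫ f = f ≫ β.hom := by
      simp only [α, β, Basic.translate, MonObj.mul_comp, MonObj.comp_mul, Category.id_comp,
        Category.comp_id, Category.assoc, comp_toUnit_assoc]
    have := Basic.isIso_left α.hom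
    have := Basic.isIso_left β.hom
    refine ⟨β.hom.left ⁻¹ᵁ V, ⟨hV.preimage β.hom.left, ?_⟩, ?_⟩
    · rw [← Scheme.Hom.comp_preimage, ← Over.comp_left, ← hαβ, Over.comp_left,
        Scheme.Hom.comp_preimage]
      exact hVgood.2.preimage α.hom.left
    · show β.hom.left z ∈ V
      rw [← hp]
      show (p ≫ f ≫ β.hom).left (IsLocalRing.closedPoint K) ∈ V
      have : p ≫ f ≫ β.hom = q ≫ f := by
        rw [← hαβ, ← Category.assoc]
        congr 1
        simp only [α, Basic.translate, MonObj.comp_mul, comp_toUnit_assoc, Category.comp_id]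
        rw [toUnit_unique (toUnit _) (𝟙 _), Category.id_comp]
        simp only [Category.id_comp, inv_mul_cancel_right]
      rw [this]
      show f.left (q.left (IsLocalRing.closedPoint K)) ∈ V
      rw [hq]
      exact hwV
  · obtain ⟨_, ⟨V, hV, rfl⟩, hzV, hVZ⟩ :=
      Q.left.isBasis_affineOpens.exists_subset_of_mem_open (show z ∈ (Z : Set Q.left)ᶜ from hzr)
        Z.isClosed.isOpen_compl
    refine ⟨V, ⟨hV, ?_⟩, hzV⟩
    have : f.left ⁻¹ᵁ V = ⊥ := Opens.ext (Set.eq_empty_iff_forall_notMem.2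
      fun x hx => hVZ hx ⟨x, rfl⟩)
    rw [this]
    exact isAffineOpen_bot _
where
  isAffineOpen_preimage_of_le {X Y : Scheme.{u}} (g : X ⟶ Y) (W V : Y.Opens)
      [IsAffineHom (g ∣_ W)] (hle : V ≤ W) (hV : IsAffineOpen V) : IsAffineOpen (g ⁻¹ᵁ V) := by
    have h1 : IsAffineOpen (W.ι ⁻¹ᵁ V) :=
      hV.preimage_of_isOpenImmersion W.ι (by simpa using hle)
    have h2 := (h1.preimage (g ∣_ W)).image_of_isOpenImmersion (g ⁻¹ᵁ W).ι
    rwa [← Scheme.Hom.comp_preimage, morphismRestrict_ι, Scheme.Hom.comp_preimage,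
      Scheme.Hom.image_preimage_eq_opensRange_inf, Scheme.Opens.opensRange_ι,
      inf_eq_right.2 (g.preimage_mono hle)] at h2

end Groth.Agent.GrpScheme.AffineHom
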