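import Groth.Agent.GrpScheme.Cartier
import Mathlib.RingTheory.Ideal.Cotangent
import Mathlib.LinearAlgebra.Dual.Lemmas
import Mathlib.CategoryTheory.Monoidal.Cartesian.Grp
import Mathlib.RingTheory.Nakayama

/-!
# Tangent vectors at the unit and the group law
-/

set_option autoImplicit false

universe u

open CategoryTheory MonoidalCategory CartesianMonoidalCategory MonObj GrpObj AlgebraicGeometry
  Limits IsLocalRing TrivSqZeroExt

namespace Groth.Agent.GrpScheme.Tangent

open Cartier

variable {K : Type u} [Field K] (G : Over (Spec (CommRingCat.of K))) [GrpObj G]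

/-- The spectrum of a `K`-algebra. -/
noncomputable abbrev TSpec (B : Type u) [CommRing B] [Algebra K B] : Over (Spec (CommRingCat.of K)) :=
  Over.mk (Spec.map (CommRingCat.ofHom (algebraMap K B)))

/-- Functoriality of `TSpec`. -/
noncomputable def TMap {B C : Type u} [CommRing B] [Algebra K B] [CommRing C] [Algebra K C]
    (f : B →ₐ[K] C) : TSpec (K := K) C ⟶ TSpec (K := K) B :=
  Over.homMk (Spec.map (CommRingCat.ofHom f.toRingHom)) (by
    simp only [Over.mk_hom]
    rw [← Spec.map_comp]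
    congr 1
    ext r
    exact f.commutes r)

lemma TMap_comp {B C D : Type u} [CommRing B] [Algebra K B] [CommRing C] [Algebra K C] [CommRing D]
    [Algebra K D] (f : B →ₐ[K] C) (g : C →ₐ[K] D) :
    TMap g ≫ TMap f = TMap (g.comp f) := by
  ext1
  exact (Spec.map_comp _ _).symm

lemma TMap_id {B : Type u} [CommRing B] [Algebra K B] :
    TMap (AlgHom.id K B) = 𝟙 (TSpec (K := K) B) := by
  ext1
  exact Spec.map_id _

variable {B C : Type u} [CommRing B] [Algebra K B] [CommRing C] [Algebra K C]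

/-- The point defined by a homomorphism out of the local ring at the unit. -/
noncomputable def pt (φ : stalkUnit G →ₐ[K] B) : TSpec (K := K) B ⟶ G :=
  Over.homMk (Spec.map (CommRingCat.ofHom φ.toRingHom) ≫ G.left.fromSpecStalk (unitPt G)) (by
    simp only [Over.mk_hom]
    rw [Category.assoc, ← Spec.map_preimage (G.left.fromSpecStalk (unitPt G) ≫ G.hom),
      ← Spec.map_comp]
    congr 1
    ext r
    exact φ.commutes r)

lemma pt_injective : Function.Injective (pt G (B := B)) := by
  intro φ ψ h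
  have h1 : Spec.map (CommRingCat.ofHom φ.toRingHom) ≫ G.left.fromSpecStalk (unitPt G) =
      Spec.map (CommRingCat.ofHom ψ.toRingHom) ≫ G.left.fromSpecStalk (unitPt G) :=
    congrArg CommaMorphism.left h
  rw [cancel_mono] at h1
  refine AlgHom.ext fun a => ?_
  exact congr($(Spec.map_injective h1).hom a)

lemma TMap_pt (f : B →ₐ[K] C) (φ : stalkUnit G →ₐ[K] B) : TMap f ≫ pt G φ = pt G (f.comp φ) := by
  ext1
  exact (Spec.map_comp_assoc _ _ _).symm

lemma pt_trivial : pt G ((Algebra.ofId K B).comp (aug G)) = 1 := by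
  rw [Hom.one_def]
  ext1
  change Spec.map (CommRingCat.ofHom ((Algebra.ofId K B).comp (aug G)).toRingHom) ≫
      G.left.fromSpecStalk (unitPt G) =
    Spec.map (CommRingCat.ofHom (algebraMap K B)) ≫ η[G].left
  rw [show CommRingCat.ofHom ((Algebra.ofId K B).comp (aug G)).toRingHom =
    augHom G ≫ CommRingCat.ofHom (algebraMap K B) from rfl, Spec.map_comp_assoc, spec_augHom]

/-- Points whose closed point goes to the unit come from the local ring at the unit. -/
lemma exists_pt [IsLocalRing B] (t : TSpec (K := K) B ⟶ G)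
    (ht : t.left (closedPoint B) = unitPt G) : ∃ φ, pt G φ = t := by
  let φ : stalkUnit G ⟶ CommRingCat.of B :=
    G.left.presheaf.stalkSpecializes (specializes_of_eq ht) ≫
      Scheme.stalkClosedPointTo (R := CommRingCat.of B) t.left
  have hφ : Spec.map φ ≫ G.left.fromSpecStalk (unitPt G) = t.left := by
    rw [Spec.map_comp_assoc, Scheme.SpecMap_stalkSpecializes_fromSpecStalk]
    exact Scheme.Spec_stalkClosedPointTo_fromSpecStalk (R := CommRingCat.of B) t.left
  have hc : structHom G ≫ φ = CommRingCat.ofHom (algebraMap K B) := by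
    apply Spec.map_injective
    rw [Spec.map_comp, structHom, Spec.map_preimage, ← Category.assoc, hφ]
    exact Over.w t
  refine ⟨{ φ.hom with commutes' := fun r => congr($(hc).hom r) }, ?_⟩
  ext1
  exact hφ

section Dual

/-- Dual numbers. -/
abbrev D₁ (K : Type u) [Field K] : Type u := TrivSqZeroExt K K

/-- Dual numbers in two variables. -/
abbrev D₂ (K : Type u) [Field K] : Type u := TrivSqZeroExt K (K × K)

instance : IsLocalRing (D₂ K) :=
  IsLocalRing.of_isUnit_or_isUnit_one_sub_self fun a => by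
    simp only [TrivSqZeroExt.isUnit_iff_isUnit_fst, fst_sub, fst_one]
    exact IsLocalRing.isUnit_or_isUnit_one_sub_self a.fst

/-- A tangent homomorphism takes the value of evaluation at the unit as its constant part. -/
lemma fst_apply (φ : stalkUnit G →ₐ[K] D₁ K) (a : stalkUnit G) : (φ a).fst = aug G a := by
  let χ : stalkUnit G →ₐ[K] K := (fstHom K K K).comp φ
  suffices h : ∀ m ∈ maximalIdeal (stalkUnit G), χ m = 0 by
    have := h _ (sub_aug_mem G a)
    rw [map_sub, AlgHom.commutes, sub_eq_zero] at this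
    exact this
  intro m hm
  by_contra hne
  have hu : IsUnit (m - algebraMap K _ (χ m)) := by
    by_contra hu
    have h2 := (maximalIdeal (stalkUnit G)).sub_mem hm ((mem_maximalIdeal _).mpr hu)
    rw [sub_sub_cancel, mem_maximalIdeal, mem_nonunits_iff] at h2
    exact h2 ((IsUnit.mk0 _ hne).map _)
  have := hu.map χ
  rw [map_sub, AlgHom.commutes] at this
  simp at this

lemma pt_left_closedPoint (φ : stalkUnit G →ₐ[K] D₁ K) :
    (pt G φ).left (closedPoint (D₁ K)) = unitPt G := by
  have : IsLocalHom φ.toRingHom := ⟨fun a ha => by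
    rw [TrivSqZeroExt.isUnit_iff_isUnit_fst] at ha
    change IsUnit (φ a).fst at ha
    rw [fst_apply] at ha
    by_contra h
    rw [← mem_nonunits_iff, ← mem_maximalIdeal, mem_maximalIdeal_iff] at h
    exact not_isUnit_zero (h ▸ ha)⟩
  have : IsLocalHom (CommRingCat.ofHom φ.toRingHom).hom := this
  change (Spec.map (CommRingCat.ofHom φ.toRingHom) ≫ G.left.fromSpecStalk (unitPt G))
    (closedPoint (D₁ K)) = _
  exact (Scheme.Hom.comp_apply _ _ _).trans
    ((congrArg (G.left.fromSpecStalk (unitPt G))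
      (Spec_closedPoint (f := CommRingCat.ofHom φ.toRingHom))).trans
      Scheme.fromSpecStalk_closedPoint)

/-- The tangent vector of a tangent homomorphism adds under multiplication of points. -/
theorem pt_mul (φ φ' : stalkUnit G →ₐ[K] D₁ K) :
    ∃ ψ, pt G φ * pt G φ' = pt G ψ ∧ ∀ a, (ψ a).snd = (φ a).snd + (φ' a).snd := by
  let P₁ : D₂ K →ₐ[K] D₁ K := TrivSqZeroExt.map (LinearMap.fst K K K)
  let P₂ : D₂ K →ₐ[K] D₁ K := TrivSqZeroExt.map (LinearMap.snd K K K)
  let J₁ : D₁ K →ₐ[K] D₂ K := TrivSqZeroExt.map (LinearMap.inl K K K)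
  let J₂ : D₁ K →ₐ[K] D₂ K := TrivSqZeroExt.map (LinearMap.inr K K K)
  let Ad : D₂ K →ₐ[K] D₁ K := TrivSqZeroExt.map (LinearMap.fst K K K + LinearMap.snd K K K)
  have htriv : ∀ (f : D₁ K →ₐ[K] D₁ K) (χ : stalkUnit G →ₐ[K] D₁ K),
      (∀ x : D₁ K, (f x).fst = x.fst) → (∀ x : D₁ K, (f x).snd = 0) → TMap f ≫ pt G χ = 1 := by
    intro f χ h1 h2
    rw [TMap_pt, ← pt_trivial]
    congr 1
    refine AlgHom.ext fun a => TrivSqZeroExt.ext ?_ ?_
    · simp [h1, fst_apply, TrivSqZeroExt.algebraMap_eq_inl]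
    · simp [h2, TrivSqZeroExt.algebraMap_eq_inl]
  have hid : ∀ f : D₁ K →ₐ[K] D₁ K, (∀ x : D₁ K, (f x).fst = x.fst) →
      (∀ x : D₁ K, (f x).snd = x.snd) → f = AlgHom.id K _ := fun f h1 h2 =>
    AlgHom.ext fun x => TrivSqZeroExt.ext (h1 x) (h2 x)
  let z := (TMap J₁ ≫ pt G φ) * (TMap J₂ ≫ pt G φ')
  have hz : ∀ (p : D₂ K →ₐ[K] D₁ K), TMap p ≫ z =
      (TMap (p.comp J₁) ≫ pt G φ) * (TMap (p.comp J₂) ≫ pt G φ') := fun p => by
    rw [MonObj.comp_mul, ← Category.assoc, ← Category.assoc, TMap_comp, TMap_comp]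
  have hz₁ : TMap P₁ ≫ z = pt G φ := by
    rw [hz, hid (P₁.comp J₁) (fun x => by simp [P₁, J₁]) (fun x => by simp [P₁, J₁]), TMap_id,
      Category.id_comp, htriv (P₁.comp J₂) φ' (fun x => by simp [P₁, J₂])
        (fun x => by simp [P₁, J₂]), _root_.mul_one]
  have hz₂ : TMap P₂ ≫ z = pt G φ' := by
    rw [hz, hid (P₂.comp J₂) (fun x => by simp [P₂, J₂]) (fun x => by simp [P₂, J₂]), TMap_id,
      Category.id_comp, htriv (P₂.comp J₁) φ (fun x => by simp [P₂, J₁])
        (fun x => by simp [P₂, J₁]), _root_.one_mul]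
  have hzc : z.left (closedPoint (D₂ K)) = unitPt G := by
    rw [← pt_left_closedPoint G φ, ← hz₁]
    change _ = (Spec.map (CommRingCat.ofHom P₁.toRingHom) ≫ z.left) (closedPoint (D₁ K))
    have : IsLocalHom (CommRingCat.ofHom P₁.toRingHom).hom := ⟨fun a ha =>
      TrivSqZeroExt.isUnit_iff_isUnit_fst.mpr (by
        have := TrivSqZeroExt.isUnit_iff_isUnit_fst.mp ha
        simpa [P₁] using this)⟩
    exact ((Scheme.Hom.comp_apply _ _ _).trans
      (congrArg z.left (Spec_closedPoint (f := CommRingCat.ofHom P₁.toRingHom)))).symm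
  obtain ⟨χ, hχ⟩ := exists_pt G z hzc
  have h1 : P₁.comp χ = φ := pt_injective G (by rw [← TMap_pt, hχ, hz₁])
  have h2 : P₂.comp χ = φ' := pt_injective G (by rw [← TMap_pt, hχ, hz₂])
  refine ⟨Ad.comp χ, ?_, fun a => ?_⟩
  · rw [← TMap_pt, hχ, hz, hid (Ad.comp J₁) (fun x => by simp [Ad, J₁]) (fun x => by simp [Ad, J₁]),
      hid (Ad.comp J₂) (fun x => by simp [Ad, J₂]) (fun x => by simp [Ad, J₂]), TMap_id,
      Category.id_comp, Category.id_comp]
  · rw [← h1, ← h2]
    simp [Ad, P₁, P₂]

/-- Powers of tangent points. -/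
theorem pt_zpow (φ : stalkUnit G →ₐ[K] D₁ K) (n : ℤ) :
    ∃ ψ, pt G φ ^ n = pt G ψ ∧ ∀ a, (ψ a).snd = n • (φ a).snd := by
  induction n using Int.induction_on with
  | zero =>
    exact ⟨_, (zpow_zero _).trans (pt_trivial G).symm, fun a => by
      simp [TrivSqZeroExt.algebraMap_eq_inl]⟩
  | succ i hi =>
    obtain ⟨ψ, h, hs⟩ := hi
    obtain ⟨ψ', h', hs'⟩ := pt_mul G ψ φ
    exact ⟨ψ', by rw [zpow_add_one, h, h'], fun a => by rw [hs', hs, add_smul, one_smul]⟩
  | pred i hi =>
    obtain ⟨ψ, h, hs⟩ := hi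
    let σ : D₁ K →ₐ[K] D₁ K := TrivSqZeroExt.map (-LinearMap.id)
    obtain ⟨ε, hε, hεs⟩ := pt_mul G φ (σ.comp φ)
    have hε1 : ε = (Algebra.ofId K (D₁ K)).comp (aug G) := AlgHom.ext fun a =>
      TrivSqZeroExt.ext (by simp [fst_apply, TrivSqZeroExt.algebraMap_eq_inl])
        (by rw [hεs]; simp [σ, TrivSqZeroExt.algebraMap_eq_inl])
    rw [hε1, pt_trivial] at hε
    obtain ⟨ψ', h', hs'⟩ := pt_mul G ψ (σ.comp φ)
    refine ⟨ψ', ?_, fun a => ?_⟩
    · rw [zpow_sub_one, h, ← h', eq_inv_of_mul_eq_one_right hε]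
    · rw [hs', hs, sub_smul, one_smul, sub_eq_add_neg]
      simp [σ]

end Dual

section Endo

variable (P : G ⟶ G) (hP : P.left (unitPt G) = unitPt G)

/-- The endomorphism of the local ring at the unit induced by a morphism fixing the unit. -/
noncomputable def endoHom : stalkUnit G ⟶ stalkUnit G :=
  G.left.presheaf.stalkSpecializes (specializes_of_eq hP) ≫ P.left.stalkMap (unitPt G)

lemma spec_endoHom : Spec.map (endoHom G P hP) ≫ G.left.fromSpecStalk (unitPt G) =
    G.left.fromSpecStalk (unitPt G) ≫ P.left := by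
  rw [endoHom, Spec.map_comp_assoc, Scheme.SpecMap_stalkSpecializes_fromSpecStalk,
    Scheme.SpecMap_stalkMap_fromSpecStalk]

/-- The endomorphism as an algebra map. -/
noncomputable def endo : stalkUnit G →ₐ[K] stalkUnit G :=
  { (endoHom G P hP).hom with
    commutes' := fun r => by
      have : structHom G ≫ endoHom G P hP = structHom G := by
        apply Spec.map_injective
        rw [Spec.map_comp, structHom, Spec.map_preimage, ← Category.assoc, spec_endoHom,
          Category.assoc, Over.w P]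
      exact congr($(this).hom r) }

lemma pt_comp (φ : stalkUnit G →ₐ[K] B) : pt G φ ≫ P = pt G (φ.comp (endo G P hP)) := by
  ext1
  change (Spec.map (CommRingCat.ofHom φ.toRingHom) ≫ G.left.fromSpecStalk (unitPt G)) ≫ P.left =
    Spec.map (endoHom G P hP ≫ CommRingCat.ofHom φ.toRingHom) ≫ G.left.fromSpecStalk (unitPt G)
  exact (Category.assoc _ _ _).trans ((congrArg (Spec.map (CommRingCat.ofHom φ.toRingHom) ≫ ·)
    (spec_endoHom G P hP).symm).trans (Spec.map_comp_assoc _ _ _).symm)

/-- Tangent vectors detect the square of the maximal ideal. -/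
theorem mem_sq {a : stalkUnit G} (ha : a ∈ maximalIdeal (stalkUnit G))
    (h : ∀ φ : stalkUnit G →ₐ[K] D₁ K, (φ a).snd = 0) : a ∈ maximalIdeal (stalkUnit G) ^ 2 := by
  let m := maximalIdeal (stalkUnit G)
  let ψ : (stalkUnit G) →ₗ[K] m :=
    (LinearMap.id - (Algebra.linearMap K (stalkUnit G)).comp (aug G).toLinearMap).codRestrict
      (m.restrictScalars K) (sub_aug_mem G)
  have hψ : ∀ a, (ψ a : (stalkUnit G)) = a - algebraMap K (stalkUnit G) (aug G a) := fun a => rfl
  have hψ1 : ψ 1 = 0 := Subtype.ext (by rw [hψ]; simp)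
  have hψm : ∀ a c, m.toCotangent (ψ (a * c)) =
      aug G a • m.toCotangent (ψ c) + aug G c • m.toCotangent (ψ a) := by
    intro a c
    have e : ψ (a * c) = algebraMap K (stalkUnit G) (aug G a) • ψ c +
        algebraMap K (stalkUnit G) (aug G c) • ψ a +
        (a - algebraMap K (stalkUnit G) (aug G a)) • ψ c :=
      Subtype.ext (by simp [hψ, map_mul, Algebra.smul_def]; ring)
    have e0 : m.toCotangent ((a - algebraMap K (stalkUnit G) (aug G a)) • ψ c) = 0 := by
      rw [Ideal.toCotangent_eq_zero, pow_two]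
      exact Ideal.mul_mem_mul (sub_aug_mem G a) (ψ c).2
    rw [e, map_add, map_add, e0, add_zero, map_smul, map_smul, algebraMap_smul, algebraMap_smul]
  have hzero : m.toCotangent (ψ a) = 0 := by
    refine (Module.forall_dual_apply_eq_zero_iff K _).mp fun θ => ?_
    let v : stalkUnit G →ₗ[K] K := θ.comp ((m.toCotangent.restrictScalars K).comp ψ)
    let φ : stalkUnit G →ₐ[K] D₁ K :=
      { toFun := fun b => inl (aug G b) + inr (v b)
        map_one' := by simp [v, hψ1]
        map_zero' := by simp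
        map_add' := fun b c => by ext <;> simp
        map_mul' := fun b c => by
          ext
          · simp
          · simp [v, hψm]; ring
        commutes' := fun r => by
          have : v (algebraMap K _ r) = 0 := by
            rw [Algebra.algebraMap_eq_smul_one, map_smul]
            simp [v, hψ1]
          simp [this, TrivSqZeroExt.algebraMap_eq_inl] }
    simpa [φ, v] using h φ
  rw [Ideal.toCotangent_eq_zero] at hzero
  have hψa : (ψ a : stalkUnit G) = a := by rw [hψ, (mem_maximalIdeal_iff G a).mp ha]; simp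
  rwa [hψa] at hzero

/-- **The differential of the power map at the unit is multiplication by the exponent.** -/
theorem endo_zpow_sub_mem (d : ℤ) (hd : (𝟙 G ^ d).left (unitPt G) = unitPt G) {a : stalkUnit G}
    (ha : a ∈ maximalIdeal (stalkUnit G)) :
    endo G (𝟙 G ^ d) hd a - d • a ∈ maximalIdeal (stalkUnit G) ^ 2 := by
  have hloc : endo G (𝟙 G ^ d) hd a ∈ maximalIdeal (stalkUnit G) := by
    rw [mem_maximalIdeal, mem_nonunits_iff] at ha ⊢
    intro hu
    have hl : IsLocalHom (endoHom G (𝟙 G ^ d) hd).hom := by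
      have : IsIso (G.left.presheaf.stalkSpecializes (specializes_of_eq hd)) :=
        (G.left.presheaf.stalkCongr (.of_eq hd.symm)).isIso_hom
      rw [endoHom, CommRingCat.hom_comp]
      infer_instance
    exact ha (hl.map_nonunit a hu)
  refine mem_sq G ((maximalIdeal (stalkUnit G)).sub_mem hloc
    (Submodule.smul_of_tower_mem _ _ ha)) fun φ => ?_
  have h1 : pt G φ ≫ (𝟙 G ^ d) = pt G φ ^ d := by rw [GrpObj.comp_zpow, Category.comp_id]
  obtain ⟨ψ, hψ, hψs⟩ := pt_zpow G φ d
  rw [pt_comp G _ hd, hψ] at h1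
  have h2 := congrArg (fun χ : stalkUnit G →ₐ[K] D₁ K => (χ a).snd) (pt_injective G h1)
  simp only [AlgHom.coe_comp, Function.comp_apply, hψs] at h2
  rw [map_sub, map_zsmul, TrivSqZeroExt.snd_sub, h2]
  simp

end Endo

end Groth.Agent.GrpScheme.Tangent
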