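import Groth.Agent.GrpScheme.RegularRep
import Groth.Agent.GrpScheme.Tangent
import Groth.Agent.DiagRig.Split
import Groth.Agent.RedPts.Basic
import Groth.Agent.SekLib.SpecPts
import Groth.Prelude.Def_AGF
import Groth.Prelude.Def_FrameBundle
import Groth.Prelude.Def_CoactBr
import Mathlib.LinearAlgebra.Matrix.ToLin
import Mathlib.LinearAlgebra.Matrix.NonsingularInverse
import Mathlib.LinearAlgebra.FiniteDimensional.Basic

/-!
# Finite diagonalisable groups in `GL_m` over a field

A homomorphism from `D(M)`, `M` finite, to `GL_m` is a family `P a` (`a ∈ M`) of orthogonal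
idempotent matrices with sum `1`; conjugation acts on the family, a field extension maps it entrywise.
-/

set_option autoImplicit false

universe u

open CategoryTheory MonoidalCategory CartesianMonoidalCategory MonObj GrpObj AlgebraicGeometry Limits
open Groth.Agent.SekLib Groth.Agent.RedPts
open scoped TensorProduct

noncomputable section

namespace Groth.Agent.GrpScheme.DiagRep

open Tangent RegularRep

attribute [local instance] secAlgebra

variable {F : Type u} [Field F]

/-- The group algebra. -/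
abbrev Laurent (F : Type u) [Field F] (M : Type) [AddCommGroup M] : Type u := MonoidAlgebra F (Multiplicative M)

/-- Functions on the spectrum of an algebra. -/
def ev (B : Type u) [CommRing B] [Algebra F B] : B ≃ₐ[F] Γ((TSpec (K := F) B).left, ⊤) :=
  AlgEquiv.ofRingEquiv (f := (Scheme.ΓSpecIso (CommRingCat.of B)).symm.commRingCatIsoToRingEquiv) fun r =>
    congr($(Scheme.ΓSpecIso_inv_naturality (CommRingCat.ofHom (algebraMap F B))) r)

lemma pull_TMap {B C : Type u} [CommRing B] [Algebra F B] [CommRing C] [Algebra F C] (φ : B →ₐ[F] C) (b : B) :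
    pull (TMap φ) (ev B b) = ev C (φ b) :=
  (congr($(Scheme.ΓSpecIso_inv_naturality (CommRingCat.ofHom φ.toRingHom)) b)).symm

/-- The map to a spectrum given by a homomorphism into functions. -/
lemma exists_toTSpec {B : Type u} [CommRing B] [Algebra F B] (X : Over (Spec (CommRingCat.of F)))
    (φ : B →ₐ[F] Γ(X.left, ⊤)) : ∃ x : X ⟶ TSpec (K := F) B, ∀ b, pull x (ev B b) = φ b := by
  let l : X.left ⟶ Spec (CommRingCat.of B) := X.left.toSpecΓ ≫ Spec.map (CommRingCat.ofHom φ.toRingHom)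
  have w : l ≫ Spec.map (CommRingCat.ofHom (algebraMap F B)) = X.hom := by
    rw [Category.assoc, ← Spec.map_comp, ← CommRingCat.ofHom_comp,
      show φ.toRingHom.comp (algebraMap F B) = algebraMap F Γ(X.left, ⊤) from φ.comp_algebraMap]
    have h := Scheme.toSpecΓ_naturality X.hom
    rw [← SpecMap_ΓSpecIso_hom] at h
    rw [← cancel_mono (Spec.map (Scheme.ΓSpecIso (CommRingCat.of F)).hom), h, Category.assoc]
    rw [← Spec.map_comp]
    congr 1
    apply Spec.map_injective.eq_iff.mpr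
    refine CommRingCat.hom_ext (RingHom.ext fun a => ?_)
    show X.hom.appTop ((Scheme.ΓSpecIso (CommRingCat.of F)).inv ((Scheme.ΓSpecIso (CommRingCat.of F)).hom a)) = X.hom.appTop a
    rw [← CommRingCat.comp_apply, ← CommRingCat.comp_apply, Iso.hom_inv_id_assoc]
  refine ⟨Over.homMk l w, fun b => ?_⟩
  show l.appTop ((Scheme.ΓSpecIso (CommRingCat.of B)).inv b) = φ b
  simp only [l, Scheme.Hom.comp_appTop, Scheme.toSpecΓ_appTop, CommRingCat.comp_apply]
  rw [← CommRingCat.comp_apply _ (Spec.map _).appTop, ← Scheme.ΓSpecIso_inv_naturality, CommRingCat.comp_apply]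
  exact congr($((Scheme.ΓSpecIso _).inv_hom_id) (φ b))

/-- Characters of the points of a group. -/
structure Chars (T : Over (Spec (CommRingCat.of F))) [GrpObj T] (M : Type) [AddCommGroup M] where
  θ : ∀ {Y : Over (Spec (CommRingCat.of F))}, (Y ⟶ T) → M → Γ(Y.left, ⊤)
  θ_comp : ∀ {Y Y' : Over (Spec (CommRingCat.of F))} (h : Y' ⟶ Y) (y : Y ⟶ T) (a : M),
    θ (h ≫ y) a = h.left.appTop (θ y a)
  θ_mul : ∀ {Y : Over (Spec (CommRingCat.of F))} (y z : Y ⟶ T) (a : M), θ (y * z) a = θ y a * θ z a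
  θ_add : ∀ {Y : Over (Spec (CommRingCat.of F))} (y : Y ⟶ T) (a b : M), θ y (a + b) = θ y a * θ y b
  θ_zero : ∀ {Y : Over (Spec (CommRingCat.of F))} (y : Y ⟶ T), θ y 0 = 1
  θ_ext : ∀ {Y : Over (Spec (CommRingCat.of F))} {y z : Y ⟶ T}, (∀ a, θ y a = θ z a) → y = z
  θ_exists : ∀ {Y : Over (Spec (CommRingCat.of F))} (f : Multiplicative M →* Γ(Y.left, ⊤)),
    ∃ y : Y ⟶ T, ∀ a, θ y a = f (Multiplicative.ofAdd a)

/-- The characters of a split group. -/
def Chars.ofIso {T : Over (Spec (CommRingCat.of F))} [GrpObj T] {M : Type} [AddCommGroup M]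
    (e : Grp.mk T ≅ Grp.mk (Red.DS (Spec (CommRingCat.of F)) M)) : Chars T M where
  θ y a := dFn (y ≫ e.hom.hom.hom) a
  θ_comp h y a := by rw [Category.assoc, d_comp]
  θ_mul y z a := (congrArg (fun w => dFn w a) (DiagRig.grpHom_mul e.hom y z)).trans (d_mul _ _ _)
  θ_add y a b := d_add _ a b
  θ_zero y := d_zero _
  θ_ext {Y y z} h := by
    have h' := congrArg (fun w => w ≫ e.inv.hom.hom) (d_ext h)
    have e' : e.hom.hom.hom ≫ e.inv.hom.hom = 𝟙 T := DiagRig.grpIso_hom_inv e
    simpa only [Category.assoc, e', Category.comp_id] using h'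
  θ_exists f := by
    obtain ⟨x, hx⟩ := d_surjective (S := Spec (CommRingCat.of F)) f
    refine ⟨x ≫ e.inv.hom.hom, fun a => ?_⟩
    have e' : e.inv.hom.hom ≫ e.hom.hom.hom = 𝟙 _ := DiagRig.grpIso_hom_inv e.symm
    rw [Category.assoc, e', Category.comp_id, hx]

/-- Matrices of the points of a group. -/
structure MatPts (G : Over (Spec (CommRingCat.of F))) [GrpObj G] (m : ℕ) where
  mat : ∀ {Y : Over (Spec (CommRingCat.of F))}, (Y ⟶ G) → Matrix (Fin m) (Fin m) Γ(Y.left, ⊤)
  mat_comp : ∀ {Y Y' : Over (Spec (CommRingCat.of F))} (h : Y' ⟶ Y) (y : Y ⟶ G),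
    mat (h ≫ y) = (mat y).map h.left.appTop
  mat_mul : ∀ {Y : Over (Spec (CommRingCat.of F))} (y z : Y ⟶ G), mat (y * z) = mat y * mat z
  isUnit_mat : ∀ {Y : Over (Spec (CommRingCat.of F))} (y : Y ⟶ G), IsUnit (mat y).det
  mat_inj : ∀ {Y : Over (Spec (CommRingCat.of F))} {y z : Y ⟶ G}, mat y = mat z → y = z
  mat_exists : ∀ {Y : Over (Spec (CommRingCat.of F))} (A : Matrix (Fin m) (Fin m) Γ(Y.left, ⊤)),
    IsUnit A.det → ∃ y : Y ⟶ G, mat y = A

lemma MatPts.mat_one {G : Over (Spec (CommRingCat.of F))} [GrpObj G] {m : ℕ} (D : MatPts G m)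
    (Y : Over (Spec (CommRingCat.of F))) : D.mat (1 : Y ⟶ G) = 1 :=
  ((Matrix.isUnit_iff_isUnit_det _).2 (D.isUnit_mat _)).mul_left_cancel
    ((D.mat_mul 1 1).symm.trans ((congrArg D.mat (_root_.one_mul _)).trans (_root_.mul_one _).symm))

section GenLin

variable {m : ℕ}

/-- The matrix of a point of `GL_m`. -/
def glMat {Y : Over (Spec (CommRingCat.of F))} (x : Y ⟶ CoactBr.sp F (CoordGrp.GLn m F)) :
    Matrix (Fin m) (Fin m) Γ(Y.left, ⊤) :=
  Matrix.of fun i j => ptHom x (CoordGrp.GLn.X i j)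

lemma ptHom_det {Y : Over (Spec (CommRingCat.of F))} (x : Y ⟶ CoactBr.sp F (CoordGrp.GLn m F)) :
    ptHom x CoordGrp.GLn.det = (glMat x).det := by
  rw [CoordGrp.GLn.det_eq, AlgHom.map_det]
  rfl

lemma ptHom_mul {Y : Over (Spec (CommRingCat.of F))} (a b : Y ⟶ CoactBr.sp F (CoordGrp.GLn m F))
    (i j : Fin m) : ptHom (a * b) (CoordGrp.GLn.X i j) =
      ∑ l, ptHom a (CoordGrp.GLn.X i l) * ptHom b (CoordGrp.GLn.X l j) := by
  obtain ⟨q, hq⟩ := exists_ptHom_eq (T := Y) (A := Γ(Y.left, ⊤)) (AlgHom.id _ _)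
  have hfac : ∀ c : Y ⟶ CoactBr.sp F (CoordGrp.GLn m F),
      c = q ≫ Spec.mapMulEquiv (WithConv.toConv (ptHom c)) := by
    intro c
    refine ptHom_injective ?_
    rw [ptHom_comp q (ptHom c) _ rfl, hq]
    rfl
  conv_lhs => rw [hfac a, hfac b, ← MonObj.comp_mul, ← map_mul, ptHom_comp q _ _ rfl, hq]
  show (WithConv.toConv (ptHom a) * WithConv.toConv (ptHom b)) (CoordGrp.GLn.X i j) = _
  rw [AlgHom.convMul_apply, CoordGrp.GLn.comul_X, map_sum]
  rfl

/-- The matrices of the points of `GL_m`. -/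
def glPts (F : Type u) [Field F] (m : ℕ) : MatPts (CoactBr.sp F (CoordGrp.GLn m F)) m where
  mat x := glMat x
  mat_comp h y := Matrix.ext fun i j => ptHom_comp_left h y _
  mat_mul a b := Matrix.ext fun i j => ptHom_mul a b i j
  isUnit_mat x := by
    show IsUnit (glMat x).det
    rw [← ptHom_det]
    exact (IsUnit.of_mul_eq_one _ CoordGrp.GLn.det_mul_Dinv).map _
  mat_inj {Y x y} h := by
    refine ptHom_injective (CoordGrp.GLn.algHom_ext (fun i j => congrFun (congrFun h i) j) ?_)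
    have hu : IsUnit (glMat x).det := by
      rw [← ptHom_det]
      exact (IsUnit.of_mul_eq_one _ CoordGrp.GLn.det_mul_Dinv).map _
    refine hu.mul_left_cancel ?_
    have key : ∀ w : Y ⟶ CoactBr.sp F (CoordGrp.GLn m F), (glMat w).det * ptHom w CoordGrp.GLn.Dinv = 1 := fun w => by
      rw [← ptHom_det, ← map_mul, CoordGrp.GLn.det_mul_Dinv, map_one]
    have k' := key y
    rw [show glMat y = glMat x from h.symm] at k'
    exact (key x).trans k'.symm
  mat_exists {Y} A hA := by
    obtain ⟨d, hd⟩ := hA.exists_right_inv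
    obtain ⟨x, hx⟩ := exists_ptHom_eq (T := Y) (CoordGrp.GLn.pt m F A d hd)
    refine ⟨x, Matrix.ext fun i j => ?_⟩
    show ptHom x _ = _
    rw [hx]
    exact CoordGrp.GLn.pt_X A d hd i j

end GenLin

section BaseChange

variable {K : Type u} [Field K] [Algebra F K]

/-- The map of spectra of a field extension. -/
abbrev bmap (F K : Type u) [Field F] [Field K] [Algebra F K] :
    Spec (CommRingCat.of K) ⟶ Spec (CommRingCat.of F) := Spec.map (CommRingCat.ofHom (algebraMap F K))

lemma algebraMap_map (Y : Over (Spec (CommRingCat.of K))) (r : F) :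
    (algebraMap F Γ(((Over.map (bmap F K)).obj Y).left, ⊤) r : Γ(Y.left, ⊤)) =
      algebraMap K Γ(Y.left, ⊤) (algebraMap F K r) := by
  show ((Scheme.ΓSpecIso (CommRingCat.of F)).inv ≫ (Y.hom ≫ bmap F K).appTop).hom r = _
  rw [Scheme.Hom.comp_appTop, ← Scheme.ΓSpecIso_inv_naturality_assoc]
  rfl

/-- Characters after a field extension. -/
def Chars.bc {T : Over (Spec (CommRingCat.of F))} [GrpObj T] {M : Type} [AddCommGroup M] (C : Chars T M) :
    Chars (Red.bc (bmap F K) T) M where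
  θ {Y} y a := C.θ (DiagRig.bcTr (bmap F K) y) a
  θ_comp {Y Y'} h y a := by
    rw [DiagRig.bcTr_comp]
    exact C.θ_comp _ _ _
  θ_mul y z a := by rw [DiagRig.bcTr_mul]; exact C.θ_mul _ _ _
  θ_add y a b := C.θ_add _ a b
  θ_zero y := C.θ_zero _
  θ_ext {Y y z} h := by
    rw [← DiagRig.bcUn_bcTr (bmap F K) y, C.θ_ext h, DiagRig.bcUn_bcTr]
  θ_exists {Y} f := by
    obtain ⟨x, hx⟩ := C.θ_exists (Y := (Over.map (bmap F K)).obj Y) f
    exact ⟨DiagRig.bcUn _ x, fun a => by rw [DiagRig.bcTr_bcUn]; exact hx a⟩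

/-- Matrices after a field extension. -/
def MatPts.bc {G : Over (Spec (CommRingCat.of F))} [GrpObj G] {m : ℕ} (D : MatPts G m) :
    MatPts (Red.bc (bmap F K) G) m where
  mat {Y} y := D.mat (DiagRig.bcTr (bmap F K) y)
  mat_comp {Y Y'} h y := by
    rw [DiagRig.bcTr_comp]
    exact D.mat_comp _ _
  mat_mul y z := by rw [DiagRig.bcTr_mul]; exact D.mat_mul _ _
  isUnit_mat y := D.isUnit_mat _
  mat_inj {Y y z} h := by
    rw [← DiagRig.bcUn_bcTr (bmap F K) y, D.mat_inj h, DiagRig.bcUn_bcTr]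
  mat_exists {Y} A hA := by
    obtain ⟨x, hx⟩ := D.mat_exists (Y := (Over.map (bmap F K)).obj Y) A hA
    exact ⟨DiagRig.bcUn _ x, by rw [DiagRig.bcTr_bcUn]; exact hx⟩

lemma bcTr_map {T G : Over (Spec (CommRingCat.of F))} (i : T ⟶ G) {Y : Over (Spec (CommRingCat.of K))}
    (y : Y ⟶ Red.bc (bmap F K) T) :
    DiagRig.bcTr (bmap F K) (y ≫ (Over.pullback (bmap F K)).map i) = DiagRig.bcTr (bmap F K) y ≫ i :=
  (Over.mapPullbackAdj (bmap F K)).homEquiv_naturality_right_symm y i

end BaseChange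

section Weights

variable {T G : Over (Spec (CommRingCat.of F))} [GrpObj T] [GrpObj G] {M : Type} [AddCommGroup M] [Fintype M]
  [DecidableEq M] {m : ℕ} (C : Chars T M) (D : MatPts G m)

/-- The generic element of weight `a`. -/
abbrev mon (a : M) : Laurent F M := MonoidAlgebra.single (Multiplicative.ofAdd a) 1

lemma mon_add (a b : M) : mon (F := F) (a + b) = mon a * mon b := by
  rw [mon, mon, mon, MonoidAlgebra.single_mul_single, _root_.mul_one, ofAdd_add]

/-- A coefficient. -/
def coeffL (a : M) : Laurent F M →ₗ[F] F where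
  toFun q := q.coeff (Multiplicative.ofAdd a)
  map_add' _ _ := rfl
  map_smul' _ _ := rfl

omit [Fintype M] in
lemma coeffL_mon (a b : M) : coeffL (F := F) a (mon b) = if b = a then 1 else 0 := by
  show (MonoidAlgebra.single (Multiplicative.ofAdd b) (1 : F)).coeff (Multiplicative.ofAdd a) = _
  rw [MonoidAlgebra.coeff_single, Finsupp.single_apply]
  exact if_congr Multiplicative.ofAdd.apply_eq_iff_eq rfl rfl

lemma sum_coeffL (q : Laurent F M) : q = ∑ a, coeffL a q • mon a := by
  refine MonoidAlgebra.ext (Finsupp.ext fun z => ?_)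
  change coeffL (Multiplicative.toAdd z) q = coeffL (Multiplicative.toAdd z) _
  rw [map_sum]
  simp only [map_smul, coeffL_mon, smul_eq_mul, mul_ite, _root_.mul_one, mul_zero, Finset.sum_ite_eq',
    Finset.mem_univ, if_true]

/-- A coefficient of a function on the universal object. -/
def coef (a : M) : Γ((TSpec (K := F) (Laurent F M)).left, ⊤) →ₗ[F] F :=
  (coeffL a).comp (ev (F := F) (Laurent F M)).symm.toLinearMap

lemma coef_ev (a : M) (q : Laurent F M) : coef a (ev (Laurent F M) q) = coeffL a q := by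
  simp [coef]

/-- The universal point. -/
lemma exists_univ : ∃ τ : TSpec (K := F) (Laurent F M) ⟶ T, ∀ a, C.θ τ a = ev (Laurent F M) (mon a) := by
  let f : Multiplicative M →* Γ((TSpec (K := F) (Laurent F M)).left, ⊤) :=
    ((ev (F := F) (Laurent F M)).toAlgHom : Laurent F M →* _).comp (MonoidAlgebra.of F (Multiplicative M))
  obtain ⟨τ, hτ⟩ := C.θ_exists f
  exact ⟨τ, fun a => hτ a⟩

/-- The universal point. -/
def univ : TSpec (K := F) (Laurent F M) ⟶ T := (exists_univ C).choose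

lemma θ_univ (a : M) : C.θ (univ C) a = ev (Laurent F M) (mon a) := (exists_univ C).choose_spec a

/-- Every point is pulled back from the universal one. -/
lemma exists_fac {Y : Over (Spec (CommRingCat.of F))} (y : Y ⟶ T) :
    ∃ h : Y ⟶ TSpec (K := F) (Laurent F M), h ≫ univ C = y := by
  let f : Multiplicative M →* Γ(Y.left, ⊤) :=
    { toFun := fun a => C.θ y a.toAdd
      map_one' := C.θ_zero y
      map_mul' := fun a b => C.θ_add y _ _ }
  obtain ⟨h, hh⟩ := exists_toTSpec (B := Laurent F M) Y (MonoidAlgebra.lift F Γ(Y.left, ⊤) (Multiplicative M) f)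
  refine ⟨h, C.θ_ext fun a => ?_⟩
  rw [C.θ_comp, θ_univ]
  refine (hh (mon a)).trans ?_
  rw [MonoidAlgebra.lift_single, one_smul]
  rfl

/-- The weight matrices of a morphism. -/
def weights (i : T ⟶ G) (a : M) : Matrix (Fin m) (Fin m) F := (D.mat (univ C ≫ i)).map (coef a)

/-- The matrix with given weights at a point. -/
def comb (P : M → Matrix (Fin m) (Fin m) F) {Y : Over (Spec (CommRingCat.of F))} (y : Y ⟶ T) :
    Matrix (Fin m) (Fin m) Γ(Y.left, ⊤) :=
  ∑ a, C.θ y a • (P a).map (algebraMap F Γ(Y.left, ⊤))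

lemma comb_comp (P : M → Matrix (Fin m) (Fin m) F) {Y Y' : Over (Spec (CommRingCat.of F))} (h : Y' ⟶ Y)
    (y : Y ⟶ T) : comb C P (h ≫ y) = (comb C P y).map h.left.appTop := by
  ext l j
  simp only [comb, Matrix.sum_apply, Matrix.smul_apply, Matrix.map_apply, smul_eq_mul, map_sum, map_mul,
    C.θ_comp]
  refine Finset.sum_congr rfl fun a _ => ?_
  congr 1
  exact ((pull h).commutes _).symm

lemma mat_eq (i : T ⟶ G) {Y : Over (Spec (CommRingCat.of F))} (y : Y ⟶ T) :
    D.mat (y ≫ i) = comb C (weights C D i) y := by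
  obtain ⟨h, rfl⟩ := exists_fac C y
  rw [Category.assoc, D.mat_comp, comb_comp]
  congr 1
  ext l j
  apply (ev (F := F) (Laurent F M)).symm.injective
  conv_lhs => rw [sum_coeffL ((ev (F := F) (Laurent F M)).symm (D.mat (univ C ≫ i) l j))]
  simp only [comb, Matrix.sum_apply, Matrix.smul_apply, Matrix.map_apply, θ_univ, map_sum, smul_eq_mul,
    map_mul, AlgEquiv.symm_apply_apply, AlgEquiv.commutes]
  refine Finset.sum_congr rfl fun a _ => ?_
  rw [Algebra.smul_def, mul_comm]
  rfl

lemma weights_eq (i : T ⟶ G) (P : M → Matrix (Fin m) (Fin m) F) (h : D.mat (univ C ≫ i) = comb C P (univ C)) :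
    weights C D i = P := by
  funext a
  ext l j
  simp only [weights, Matrix.map_apply, h, comb, Matrix.sum_apply, Matrix.smul_apply, θ_univ, smul_eq_mul]
  rw [map_sum]
  have : ∀ b, ev (F := F) (Laurent F M) (mon b) * algebraMap F _ (P b l j) =
      ev (F := F) (Laurent F M) (P b l j • mon b) := fun b => by
    rw [map_smul, Algebra.smul_def, mul_comm]
  simp only [this, coef_ev, map_smul, coeffL_mon, smul_eq_mul, mul_ite, _root_.mul_one, mul_zero,
    Finset.sum_ite_eq', Finset.mem_univ, if_true]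

lemma hom_ext {i i' : T ⟶ G} (h : weights C D i = weights C D i') : i = i' := by
  have e := mat_eq C D i (𝟙 T)
  rw [h, ← mat_eq C D i' (𝟙 T), Category.id_comp, Category.id_comp] at e
  exact D.mat_inj e

/-- Orthogonal idempotents with sum one. -/
def IsSystem (P : M → Matrix (Fin m) (Fin m) F) : Prop :=
  (∀ a b, P a * P b = if a = b then P a else 0) ∧ ∑ a, P a = 1

lemma comb_mul {P : M → Matrix (Fin m) (Fin m) F} (hP : IsSystem P) {Y : Over (Spec (CommRingCat.of F))}
    (y z : Y ⟶ T) : comb C P (y * z) = comb C P y * comb C P z := by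
  simp only [comb, Finset.sum_mul, Finset.mul_sum, Matrix.smul_mul, Matrix.mul_smul, ← Matrix.map_mul, hP.1,
    smul_smul]
  refine Finset.sum_congr rfl fun a _ => ?_
  rw [Finset.sum_eq_single a]
  · simp [C.θ_mul, mul_comm]
  · intro b _ hne
    simp [Ne.symm hne, hne]
  · simp

lemma comb_one {P : M → Matrix (Fin m) (Fin m) F} (hP : IsSystem P) (Y : Over (Spec (CommRingCat.of F))) :
    comb C P (1 : Y ⟶ T) = 1 := by
  have h1 : ∀ a, C.θ (1 : Y ⟶ T) a = 1 := fun a => by
    have hu : IsUnit (C.θ (1 : Y ⟶ T) a) :=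
      IsUnit.of_mul_eq_one (C.θ (1 : Y ⟶ T) (-a)) (by rw [← C.θ_add, add_neg_cancel, C.θ_zero])
    refine hu.mul_left_cancel ?_
    rw [← C.θ_mul, _root_.one_mul, _root_.mul_one]
  simp only [comb, h1, one_smul]
  rw [← Matrix.map_one (algebraMap F Γ(Y.left, ⊤)) (map_zero _) (map_one _), ← hP.2]
  ext l j
  simp [Matrix.sum_apply]

omit [Fintype M] in
/-- Coefficient comparison in the group algebra of `M × M`. -/
lemma proj_of_coeff {R : Type u} [CommRing R] [Algebra F R] {n : ℕ} (S : Finset M)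
    (P : M → Matrix (Fin n) (Fin n) F) (x y z : M → R) (c : R →ₗ[F] F) {a b : M} (ha : a ∈ S) (hb : b ∈ S)
    (hxy : ∀ a' b', c (x a' * y b') = if a' = a ∧ b' = b then 1 else 0)
    (hz : ∀ a', c (z a') = if a' = a ∧ a' = b then 1 else 0)
    (h : ∀ l m, ∑ a' ∈ S, P a' l m • z a' = ∑ j, (∑ a' ∈ S, P a' l j • x a') * (∑ b' ∈ S, P b' j m • y b')) :
    P a * P b = if a = b then P a else 0 := by
  refine Matrix.ext fun l m => ?_
  have h' := congrArg c (h l m)
  simp only [Finset.sum_mul, Finset.mul_sum, smul_mul_smul_comm, map_sum, map_smul, hxy, hz, smul_eq_mul,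
    mul_ite, _root_.mul_one, mul_zero] at h'
  rw [Matrix.mul_apply]
  have e : ∀ j, ∑ b' ∈ S, ∑ a' ∈ S, (if a' = a ∧ b' = b then P a' l j * P b' j m else 0) = P a l j * P b j m := by
    intro j
    rw [Finset.sum_eq_single b (fun b' _ hne => Finset.sum_eq_zero fun a' _ => if_neg fun h => hne h.2)
      (fun hn => absurd hb hn), Finset.sum_eq_single a (fun a' _ hne => if_neg fun h => hne h.1)
      (fun hn => absurd ha hn), if_pos ⟨rfl, rfl⟩]
  have e' : ∀ j, ∑ a' ∈ S, ∑ b' ∈ S, (if a' = a ∧ b' = b then P a' l j * P b' j m else 0) = P a l j * P b j m :=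
    fun j => Finset.sum_comm.trans (e j)
  refine Eq.trans ?_ (h'.symm.trans ?_)
  · exact Finset.sum_congr rfl fun j _ => by first | exact (e j).symm | exact (e' j).symm
  · by_cases hab : a = b
    · subst hab
      rw [if_pos rfl, Finset.sum_eq_single a (fun a' _ hne => if_neg fun h => hne h.1)
        (fun hn => absurd ha hn), if_pos ⟨rfl, rfl⟩]
    · rw [if_neg hab]
      exact Finset.sum_eq_zero fun a' _ => if_neg fun h => hab (h.1.symm.trans h.2)

/-- The weights of a homomorphism. -/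
theorem isSystem_weights (i : T ⟶ G) [IsMonHom i] : IsSystem (weights C D i) := by
  refine ⟨fun a b => ?_, ?_⟩
  · let L2 := Laurent F (M × M)
    let j : (M →+ M × M) → (Laurent F M →ₐ[F] L2) := fun φ =>
      MonoidAlgebra.mapDomainAlgHom F F (AddMonoidHom.toMultiplicative φ)
    have hj : ∀ φ a, j φ (mon a) = mon (φ a) := fun φ a => MonoidAlgebra.mapDomain_single ..
    have hθ : ∀ φ a, C.θ (TMap (j φ) ≫ univ C) a = ev L2 (mon (φ a)) := fun φ a => by
      rw [C.θ_comp, θ_univ, ← hj]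
      exact pull_TMap (j φ) (mon a)
    let j1 := AddMonoidHom.inl M M
    let j2 := AddMonoidHom.inr M M
    have hττ : TMap (j (j1 + j2)) ≫ univ C = (TMap (j j1) ≫ univ C) * (TMap (j j2) ≫ univ C) :=
      C.θ_ext fun a => by rw [C.θ_mul, hθ, hθ, hθ, ← map_mul, ← mon_add, AddMonoidHom.add_apply]
    have h : comb C (weights C D i) (TMap (j (j1 + j2)) ≫ univ C) =
        comb C (weights C D i) (TMap (j j1) ≫ univ C) * comb C (weights C D i) (TMap (j j2) ≫ univ C) := by
      rw [← mat_eq, ← mat_eq, ← mat_eq, hττ, MonObj.mul_comp, D.mat_mul]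
    refine proj_of_coeff Finset.univ (weights C D i) (fun a' => ev L2 (mon (j1 a'))) (fun b' => ev L2 (mon (j2 b')))
      (fun a' => ev L2 (mon ((j1 + j2) a'))) (coef (a, b)) (Finset.mem_univ a) (Finset.mem_univ b)
      (fun a' b' => ?_) (fun a' => ?_) fun l k => ?_
    · rw [← map_mul, ← mon_add, coef_ev, coeffL_mon]
      exact if_congr (by simp [j1, j2, Prod.ext_iff]) rfl rfl
    · rw [coef_ev, coeffL_mon]
      exact if_congr (by simp [j1, j2, Prod.ext_iff]) rfl rfl
    · have h' := congrFun (congrFun h l) k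
      have key : ∀ (φ : M →+ M × M) (l' k' : Fin m), comb C (weights C D i) (TMap (j φ) ≫ univ C) l' k' =
          ∑ a', weights C D i a' l' k' • ev L2 (mon (φ a')) := fun φ l' k' => by
        simp only [comb, Matrix.sum_apply, Matrix.smul_apply, Matrix.map_apply, hθ, smul_eq_mul]
        exact Finset.sum_congr rfl fun a' _ => by rw [Algebra.smul_def, mul_comm]
      rw [Matrix.mul_apply] at h'
      simpa only [key] using h'
  · have h := mat_eq C D i (1 : 𝟙_ (Over (Spec (CommRingCat.of F))) ⟶ T)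
    rw [MonObj.one_comp, D.mat_one] at h
    have h1 : ∀ a, C.θ (1 : 𝟙_ (Over (Spec (CommRingCat.of F))) ⟶ T) a = 1 := fun a => by
      have hu : IsUnit (C.θ (1 : 𝟙_ (Over (Spec (CommRingCat.of F))) ⟶ T) a) :=
        IsUnit.of_mul_eq_one (C.θ 1 (-a)) (by rw [← C.θ_add, add_neg_cancel, C.θ_zero])
      refine hu.mul_left_cancel ?_
      rw [← C.θ_mul, _root_.one_mul, _root_.mul_one]
    simp only [comb, h1, one_smul] at h
    have hinj : Function.Injective (algebraMap F Γ((𝟙_ (Over (Spec (CommRingCat.of F)))).left, ⊤)) := by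
      intro x y hxy
      exact (ConcreteCategory.bijective_of_isIso (Scheme.ΓSpecIso (CommRingCat.of F)).inv).1
        (by
          change ((Scheme.ΓSpecIso (CommRingCat.of F)).inv ≫
              Scheme.Hom.appTop (𝟙 (Spec (CommRingCat.of F)) : Spec (CommRingCat.of F) ⟶ Spec (CommRingCat.of F))).hom x =
            ((Scheme.ΓSpecIso (CommRingCat.of F)).inv ≫
              Scheme.Hom.appTop (𝟙 (Spec (CommRingCat.of F)) : Spec (CommRingCat.of F) ⟶ Spec (CommRingCat.of F))).hom y at hxy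
          simpa using hxy)
    apply Matrix.map_injective hinj
    dsimp only
    rw [Matrix.map_one _ (map_zero _) (map_one _), h]
    ext l k
    simp [Matrix.sum_apply]

/-- A system of weights comes from a homomorphism. -/
theorem exists_hom {P : M → Matrix (Fin m) (Fin m) F} (hP : IsSystem P) :
    ∃ (i : T ⟶ G) (_ : IsMonHom i), weights C D i = P := by
  have hu : IsUnit (comb C P (𝟙 T)).det := by
    refine IsUnit.of_mul_eq_one (comb C P ((𝟙 T)⁻¹ : T ⟶ T)).det ?_
    rw [← Matrix.det_mul, ← comb_mul C hP, mul_inv_cancel, comb_one C hP, Matrix.det_one]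
  obtain ⟨i, hi⟩ := D.mat_exists _ hu
  have hy : ∀ {Y : Over (Spec (CommRingCat.of F))} (y : Y ⟶ T), D.mat (y ≫ i) = comb C P y := fun y => by
    rw [D.mat_comp, hi, ← comb_comp, Category.comp_id]
  refine ⟨i, ⟨D.mat_inj ?_, D.mat_inj ?_⟩, weights_eq C D i P (hy _)⟩
  · rw [hy, MonObj.one_eq_one, comb_one C hP, MonObj.one_eq_one, D.mat_one]
  · rw [hy, MonObj.mul_eq_mul T, comb_mul C hP, ← hy, ← hy, MonObj.mul_eq_mul G, MonObj.comp_mul, D.mat_mul,
      tensorHom_fst, tensorHom_snd]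

/-- The matrix of a rational point. -/
def ptMat (g : 𝟙_ (Over (Spec (CommRingCat.of F))) ⟶ G) : Matrix (Fin m) (Fin m) F :=
  (D.mat g).map (Scheme.ΓSpecIso (CommRingCat.of F)).hom.hom

lemma mat_const (g : 𝟙_ (Over (Spec (CommRingCat.of F))) ⟶ G) (Y : Over (Spec (CommRingCat.of F))) :
    D.mat (toUnit Y ≫ g) = (ptMat D g).map (algebraMap F Γ(Y.left, ⊤)) := by
  rw [D.mat_comp]
  ext a b
  show (toUnit Y).left.appTop (D.mat g a b) =
    ((Scheme.ΓSpecIso (CommRingCat.of F)).inv ≫ Y.hom.appTop).hom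
      ((Scheme.ΓSpecIso (CommRingCat.of F)).hom (D.mat g a b))
  rw [show ((Scheme.ΓSpecIso (CommRingCat.of F)).inv ≫ Y.hom.appTop).hom
      ((Scheme.ΓSpecIso (CommRingCat.of F)).hom (D.mat g a b)) =
    ((Scheme.ΓSpecIso (CommRingCat.of F)).hom ≫ (Scheme.ΓSpecIso (CommRingCat.of F)).inv ≫ Y.hom.appTop).hom
      (D.mat g a b) from rfl, Iso.hom_inv_id_assoc]
  rfl

lemma isUnit_ptMat (g : 𝟙_ (Over (Spec (CommRingCat.of F))) ⟶ G) : IsUnit (ptMat D g).det := by
  rw [ptMat, ← RingHom.mapMatrix_apply, ← RingHom.map_det]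
  exact (D.isUnit_mat g).map _

lemma exists_ptMat_eq (A : Matrix (Fin m) (Fin m) F) (hA : IsUnit A.det) :
    ∃ g : 𝟙_ (Over (Spec (CommRingCat.of F))) ⟶ G, ptMat D g = A := by
  have hu : IsUnit (A.map (Scheme.ΓSpecIso (CommRingCat.of F)).inv.hom).det := by
    rw [← RingHom.mapMatrix_apply, ← RingHom.map_det]
    exact hA.map _
  obtain ⟨g, hg⟩ := D.mat_exists (Y := 𝟙_ (Over (Spec (CommRingCat.of F)))) _ hu
  refine ⟨g, ?_⟩
  rw [ptMat, hg]
  ext a b
  exact congr($((Scheme.ΓSpecIso (CommRingCat.of F)).inv_hom_id) (A a b))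

/-- Conjugation conjugates the weights. -/
theorem weights_conjBy (g : 𝟙_ (Over (Spec (CommRingCat.of F))) ⟶ G) (i : T ⟶ G) :
    weights C D (AGF.conjBy g i) = fun a => ptMat D g * weights C D i a * (ptMat D g)⁻¹ := by
  refine weights_eq C D _ _ ?_
  let Y := TSpec (K := F) (Laurent F M)
  have e : univ C ≫ AGF.conjBy g i = (toUnit Y ≫ g) * (univ C ≫ i) * (toUnit Y ≫ g)⁻¹ := by
    show univ C ≫ ((toUnit T ≫ g) * i * (toUnit T ≫ g)⁻¹) = _
    rw [MonObj.comp_mul, MonObj.comp_mul, GrpObj.comp_inv, ← Category.assoc, toUnit_unique (univ C ≫ toUnit T) (toUnit Y)]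
  have hinv : D.mat ((toUnit Y ≫ g)⁻¹) = ((ptMat D g)⁻¹).map (algebraMap F Γ(Y.left, ⊤)) := by
    have hu : IsUnit ((ptMat D g).map (algebraMap F Γ(Y.left, ⊤))) := by
      rw [← mat_const]
      exact (Matrix.isUnit_iff_isUnit_det _).2 (D.isUnit_mat _)
    refine hu.mul_left_cancel ?_
    rw [← Matrix.map_mul, Matrix.mul_nonsing_inv _ (isUnit_ptMat D g), Matrix.map_one _ (map_zero _) (map_one _),
      ← mat_const, ← D.mat_mul, mul_inv_cancel, D.mat_one]
  rw [e, D.mat_mul, D.mat_mul, mat_eq C D i, mat_const, hinv]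
  simp only [comb, Y, Finset.mul_sum, Finset.sum_mul, Matrix.mul_smul, Matrix.smul_mul, ← Matrix.map_mul]

end Weights

section Extension

variable {K : Type u} [Field K] [Algebra F K]
variable {T G : Over (Spec (CommRingCat.of F))} [GrpObj T] [GrpObj G] {M : Type} [AddCommGroup M] [Fintype M]
  [DecidableEq M] {m : ℕ} (C : Chars T M) (D : MatPts G m)

/-- A field extension maps the weights entrywise. -/
theorem weights_bc (i : T ⟶ G) :
    weights (C.bc (K := K)) (D.bc (K := K)) ((Over.pullback (bmap F K)).map i) =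
      fun a => (weights C D i a).map (algebraMap F K) := by
  refine weights_eq _ _ _ _ ?_
  show D.mat (DiagRig.bcTr (bmap F K) (univ (C.bc (K := K)) ≫ (Over.pullback (bmap F K)).map i)) = _
  rw [bcTr_map, mat_eq C D i]
  ext l j
  simp only [comb, Matrix.sum_apply, Matrix.smul_apply, Matrix.map_apply, smul_eq_mul, algebraMap_map]
  rfl

end Extension

end Groth.Agent.GrpScheme.DiagRep
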