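import Groth.Agent.GrpScheme.Basic
import Mathlib.Topology.LocallyClosed

/-!
# Point calculus for group schemes over a one-point base

If the base is a field, images of homomorphisms of group schemes which are locally closed are
closed. The proof works with points valued in arbitrary nonempty schemes instead of closed points.
-/

set_option autoImplicit false

universe u

open CategoryTheory MonoidalCategory CartesianMonoidalCategory MonObj GrpObj AlgebraicGeometry
  Limits

namespace Groth.Agent.GrpScheme.Points

variable {S : Scheme.{u}}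

/-- The spectrum of the residue field at a point, as an object over the base. -/
noncomputable abbrev pointObj (X : Over S) (x : X.left) : Over S :=
  Over.mk (X.left.fromSpecResidueField x ≫ X.hom)

/-- The point `x` as a morphism. -/
noncomputable def pointHom (X : Over S) (x : X.left) : pointObj X x ⟶ X :=
  Over.homMk (X.left.fromSpecResidueField x) rfl

@[simp]
lemma pointHom_apply (X : Over S) (x : X.left) (t : (pointObj X x).left) :
    (pointHom X x).left t = x :=
  Scheme.fromSpecResidueField_apply x t

instance (X : Over S) (x : X.left) : Nonempty (pointObj X x).left :=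
  inferInstanceAs (Nonempty (Spec (X.left.residueField x)))

lemma comp_apply {A B C : Over S} (f : A ⟶ B) (g : B ⟶ C) (a : A.left) :
    (f ≫ g).left a = g.left (f.left a) :=
  Scheme.Hom.comp_apply _ _ _

/-- Points with image in the range of `ψ` lift after passing to a nonempty cover. -/
lemma exists_lift {H G T : Over S} [Nonempty T.left] (ψ : H ⟶ G) (g : T ⟶ G)
    (hg : ∀ t, g.left t ∈ Set.range ψ.left) :
    ∃ (T' : Over S) (_ : Nonempty T'.left) (π : T' ⟶ T) (h : T' ⟶ H), h ≫ ψ = π ≫ g := by
  obtain ⟨t⟩ := ‹Nonempty T.left›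
  obtain ⟨a, ha⟩ := hg t
  obtain ⟨z, -, -⟩ := Scheme.Pullback.exists_preimage_pullback (f := g.left) (g := ψ.left) t a ha.symm
  refine ⟨Over.mk (pullback.fst g.left ψ.left ≫ T.hom), ⟨z⟩, Over.homMk (pullback.fst _ _) rfl,
    Over.homMk (pullback.snd _ _) ?_, Over.OverMorphism.ext pullback.condition.symm⟩
  change pullback.snd g.left ψ.left ≫ H.hom = pullback.fst g.left ψ.left ≫ T.hom
  rw [← Over.w g, ← Over.w ψ, ← Category.assoc, ← pullback.condition, Category.assoc]

variable {G T : Over S} [GrpObj G]

/-- The automorphism `(t, z) ↦ (t, z * g t)` of `T ⊗ G`. -/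
noncomputable def rightShear (g : T ⟶ G) : T ⊗ G ≅ T ⊗ G where
  hom := lift (fst T G) (snd T G * (fst T G ≫ g))
  inv := lift (fst T G) (snd T G * (fst T G ≫ g)⁻¹)
  hom_inv_id := by
    refine CartesianMonoidalCategory.hom_ext _ _ (by simp) ?_
    rw [Category.assoc, lift_snd, MonObj.comp_mul, GrpObj.comp_inv]
    simp
  inv_hom_id := by
    refine CartesianMonoidalCategory.hom_ext _ _ (by simp) ?_
    rw [Category.assoc, lift_snd, MonObj.comp_mul]
    simp

lemma snd_surjective_of_field {K : Type u} [Field K] (A B : Over (Spec (CommRingCat.of K)))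
    [Nonempty A.left] : Surjective (snd A B).left := by
  have : Surjective A.hom :=
    ⟨Function.surjective_to_subsingleton (α := A.left) (β := Spec (CommRingCat.of K)) _⟩
  exact Basic.snd_left_mem @Surjective this

section Field

variable {K : Type u} [Field K] {H G : Over (Spec (CommRingCat.of K))} [GrpObj H] [GrpObj G]
  (ψ : H ⟶ G) [IsMonHom ψ]

lemma mul_mem_range {T : Over (Spec (CommRingCat.of K))} [Nonempty T.left] (a b : T ⟶ G)
    (ha : ∀ t, a.left t ∈ Set.range ψ.left) (hb : ∀ t, b.left t ∈ Set.range ψ.left)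
    (x : G.left) (hx : ∀ t, (a * b).left t = x) : x ∈ Set.range ψ.left := by
  obtain ⟨T', _, π, h₁, e₁⟩ := exists_lift ψ a ha
  obtain ⟨T'', ⟨t⟩, π', h₂, e₂⟩ := exists_lift ψ (π ≫ b)
    (fun t => by rw [comp_apply]; exact hb _)
  refine ⟨((π' ≫ h₁) * h₂).left t, ?_⟩
  rw [← hx (π.left (π'.left t)), ← comp_apply, ← comp_apply, ← comp_apply]
  congr 2
  rw [MonObj.mul_comp, Category.assoc, e₁, e₂, ← MonObj.comp_mul, ← MonObj.comp_mul]

lemma inv_mem_range {x : G.left} (hx : x ∈ Set.range ψ.left) :
    ι[G].left x ∈ Set.range ψ.left := by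
  obtain ⟨y, rfl⟩ := hx
  exact ⟨ι[H].left y, by rw [← comp_apply, ← comp_apply, GrpObj.inv_hom]⟩

lemma inv_left_apply {T : Over (Spec (CommRingCat.of K))} (a : T ⟶ G) (t : T.left) :
    (a⁻¹).left t = ι[G].left (a.left t) := by
  rw [Hom.inv_def, comp_apply]

/-- A locally closed image of a homomorphism of group schemes over a field is closed. -/
theorem isClosed_range_of_isLocallyClosed (hU : IsLocallyClosed (Set.range ψ.left)) :
    IsClosed (Set.range ψ.left) := by
  set U := Set.range ψ.left with hUdef
  have hO : IsOpen (coborder U) := hU.isOpen_coborder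
  have hιcl : ∀ x ∈ closure U, ι[G].left x ∈ closure U := fun x hx =>
    map_mem_closure ι[G].left.continuous hx fun y hy => inv_mem_range ψ hy
  have hop : ∀ T : Over (Spec (CommRingCat.of K)), IsOpenMap (snd T G).left := fun T =>
    have : UniversallyOpen (snd T G).left := Basic.snd_left_mem @UniversallyOpen inferInstance
    Scheme.Hom.isOpenMap _
  have hpre : ∀ T : Over (Spec (CommRingCat.of K)),
      (snd T G).left ⁻¹' closure U = closure ((snd T G).left ⁻¹' U) := fun T =>
    (hop T).preimage_closure_eq_closure_preimage (snd T G).left.continuous U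
  -- Step 1: `U * closure U ⊆ closure U`
  have step1 : ∀ {T : Over (Spec (CommRingCat.of K))} [Nonempty T.left] (a b : T ⟶ G),
      (∀ t, a.left t ∈ U) → (∀ t, b.left t ∈ closure U) → ∀ t, (a * b).left t ∈ closure U := by
    intro T _ a b ha hb t
    let e := Basic.shear (Basic.leftAction G) a
    have hmaps : Set.MapsTo (e.hom ≫ snd T G).left ((snd T G).left ⁻¹' U) U := by
      intro q hq
      let p := pointHom (T ⊗ G) q
      have he : p ≫ e.hom ≫ snd T G = (p ≫ fst T G ≫ a) * (p ≫ snd T G) := by
        simp [e, Basic.shear, Basic.smul, Basic.leftAction, Hom.mul_def, comp_lift_assoc]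
      refine mul_mem_range ψ (p ≫ fst T G ≫ a) (p ≫ snd T G) (fun s => ?_) (fun s => ?_) _
        (fun s => ?_)
      · rw [comp_apply, comp_apply]; exact ha _
      · rw [comp_apply, pointHom_apply]; exact hq
      · rw [← he, comp_apply, pointHom_apply]
    have hq : (lift (𝟙 T) b).left t ∈ closure ((snd T G).left ⁻¹' U) := by
      rw [← hpre, Set.mem_preimage, ← comp_apply, lift_snd]
      exact hb t
    have := map_mem_closure (e.hom ≫ snd T G).left.continuous hq hmaps
    rwa [← comp_apply, show lift (𝟙 T) b ≫ e.hom ≫ snd T G = a * b by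
      simp [e, Basic.shear, Basic.smul, Basic.leftAction, Hom.mul_def, comp_lift_assoc]] at this
  refine isClosed_of_closure_subset fun x hx => ?_
  let T := pointObj G x
  let g : T ⟶ G := pointHom G x
  obtain ⟨t⟩ := (inferInstance : Nonempty T.left)
  -- right translation by `g^{±1}` preserves the preimage of the closure
  have step2 : ∀ (b : T ⟶ G), (∀ s, b.left s ∈ closure U) →
      ∀ q ∈ (snd T G).left ⁻¹' closure U,
        ((rightShear b).hom ≫ snd T G).left q ∈ closure U := by
    intro b hb q hq
    rw [hpre] at hq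
    have hm : Set.MapsTo ((rightShear b).hom ≫ snd T G).left ((snd T G).left ⁻¹' U) (closure U) := by
      intro q hq
      let p := pointHom (T ⊗ G) q
      obtain ⟨s⟩ := (inferInstance : Nonempty (pointObj (T ⊗ G) q).left)
      have := step1 (p ≫ snd T G) (p ≫ fst T G ≫ b)
        (fun s => by rw [comp_apply, pointHom_apply]; exact hq)
        (fun s => by rw [comp_apply, comp_apply]; exact hb _) s
      rw [← MonObj.comp_mul, show (snd T G * fst T G ≫ b) = (rightShear b).hom ≫ snd T G by
        simp [rightShear], comp_apply, pointHom_apply] at this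
      exact this
    have := map_mem_closure ((rightShear b).hom ≫ snd T G).left.continuous hq hm
    rwa [closure_closure] at this
  have hg : ∀ s, g.left s ∈ closure U := fun s => by rw [pointHom_apply]; exact hx
  have hg' : ∀ s, (g⁻¹).left s ∈ closure U := fun s => by
    rw [inv_left_apply]; exact hιcl _ (hg s)
  -- the translated open set meets `U`
  let V := ((rightShear g).inv ≫ snd T G).left ⁻¹' coborder U
  let q₁ := (lift (𝟙 T) (1 : T ⟶ G)).left t
  have hq₁ : (snd T G).left q₁ ∈ U := by
    rw [← comp_apply, lift_snd, Hom.one_def, comp_apply]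
    exact ⟨η[H].left ((toUnit T).left t), by rw [← comp_apply, IsMonHom.one_hom]⟩
  have hV : IsOpen V := hO.preimage ((rightShear g).inv ≫ snd T G).left.continuous
  have h1V : (rightShear g).hom.left q₁ ∈ V := by
    show ((rightShear g).inv ≫ snd T G).left ((rightShear g).hom.left q₁) ∈ coborder U
    rw [← comp_apply, Iso.hom_inv_id_assoc]
    exact subset_coborder hq₁
  have h1Z : (rightShear g).hom.left q₁ ∈ (snd T G).left ⁻¹' closure U := by
    rw [Set.mem_preimage, ← comp_apply]
    exact step2 g hg q₁ (subset_closure hq₁ : (snd T G).left q₁ ∈ closure U)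
  rw [hpre] at h1Z
  obtain ⟨q, hqV, hqU⟩ := mem_closure_iff.mp h1Z V hV h1V
  have hinv : (rightShear g).inv = (rightShear g⁻¹).hom := by
    simp [rightShear, GrpObj.comp_inv]
  have hb : ((rightShear g).inv ≫ snd T G).left q ∈ U := by
    rw [← closure_inter_coborder (s := U)]
    refine ⟨?_, hqV⟩
    rw [hinv]
    exact step2 g⁻¹ hg' q (subset_closure hqU : (snd T G).left q ∈ closure U)
  let p := pointHom (T ⊗ G) q
  let a := p ≫ snd T G
  let b := p ≫ (rightShear g).inv ≫ snd T G
  have hab : b⁻¹ * a = p ≫ fst T G ≫ g := by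
    simp [a, b, rightShear, MonObj.comp_mul, GrpObj.comp_inv]
  refine mul_mem_range ψ b⁻¹ a (fun s => ?_) (fun s => ?_) x (fun s => ?_)
  · rw [inv_left_apply, comp_apply, pointHom_apply]
    exact inv_mem_range ψ hb
  · rw [comp_apply, pointHom_apply]; exact hqU
  · rw [hab, comp_apply, comp_apply, pointHom_apply]

/-- For a geometrically irreducible group scheme over a field, the product of two nonempty
open subsets is everything. -/
theorem mul_opens_surjective {G : Over (Spec (CommRingCat.of K))} [GrpObj G]
    [GeometricallyIrreducible G.hom] (U V : G.left.Opens) (hU : (U : Set G.left).Nonempty)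
    (hV : (V : Set G.left).Nonempty) (x : G.left) :
    ∃ p : (G ⊗ G).left, (fst G G).left p ∈ U ∧ (snd G G).left p ∈ V ∧ μ[G].left p = x := by
  let T := pointObj G x
  let g : T ⟶ G := pointHom G x
  have : GeometricallyIrreducible (fst T G).left :=
    inferInstanceAs (GeometricallyIrreducible (pullback.fst T.hom G.hom))
  have : IrreducibleSpace T.left := by
    have : Subsingleton T.left :=
      inferInstanceAs (Subsingleton (Spec (G.left.residueField x)))
    exact { toPreirreducibleSpace := ⟨fun u v _ _ ⟨a, _, ha⟩ ⟨b, _, hb⟩ =>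
      ⟨a, trivial, ha, Subsingleton.elim b a ▸ hb⟩⟩, toNonempty := inferInstance }
  have : UniversallyOpen (fst T G).left :=
    inferInstanceAs (UniversallyOpen (pullback.fst T.hom G.hom))
  have : IrreducibleSpace (T ⊗ G).left :=
    GeometricallyIrreducible.irreducibleSpace (fst T G).left (fst T G).left.isOpenMap
  have : Surjective (snd T G).left := snd_surjective_of_field T G
  let d := lift (fst T G) ((fst T G ≫ g) * (snd T G)⁻¹)
  let d' := lift (fst T G) ((snd T G)⁻¹ * (fst T G ≫ g))
  have hd : d' ≫ d = 𝟙 _ := by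
    refine CartesianMonoidalCategory.hom_ext _ _ (by simp [d, d']) ?_
    simp only [d, d', Category.assoc, lift_snd, MonObj.comp_mul, GrpObj.comp_inv, lift_fst_assoc,
      Category.id_comp]
    simp
  have hopen : IsOpen ((d ≫ snd T G).left ⁻¹' (U : Set G.left)) :=
    U.2.preimage (d ≫ snd T G).left.continuous
  have hne : ((d ≫ snd T G).left ⁻¹' (U : Set G.left)).Nonempty := by
    obtain ⟨z, hz⟩ := hU
    obtain ⟨q, rfl⟩ := (snd T G).left.surjective z
    refine ⟨d'.left q, ?_⟩
    rw [Set.mem_preimage, ← comp_apply, ← Category.assoc, hd, Category.id_comp]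
    exact hz
  obtain ⟨q, hqU, hqV⟩ := nonempty_preirreducible_inter hopen
    (V.2.preimage (snd T G).left.continuous) hne (hV.preimage (snd T G).left.surjective)
  refine ⟨(lift (d ≫ snd T G) (snd T G)).left q, ?_, ?_, ?_⟩
  · rw [← comp_apply, lift_fst]; exact hqU
  · rw [← comp_apply, lift_snd]; exact hqV
  · rw [← comp_apply, ← Hom.mul_def]
    simp only [d, lift_snd, inv_mul_cancel_right]
    rw [comp_apply, pointHom_apply]

/-- An irreducible geometrically irreducible group scheme over a field is quasi-compact. -/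
theorem compactSpace_of_geometricallyIrreducible {G : Over (Spec (CommRingCat.of K))} [GrpObj G]
    [GeometricallyIrreducible G.hom] : CompactSpace G.left := by
  obtain ⟨_, ⟨W : G.left.Opens, hW, rfl⟩, hxW, -⟩ :=
    G.left.isBasis_affineOpens.exists_subset_of_mem_open
      (Set.mem_univ (η[G].left (IsLocalRing.closedPoint K))) isOpen_univ
  let w : Over.mk (W.ι ≫ G.hom) ⟶ G := Over.homMk W.ι rfl
  have : IsAffine (W : Scheme.{u}) := hW
  have : IsAffine (Over.mk (W.ι ≫ G.hom) ⊗ Over.mk (W.ι ≫ G.hom)).left :=
    inferInstanceAs (IsAffine (pullback (W.ι ≫ G.hom) (W.ι ≫ G.hom)))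
  refine ⟨?_⟩
  have hsurj : Set.range ((w ⊗ₘ w) ≫ μ[G]).left = Set.univ := by
    refine Set.eq_univ_of_forall fun x => ?_
    obtain ⟨p, hp₁, hp₂, rfl⟩ := mul_opens_surjective W W ⟨_, hxW⟩ ⟨_, hxW⟩ x
    obtain ⟨q, hq⟩ : p ∈ Set.range (pullback.map (W.ι ≫ G.hom) (W.ι ≫ G.hom) G.hom G.hom W.ι W.ι
        (𝟙 _) (by simp) (by simp)) := by
      rw [Scheme.Pullback.range_map]
      exact ⟨by simpa using hp₁, by simpa using hp₂⟩
    refine ⟨q, ?_⟩
    rw [comp_apply]
    exact congrArg μ[G].left hq
  rw [← hsurj]
  exact isCompact_range ((w ⊗ₘ w) ≫ μ[G]).left.continuous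

end Field

end Groth.Agent.GrpScheme.Points
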