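import Groth.Agent.GrpScheme.IdComponent
import Mathlib.RingTheory.Ideal.Pure

/-!
# The identity component as a flat closed subgroup scheme
-/

set_option autoImplicit false

universe u

open CategoryTheory MonoidalCategory CartesianMonoidalCategory MonObj GrpObj AlgebraicGeometry
  Limits
open Groth.Agent.GrpScheme.IdComponent (e₀)

namespace Groth.Agent.GrpScheme.IdSubgroup

variable {K : Type u} [Field K] (G : Over (Spec (CommRingCat.of K))) [GrpObj G]

/-- Open and closed subsets containing the unit. -/
abbrev Clo := {S : G.left.Opens // IsClosed (S : Set G.left) ∧ e₀ G ∈ S}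

/-- The ideal sheaf of the identity component. -/
noncomputable def ideal : G.left.IdealSheafData := ⨆ S : Clo G, (S.1.ι).ker

/-- The identity component as a closed subscheme. -/
noncomputable def G₀ : Over (Spec (CommRingCat.of K)) :=
  Over.mk ((ideal G).subschemeι ≫ G.hom)

/-- The inclusion of the identity component. -/
noncomputable def incl : G₀ G ⟶ G := Over.homMk (ideal G).subschemeι rfl

instance : IsClosedImmersion (incl G).left :=
  inferInstanceAs (IsClosedImmersion (ideal G).subschemeι)

lemma isClosedImmersion_ι (S : Clo G) : IsClosedImmersion S.1.ι :=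
  .of_isPreimmersion _ (by rw [Scheme.Opens.range_ι]; exact S.2.1)

lemma connectedComponent_subset (S : Clo G) : connectedComponent (e₀ G) ⊆ (S.1 : Set G.left) :=
  (IsClopen.connectedComponent_subset ⟨S.2.1, S.1.2⟩ S.2.2)

lemma range_incl : Set.range (incl G).left = connectedComponent (e₀ G) := by
  have hsupp : Set.range (incl G).left = ⋂ S : Clo G, (S.1 : Set G.left) := by
    refine (Scheme.IdealSheafData.range_subschemeι _).trans ?_
    rw [ideal, Scheme.IdealSheafData.support_iSup, TopologicalSpace.Closeds.coe_iInf]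
    refine Set.iInter_congr fun S => ?_
    have := isClosedImmersion_ι G S
    rw [Scheme.Hom.support_ker, Scheme.Opens.range_ι, S.2.1.closure_eq]
  rw [hsupp]
  refine Set.Subset.antisymm (fun x hx => ?_) (Set.subset_iInter fun S => connectedComponent_subset G S)
  rw [IdComponent.connectedComponent_eq]
  by_contra h
  obtain ⟨S, hS, -, he, hxS⟩ := IdComponent.exists_clopen G h
  exact hxS (Set.mem_iInter.mp hx ⟨⟨S, hS.2⟩, hS.1, he⟩)

/-- Morphisms landing set-theoretically in the identity component factor through it. -/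
lemma exists_factor {T : Over (Spec (CommRingCat.of K))} (f : T ⟶ G)
    (h : Set.range f.left ⊆ connectedComponent (e₀ G)) : ∃ g : T ⟶ G₀ G, g ≫ incl G = f := by
  have hle : (ideal G).subschemeι.ker ≤ f.left.ker := by
    rw [Scheme.IdealSheafData.ker_subschemeι, ideal, iSup_le_iff]
    intro S
    have hr : Set.range f.left ⊆ Set.range S.1.ι := by
      rw [Scheme.Opens.range_ι]; exact h.trans (connectedComponent_subset G S)
    rw [← IsOpenImmersion.lift_fac S.1.ι f.left hr]
    exact Scheme.Hom.le_ker_comp _ _
  let l : T.left ⟶ (ideal G).subscheme := IsClosedImmersion.lift (ideal G).subschemeι f.left hle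
  have hl : l ≫ (ideal G).subschemeι = f.left := IsClosedImmersion.lift_fac _ _ hle
  refine ⟨Over.homMk l ?_, Over.OverMorphism.ext hl⟩
  change l ≫ (ideal G).subschemeι ≫ G.hom = T.hom
  rw [reassoc_of% hl, Over.w]

instance : Mono (incl G) := Over.mono_of_mono_left _

/-- Products of points of the identity component lie in it. -/
lemma mul_mem {T : Over (Spec (CommRingCat.of K))} (a b : T ⟶ G)
    (ha : Set.range a.left ⊆ connectedComponent (e₀ G))
    (hb : Set.range b.left ⊆ connectedComponent (e₀ G)) :
    Set.range (a * b).left ⊆ connectedComponent (e₀ G) := by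
  rintro _ ⟨t, rfl⟩
  rw [IdComponent.connectedComponent_eq] at ha hb ⊢
  let u := b.left t
  let T₁ := Points.pointObj T t
  let p := Points.pointHom T t
  obtain ⟨T₂, _, π₁, z, ez⟩ := Points.exists_lift (IdComponent.zι G) (p ≫ a) fun s => by
    rw [Points.comp_apply, IdComponent.range_zι]
    exact ha ⟨_, rfl⟩
  obtain ⟨T₃, ⟨t₃⟩, π₂, w, ew⟩ := Points.exists_lift (Points.pointHom G u) (π₁ ≫ p ≫ b) fun s => by
    rw [Points.comp_apply, Points.comp_apply, Points.pointHom_apply]
    obtain ⟨t'⟩ := (inferInstance : Nonempty (Points.pointObj G u).left)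
    exact ⟨t', Points.pointHom_apply G u t'⟩
  obtain ⟨g, hg, hgu, hgp⟩ :=
    IdComponent.exists_gen_translate G u ((lift (π₂ ≫ z) w).left t₃)
  have hh := congr(($(show lift (π₂ ≫ z) w ≫
      ((fst (IdComponent.zObj G) (Points.pointObj G u) ≫ IdComponent.zι G) *
        (snd (IdComponent.zObj G) (Points.pointObj G u) ≫ Points.pointHom G u)) =
      π₂ ≫ π₁ ≫ p ≫ (a * b) by
    rw [MonObj.comp_mul, lift_fst_assoc, lift_snd_assoc, ew, Category.assoc, ez,
      MonObj.comp_mul, MonObj.comp_mul, MonObj.comp_mul])).left t₃)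
  rw [Points.comp_apply, Points.comp_apply, Points.comp_apply, Points.comp_apply,
    Points.pointHom_apply] at hh
  rw [hh] at hgp
  obtain ⟨c, hc, hce⟩ := Component.exists_isMaxGen (e₀ G)
  obtain ⟨d, hd⟩ := QuasiSober.sober (isIrreducible_irreducibleComponent (x := e₀ G))
    isClosed_irreducibleComponent
  have hdmax : Component.IsMaxGen d := Component.isMaxGen_iff.mpr
    (hd.def.symm ▸ irreducibleComponent_mem_irreducibleComponents _)
  have hdu : d ⤳ u := hd.specializes (hb ⟨t, rfl⟩)
  rw [Component.uniqueComp G u g d hg hdmax hgu hdu] at hgp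
  exact hd.def ▸ specializes_iff_mem_closure.mp hgp

lemma inv_mem {x : G.left} (hx : x ∈ connectedComponent (e₀ G)) :
    ι[G].left x ∈ connectedComponent (e₀ G) := by
  have he : ι[G].left (e₀ G) = e₀ G := by
    have h : η[G] ≫ ι[G] = η[G] := by
      have := inv_one (G := 𝟙_ (Over (Spec (CommRingCat.of K))) ⟶ G)
      rw [Hom.one_def, toUnit_unit, Category.id_comp, Hom.inv_def] at this
      exact this
    exact (Points.comp_apply _ _ _).symm.trans congr(($h).left (IsLocalRing.closedPoint K))
  exact ι[G].left.continuous.image_connectedComponent_subset (e₀ G) ⟨x, hx, rfl⟩ |> fun h => he ▸ h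

lemma exists_mul : ∃ m : G₀ G ⊗ G₀ G ⟶ G₀ G, m ≫ incl G = (incl G ⊗ₘ incl G) ≫ μ[G] := by
  refine exists_factor G _ ?_
  have : (incl G ⊗ₘ incl G) ≫ μ[G] = (fst _ _ ≫ incl G) * (snd _ _ ≫ incl G) := by
    rw [Hom.mul_def]; congr 1
  rw [this]
  exact mul_mem G _ _ (by rintro _ ⟨t, rfl⟩; rw [← range_incl G, Points.comp_apply]; exact ⟨_, rfl⟩)
    (by rintro _ ⟨t, rfl⟩; rw [← range_incl G, Points.comp_apply]; exact ⟨_, rfl⟩)

lemma exists_one : ∃ o : 𝟙_ _ ⟶ G₀ G, o ≫ incl G = η[G] := by
  refine exists_factor G _ ?_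
  rintro _ ⟨t, rfl⟩
  rw [Subsingleton.elim (α := Spec (CommRingCat.of K)) t (IsLocalRing.closedPoint K)]
  exact mem_connectedComponent

lemma exists_inv : ∃ i : G₀ G ⟶ G₀ G, i ≫ incl G = incl G ≫ ι[G] := by
  refine exists_factor G _ ?_
  rintro _ ⟨t, rfl⟩
  rw [Points.comp_apply]
  exact inv_mem G ((range_incl G).subset ⟨t, rfl⟩)

noncomputable instance monObj : MonObj (G₀ G) where
  one := (exists_one G).choose
  mul := (exists_mul G).choose
  one_mul := by
    rw [← cancel_mono (incl G), Category.assoc, (exists_mul G).choose_spec, ← Category.assoc,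
      ← MonoidalCategory.tensorHom_id, MonoidalCategory.tensorHom_comp_tensorHom,
      (exists_one G).choose_spec, Category.id_comp, MonoidalCategory.tensorHom_def,
      Category.assoc, ← MonoidalCategory.whisker_exchange_assoc, MonObj.one_mul]
    simp
  mul_one := by
    rw [← cancel_mono (incl G), Category.assoc, (exists_mul G).choose_spec, ← Category.assoc,
      ← MonoidalCategory.id_tensorHom, MonoidalCategory.tensorHom_comp_tensorHom,
      (exists_one G).choose_spec, Category.id_comp, MonoidalCategory.tensorHom_def',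
      Category.assoc, MonoidalCategory.whisker_exchange_assoc, MonObj.mul_one]
    simp
  mul_assoc := by
    rw [← cancel_mono (incl G)]
    simp only [Category.assoc, (exists_mul G).choose_spec]
    rw [← MonoidalCategory.tensorHom_id, ← MonoidalCategory.id_tensorHom,
      MonoidalCategory.tensorHom_comp_tensorHom_assoc, MonoidalCategory.tensorHom_comp_tensorHom_assoc,
      (exists_mul G).choose_spec, Category.id_comp]
    have h := _root_.mul_assoc (fst (G₀ G ⊗ G₀ G) (G₀ G) ≫ fst (G₀ G) (G₀ G) ≫ incl G)
      (fst (G₀ G ⊗ G₀ G) (G₀ G) ≫ snd (G₀ G) (G₀ G) ≫ incl G) (snd (G₀ G ⊗ G₀ G) (G₀ G) ≫ incl G)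
    simp only [Hom.mul_def] at h
    convert h using 1
    · congr 1
      refine CartesianMonoidalCategory.hom_ext _ _ ?_ (by simp)
      simp only [tensorHom_fst, lift_fst, ← Category.assoc]
      congr 1
      exact CartesianMonoidalCategory.hom_ext _ _ (by simp) (by simp)
    · rw [← Category.assoc]
      congr 1
      refine CartesianMonoidalCategory.hom_ext _ _ (by simp) ?_
      simp only [tensorHom_snd, lift_snd, Category.assoc]
      rw [← Category.assoc (snd _ _), ← Category.assoc, ← Category.assoc]
      congr 1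
      exact CartesianMonoidalCategory.hom_ext _ _ (by simp) (by simp)

noncomputable instance grpObj : GrpObj (G₀ G) where
  inv := (exists_inv G).choose
  left_inv := by
    rw [← cancel_mono (incl G), Category.assoc, Category.assoc]
    show _ ≫ (exists_mul G).choose ≫ incl G = _ ≫ (exists_one G).choose ≫ incl G
    rw [(exists_mul G).choose_spec, (exists_one G).choose_spec, lift_map_assoc,
      (exists_inv G).choose_spec, Category.id_comp]
    have := inv_mul_cancel (incl G)
    rwa [Hom.mul_def, Hom.inv_def, Hom.one_def] at this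
  right_inv := by
    rw [← cancel_mono (incl G), Category.assoc, Category.assoc]
    show _ ≫ (exists_mul G).choose ≫ incl G = _ ≫ (exists_one G).choose ≫ incl G
    rw [(exists_mul G).choose_spec, (exists_one G).choose_spec, lift_map_assoc,
      (exists_inv G).choose_spec, Category.id_comp]
    have := mul_inv_cancel (incl G)
    rwa [Hom.mul_def, Hom.inv_def, Hom.one_def] at this

instance : IsMonHom (incl G) where
  one_hom := (exists_one G).choose_spec
  mul_hom := (exists_mul G).choose_spec

lemma germ_eq_zero {V : G.left.affineOpens} {x : Γ(G.left, V)} (hx : x ∈ (ideal G).ideal V)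
    {z : G.left} (hzV : z ∈ V.1) (hz : z ∈ connectedComponent (e₀ G)) :
    G.left.presheaf.germ V.1 z hzV x = 0 := by
  rw [ideal, Scheme.IdealSheafData.ideal_iSup, iSup_apply] at hx
  induction hx using Submodule.iSup_induction' with
  | zero => simp
  | add a b _ _ ha hb => rw [map_add, ha, hb, add_zero]
  | mem S a ha =>
    have := isClosedImmersion_ι G S
    rw [S.1.ι.ker_apply V] at ha
    have hzS : z ∈ S.1 := connectedComponent_subset G S hz
    have h0 : (S.1.ι.app V.1).hom a = 0 := RingHom.mem_ker.mp ha
    rw [Scheme.Opens.ι_app] at h0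
    have hzm : z ∈ S.1.ι ''ᵁ S.1.ι ⁻¹ᵁ V.1 := ⟨⟨z, hzS⟩, hzV, rfl⟩
    rw [← G.left.presheaf.germ_res_apply (homOfLE
      (show S.1.ι ''ᵁ S.1.ι ⁻¹ᵁ V.1 ≤ V.1 by
        rintro _ ⟨w, hw, rfl⟩; exact hw)) z hzm a]
    exact (congrArg _ h0).trans (map_zero _)

lemma pure_ideal (V : G.left.affineOpens) : ((ideal G).ideal V).Pure := by
  set J := (ideal G).ideal V
  have key : ∀ x ∈ J, ∃ y ∈ J, x = x * y := by
    intro x hx
    suffices J ⊔ (Ideal.span {x}).annihilator = ⊤ by
      obtain ⟨y, hy, c, hc, hyc⟩ := Submodule.mem_sup.mp ((Ideal.eq_top_iff_one _).mp this)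
      refine ⟨y, hy, ?_⟩
      have : c * x = 0 := Submodule.mem_annihilator.mp hc x (Ideal.subset_span rfl)
      linear_combination (-x) * hyc + this
    by_contra h
    obtain ⟨P, hP, hle⟩ := Ideal.exists_le_maximal _ h
    let z := V.2.fromSpec ⟨P, hP.isPrime⟩
    have hzV : z ∈ V.1 := by
      have : z ∈ Set.range V.2.fromSpec := ⟨_, rfl⟩
      rwa [V.2.range_fromSpec] at this
    have hzc : z ∈ connectedComponent (e₀ G) := by
      rw [← range_incl G]
      have hz0 : z ∈ G.left.zeroLocus (U := V.1) (J : Set Γ(G.left, V)) ∩ V.1 := by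
        refine ⟨?_, hzV⟩
        have hP' : (⟨P, hP.isPrime⟩ : PrimeSpectrum Γ(G.left, V)) ∈
            PrimeSpectrum.zeroLocus (J : Set Γ(G.left, V)) := fun a ha => hle (le_sup_left (a := J) ha)
        rw [← V.2.fromSpec_preimage_zeroLocus] at hP'
        exact hP'
      rw [← (ideal G).coe_support_inter V] at hz0
      exact (Scheme.IdealSheafData.range_subschemeι _).symm.subset hz0.1
    have h0 := germ_eq_zero G hx hzV hzc
    let := TopCat.Presheaf.algebra_section_stalk G.left.presheaf ⟨z, hzV⟩
    have hloc : IsLocalization P.primeCompl (G.left.presheaf.stalk z) :=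
      V.2.isLocalization_stalk' ⟨P, hP.isPrime⟩ hzV
    obtain ⟨⟨s, hs⟩, hsx⟩ := (IsLocalization.map_eq_zero_iff P.primeCompl _ x).mp h0
    refine hs (hle (Submodule.mem_sup_right (Submodule.mem_annihilator.mpr fun n hn => ?_)))
    obtain ⟨c, rfl⟩ := Ideal.mem_span_singleton'.mp hn
    linear_combination c * hsx
  refine Ideal.Pure.of_inf_eq_mul _ fun I _ => le_antisymm ?_ Ideal.mul_le_inf
  rintro x ⟨hxJ, hxI⟩
  obtain ⟨y, hy, e⟩ := key x hxJ
  rw [e, mul_comm x y]
  exact Ideal.mul_mem_mul hy hxI

instance : Flat (incl G).left := by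
  have : IsZariskiLocalAtSource (@Flat : MorphismProperty Scheme.{u}) :=
    HasRingHomProperty.instIsZariskiLocalAtSource (P := @Flat) (Q := RingHom.Flat)
  refine (IsZariskiLocalAtSource.iff_of_openCover (P := @Flat)
    (ideal G).subschemeCover.openCover).mpr fun (V : G.left.affineOpens) => ?_
  show Flat ((ideal G).subschemeCover.f V ≫ (ideal G).subschemeι)
  erw [Scheme.IdealSheafData.subschemeCover_map_subschemeι, Scheme.IdealSheafData.glueDataObjι,
    Category.assoc, IsAffineOpen.isoSpec_inv_ι]
  have : Flat (Spec.map (CommRingCat.ofHom (Ideal.Quotient.mk ((ideal G).ideal V)))) := by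
    rw [HasRingHomProperty.Spec_iff (P := @Flat)]
    exact RingHom.flat_algebraMap_iff.mpr (pure_ideal G V)
  have : IsOpenImmersion V.2.fromSpec := IsAffineOpen.isOpenImmersion_fromSpec _
  exact MorphismProperty.comp_mem @Flat _ _ ‹_› (inferInstanceAs (Flat V.2.fromSpec))

instance : GeometricallyIrreducible (G₀ G).hom :=
  Component.geometricallyIrreducible_component G (incl G).left
    (by rw [range_incl, IdComponent.connectedComponent_eq]
        exact irreducibleComponent_mem_irreducibleComponents _)
    (by rw [range_incl]; exact mem_connectedComponent)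

lemma compactSpace_G₀ : CompactSpace (G₀ G).left :=
  ⟨(incl G).left.isClosedEmbedding.isEmbedding.isCompact_iff.mpr (by
    rw [Set.image_univ, range_incl, IdComponent.connectedComponent_eq]
    exact IdComponent.isCompact_component G)⟩

end Groth.Agent.GrpScheme.IdSubgroup
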