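import Groth.Agent.AbVarLib.Pointed
import Groth.Agent.AbVarLib.Basics

/-!
# Abelian varieties are commutative
-/

set_option autoImplicit false

universe u

open CategoryTheory MonoidalCategory CartesianMonoidalCategory MonObj GrpObj AlgebraicGeometry
  Limits

namespace Groth.Agent.GrpScheme.AVComm

variable {K : Type u} [Field K]

/-- A proper geometrically integral group scheme over a field is commutative. -/
theorem isCommMonObj (A : Over (Spec (CommRingCat.of K))) [GrpObj A] [IsProper A.hom]
    [GeometricallyIntegral A.hom] : IsCommMonObj A := by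
  have hinv : η[A] ≫ ι[A] = η[A] := by
    rw [GrpObj.inv_eq_inv, GrpObj.comp_inv, Category.comp_id]
    have : η[A] = (1 : 𝟙_ _ ⟶ A) := by rw [Hom.one_def, toUnit_unique (toUnit _) (𝟙 _)]; simp
    rw [this, inv_one]
  have : IsMonHom ι[A] := AbVarLib.Pointed.isMonHom ι[A] hinv
  refine isCommMonObj_iff_isMulCommutative _ |>.mpr fun X => ⟨⟨fun a b => ?_⟩⟩
  have h : ∀ c : X ⟶ A, c ≫ ι[A] = c⁻¹ := fun c => by
    rw [GrpObj.inv_eq_inv, GrpObj.comp_inv, Category.comp_id]
  have := MonObj.mul_comp a b ι[A]
  rw [h, h, h, _root_.mul_inv_rev] at this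
  exact inv_injective (by rw [_root_.mul_inv_rev, _root_.mul_inv_rev]; exact this)

end Groth.Agent.GrpScheme.AVComm
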