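import Groth.Agent.LocFlat.Basic

/-!
# Local homomorphisms inducing isomorphisms on infinitesimal neighbourhoods are flat
-/

set_option autoImplicit false

universe u

open TensorProduct Function IsLocalRing

namespace Groth.Agent.GrpScheme.FlatOfFormalIso

variable {A B : Type u} [CommRing A] [CommRing B]
  [IsLocalRing A] [IsLocalRing B] [IsNoetherianRing A] [IsNoetherianRing B] [Algebra A B]

theorem flat
    (h : ∀ n : ℕ,
      Surjective ((Ideal.Quotient.mk (maximalIdeal B ^ (n + 1))).comp (algebraMap A B)) ∧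
      ∀ a : A, algebraMap A B a ∈ maximalIdeal B ^ (n + 1) ↔ a ∈ maximalIdeal A ^ (n + 1)) :
    Module.Flat A B := by
  set m := maximalIdeal A
  set M := maximalIdeal B
  have hmM : m.map (algebraMap A B) ≤ M := Ideal.map_le_iff_le_comap.mpr fun a ha => by
    simpa [M] using ((h 0).2 a).mpr (by simpa [m] using ha)
  have hgen : m.map (algebraMap A B) = M := by
    refine le_antisymm hmM (Submodule.le_of_le_smul_of_le_jacobson_bot (I := M)
      (IsNoetherian.noetherian _) (jacobson_eq_maximalIdeal ⊥ bot_ne_top).ge fun b hb => ?_)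
    obtain ⟨a, ha⟩ := (h 1).1 (Ideal.Quotient.mk _ b)
    have hab : algebraMap A B a - b ∈ M ^ (1 + 1) := Ideal.Quotient.eq.mp ha
    have haM : algebraMap A B a ∈ M := by
      have : algebraMap A B a - b ∈ M := Ideal.pow_le_self (by omega) hab
      simpa using add_mem this hb
    have ha' : a ∈ m := by simpa [m] using ((h 0).2 a).mp (by simpa [M] using haM)
    rw [show b = algebraMap A B a - (algebraMap A B a - b) by ring]
    refine sub_mem (Submodule.mem_sup_left (Ideal.mem_map_of_mem _ ha')) (Submodule.mem_sup_right ?_)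
    rwa [Ideal.smul_eq_mul, ← pow_two]
  refine LocFlat.flat_of_forall_pow (S := B) B m ?_ ?_
  · rw [jacobson_eq_maximalIdeal ⊥ bot_ne_top]; exact hmM
  intro n X Y _ _ _ _ f hf hY
  set J := m ^ (n + 1)
  let θ : A →+* B ⧸ M ^ (n + 1) := (Ideal.Quotient.mk (M ^ (n + 1))).comp (algebraMap A B)
  have hker : RingHom.ker θ = J := by
    ext a
    rw [RingHom.mem_ker]
    exact Ideal.Quotient.eq_zero_iff_mem.trans ((h n).2 a)
  have hker' : ∀ a, a ∈ LinearMap.ker (Algebra.linearMap A (B ⧸ M ^ (n + 1))) ↔ a ∈ J := fun a => by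
    rw [← hker]; rfl
  let e : (A ⧸ J) ≃ₗ[A] (B ⧸ M ^ (n + 1)) :=
    LinearEquiv.ofBijective (J.liftQ (Algebra.linearMap A (B ⧸ M ^ (n + 1)))
        (fun a ha => (hker' a).mpr ha)) ⟨by
      rw [← LinearMap.ker_eq_bot, eq_bot_iff]
      intro q hq
      obtain ⟨a, rfl⟩ := Submodule.Quotient.mk_surjective J q
      exact (Submodule.Quotient.mk_eq_zero J).mpr ((hker' a).mp hq),
      fun y => by
        obtain ⟨a, ha⟩ := (h n).1 y
        exact ⟨Submodule.Quotient.mk a, ha⟩⟩
  have hkill : ∀ (Z : Type u) [AddCommGroup Z] [Module A Z],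
      m ^ n • (⊤ : Submodule A Z) = ⊥ → ∀ r ∈ J, ∀ z : Z, r • z = 0 := by
    intro Z _ _ hZ r hr z
    rw [← Submodule.mem_bot A, ← hZ]
    exact Submodule.smul_mem_smul (Ideal.pow_le_pow_right (Nat.le_succ n) hr) trivial
  have hX : m ^ n • (⊤ : Submodule A X) = ⊥ := by
    rw [eq_bot_iff]
    refine Submodule.smul_le.mpr fun r hr z _ => ?_
    rw [Submodule.mem_bot]
    apply hf
    rw [map_smul, map_zero, ← Submodule.mem_bot A, ← hY]
    exact Submodule.smul_mem_smul hr trivial
  have hbij : ∀ (Z : Type u) [AddCommGroup Z] [Module A Z], m ^ n • (⊤ : Submodule A Z) = ⊥ →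
      Bijective ((TensorProduct.mk A Z B).flip 1) := by
    intro Z _ _ hZ
    let Λ : (A ⧸ J) →ₗ[A] Z →ₗ[A] Z := J.liftQ (LinearMap.lsmul A Z) fun r hr =>
      LinearMap.ext fun z => hkill Z hZ r hr z
    let π : B →ₗ[A] A ⧸ J :=
      e.symm.toLinearMap ∘ₗ (Ideal.Quotient.mkₐ A (M ^ (n + 1))).toLinearMap
    let Ψ : Z ⊗[A] B →ₗ[A] Z := TensorProduct.lift (Λ ∘ₗ π).flip
    have hπ : ∀ a : A, π (algebraMap A B a) = Submodule.Quotient.mk a := fun a =>
      e.symm_apply_eq.mpr rfl
    have hΛ : ∀ (a : A) (z : Z), Λ (π (algebraMap A B a)) z = a • z := fun a z => by rw [hπ]; rfl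
    refine Function.bijective_iff_has_inverse.mpr ⟨Ψ, fun z => ?_, fun t => ?_⟩
    · have h1 := hΛ 1 z
      rw [map_one, one_smul] at h1
      exact h1
    · induction t with
      | zero => simp
      | add t s ht hs => rw [map_add, map_add, ht, hs]
      | tmul z b =>
        obtain ⟨a, ha⟩ := (h n).1 (Ideal.Quotient.mk _ b)
        have hz0 : ∀ c ∈ M ^ (n + 1), z ⊗ₜ[A] c = (0 : Z ⊗[A] B) := by
          intro c hc
          rw [← hgen, ← Ideal.map_pow, Ideal.map] at hc
          induction hc using Submodule.span_induction with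
          | mem c hc =>
            obtain ⟨r, hr, rfl⟩ := hc
            rw [Algebra.algebraMap_eq_smul_one, ← TensorProduct.smul_tmul, hkill Z hZ r hr z,
              TensorProduct.zero_tmul]
          | zero => simp
          | add c c' _ _ hc hc' => rw [TensorProduct.tmul_add, hc, hc', add_zero]
          | smul r c _ hc =>
            have := congrArg (LinearMap.lTensor Z (LinearMap.mulLeft A r)) hc
            simpa using this
        have hab : algebraMap A B a - b ∈ M ^ (n + 1) := Ideal.Quotient.eq.mp ha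
        have h2 := hz0 _ hab
        rw [TensorProduct.tmul_sub, sub_eq_zero] at h2
        rw [← h2]
        show Λ (π (algebraMap A B a)) z ⊗ₜ[A] (1 : B) = z ⊗ₜ[A] algebraMap A B a
        rw [hΛ, TensorProduct.smul_tmul, Algebra.algebraMap_eq_smul_one]
  have hY' := hbij Y hY
  have hX' := hbij X hX
  intro s t hst
  obtain ⟨s, rfl⟩ := hX'.2 s
  obtain ⟨t, rfl⟩ := hX'.2 t
  simp only [LinearMap.flip_apply, TensorProduct.mk_apply, LinearMap.rTensor_tmul] at hst
  rw [hf (hY'.1 hst)]

end Groth.Agent.GrpScheme.FlatOfFormalIso
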