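import Groth.Agent.GrpScheme.Tangent
import Groth.Agent.GrpScheme.HomFlat
import Groth.Agent.GrpScheme.KernelPair
import Groth.Agent.GrpScheme.Component
import Groth.Agent.GrpScheme.FlatOfFormalIso
import Groth.Prelude.Def_AlgGrp
import Mathlib.AlgebraicGeometry.Morphisms.Etale

/-!
# Multiplication by an integer invertible in the field is étale

For a commutative group scheme locally of finite type over a field `K` and `d : ℤ` with
`(d : K) ≠ 0`, the morphism `𝟙 G ^ d` is étale.
-/

set_option autoImplicit false

universe u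

open CategoryTheory MonoidalCategory CartesianMonoidalCategory MonObj GrpObj AlgebraicGeometry
  Limits IsLocalRing

namespace Groth.Agent.GrpScheme.EtaleEndo

/-- A surjective endomorphism of a Noetherian ring is injective. -/
theorem injective_of_surjective_endo {A : Type u} [CommRing A] [IsNoetherianRing A] (φ : A →+* A)
    (hφ : Function.Surjective φ) : Function.Injective φ := by
  let F : ℕ →o Ideal A := ⟨fun n => RingHom.ker (φ ^ n), monotone_nat_of_le_succ fun n a ha => by
    rw [RingHom.mem_ker] at ha ⊢
    rw [pow_succ', RingHom.mul_def, RingHom.comp_apply, ha, map_zero]⟩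
  obtain ⟨n, hn⟩ := monotone_stabilizes_iff_noetherian.mpr ‹IsNoetherianRing A› F
  rw [injective_iff_map_eq_zero]
  intro a ha
  have hs : Function.Surjective ⇑(φ ^ n) := by
    clear hn
    induction n with
    | zero => exact fun x => ⟨x, rfl⟩
    | succ k ih =>
      rw [pow_succ']
      exact hφ.comp ih
  obtain ⟨b, rfl⟩ := hs a
  have hb : b ∈ F (n + 1) := by
    show b ∈ RingHom.ker (φ ^ (n + 1))
    rw [RingHom.mem_ker, pow_succ', RingHom.mul_def, RingHom.comp_apply, ha]
  rw [← hn (n + 1) (Nat.le_succ n)] at hb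
  exact hb

/-- A local homomorphism between isomorphic Noetherian local rings which is surjective on residue
fields and cotangent spaces is flat. -/
theorem flat_of_surjective_cotangent {A B : Type u} [CommRing A] [CommRing B] [IsLocalRing A]
    [IsLocalRing B] [IsNoetherianRing A] [IsNoetherianRing B] (φ : A →+* B) [IsLocalHom φ]
    (j : B ≃+* A) (hres : ∀ b : B, ∃ a : A, b - φ a ∈ maximalIdeal B)
    (hgen : (maximalIdeal A).map φ = maximalIdeal B) : φ.Flat := by
  algebraize [φ]
  show Module.Flat A B
  have hsurj : ∀ (n : ℕ) (b : B), ∃ a, b - φ a ∈ maximalIdeal B ^ n := by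
    intro n
    induction n with
    | zero => exact fun b => ⟨0, by simp⟩
    | succ k ih =>
      intro b
      have key : ∀ x ∈ (maximalIdeal A).map φ, ∀ c : B,
          ∃ a, c * x - φ a ∈ maximalIdeal B ^ (k + 1) := by
        intro x hx
        induction hx using Submodule.span_induction with
        | mem y hy =>
          obtain ⟨y, hy, rfl⟩ := hy
          intro c
          obtain ⟨a, ha⟩ := ih c
          refine ⟨a * y, ?_⟩
          rw [map_mul, ← sub_mul, pow_succ]
          exact Ideal.mul_mem_mul ha (hgen ▸ Ideal.mem_map_of_mem φ hy)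
        | zero => exact fun c => ⟨0, by simp⟩
        | add y z _ _ hy hz =>
          intro c
          obtain ⟨a, ha⟩ := hy c
          obtain ⟨a', ha'⟩ := hz c
          exact ⟨a + a', by rw [map_add, mul_add, add_sub_add_comm]; exact add_mem ha ha'⟩
        | smul e y _ hy =>
          intro c
          obtain ⟨a, ha⟩ := hy (c * e)
          exact ⟨a, by rwa [smul_eq_mul, ← _root_.mul_assoc]⟩
      obtain ⟨a₀, ha₀⟩ := hres b
      rw [← hgen] at ha₀
      obtain ⟨a, ha⟩ := key _ ha₀ 1
      exact ⟨a₀ + a, by rw [map_add, ← sub_sub]; simpa using ha⟩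
  refine FlatOfFormalIso.flat fun n => ?_
  have hle : maximalIdeal A ^ (n + 1) ≤ (maximalIdeal B ^ (n + 1)).comap φ := by
    rw [← Ideal.map_le_iff_le_comap, Ideal.map_pow, hgen]
  refine ⟨fun y => ?_, fun a => ⟨fun ha => ?_, fun ha => hle ha⟩⟩
  · obtain ⟨b, rfl⟩ := Ideal.Quotient.mk_surjective y
    obtain ⟨a, ha⟩ := hsurj (n + 1) b
    exact ⟨a, (Ideal.Quotient.eq.mpr ha).symm⟩
  · have hj : maximalIdeal B ^ (n + 1) ≤ (maximalIdeal A ^ (n + 1)).comap j.toRingHom := by
      rw [← Ideal.map_le_iff_le_comap, Ideal.map_pow]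
      refine Ideal.pow_right_mono (Ideal.map_le_iff_le_comap.mpr fun b hb => ?_) _
      rw [Ideal.mem_comap, mem_maximalIdeal, mem_nonunits_iff]
      exact fun hu => hb ((isUnit_map_iff j b).mp hu)
    let ψ := (Ideal.quotientMap _ j.toRingHom hj).comp (Ideal.quotientMap _ φ hle)
    have hψ : Function.Surjective ψ := fun y => by
      obtain ⟨c, rfl⟩ := Ideal.Quotient.mk_surjective y
      obtain ⟨a', ha'⟩ := hsurj (n + 1) (j.symm c)
      refine ⟨Ideal.Quotient.mk _ a', ?_⟩
      show Ideal.Quotient.mk _ (j (φ a')) = _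
      rw [Ideal.Quotient.eq]
      have := hj ha'
      rw [Ideal.mem_comap, map_sub] at this
      simpa using Submodule.neg_mem _ this
    have h0 : ψ (Ideal.Quotient.mk _ a) = 0 := by
      show Ideal.Quotient.mk _ (j (φ a)) = 0
      exact Ideal.Quotient.eq_zero_iff_mem.mpr (hj ha)
    exact Ideal.Quotient.eq_zero_iff_mem.mp
      (injective_of_surjective_endo ψ hψ (h0.trans (map_zero ψ).symm))

theorem injective_stalkMap_of_isField {X Y : Scheme.{u}} (f : X ⟶ Y) (x : X)
    (h : IsField (Y.presheaf.stalk (f x))) : Function.Injective (f.stalkMap x).hom := by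
  let := h.toField
  exact RingHom.injective (f.stalkMap x).hom

variable {K : Type u} [Field K] (G : Over (Spec (CommRingCat.of K))) [GrpObj G]

/-- In a commutative group object, powers are homomorphisms. -/
theorem isMonHom_zpow [IsCommMonObj G] (d : ℤ) : IsMonHom (𝟙 G ^ d) where
  one_hom := by
    rw [GrpObj.comp_zpow, Category.comp_id]
    have : η[G] = (1 : 𝟙_ _ ⟶ G) := by rw [Hom.one_def, toUnit_unique (toUnit _) (𝟙 _)]; simp
    rw [this, _root_.one_zpow]
  mul_hom := by
    have hμ : μ[G] = fst G G * snd G G := by rw [Hom.mul_def]; simp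
    rw [GrpObj.comp_zpow, Category.comp_id]
    nth_rw 1 [hμ]
    let : CommMonoid (G ⊗ G ⟶ G) := Hom.commMonoid
    rw [(Commute.all (fst G G) (snd G G)).mul_zpow]
    rw [show (fst G G) ^ d = fst G G ≫ (𝟙 G ^ d) by rw [GrpObj.comp_zpow, Category.comp_id],
      show (snd G G) ^ d = snd G G ≫ (𝟙 G ^ d) by rw [GrpObj.comp_zpow, Category.comp_id],
      Hom.mul_def]
    congr 1

lemma zpow_unitPt (d : ℤ) : (𝟙 G ^ d).left (Cartier.unitPt G) = Cartier.unitPt G := by
  have h : η[G] ≫ (𝟙 G ^ d) = η[G] := by
    rw [GrpObj.comp_zpow, Category.comp_id]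
    have : η[G] = (1 : 𝟙_ _ ⟶ G) := by rw [Hom.one_def, toUnit_unique (toUnit _) (𝟙 _)]; simp
    rw [this, _root_.one_zpow]
  exact (Scheme.Hom.comp_apply η[G].left (𝟙 G ^ d).left (closedPoint K)).symm.trans
    (congrArg (fun m : 𝟙_ _ ⟶ G => m.left (closedPoint K)) h)

variable [LocallyOfFiniteType G.hom]

theorem isNoetherianRing_stalkUnit : IsNoetherianRing (Cartier.stalkUnit G) :=
  have : IsLocallyNoetherian G.left := LocallyOfFiniteType.isLocallyNoetherian G.hom
  inferInstance

theorem map_maximalIdeal_endo (d : ℤ) (hd : (d : K) ≠ 0) :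
    (maximalIdeal (Cartier.stalkUnit G)).map
      (Tangent.endo G (𝟙 G ^ d) (zpow_unitPt G d)).toRingHom =
      maximalIdeal (Cartier.stalkUnit G) := by
  have := isNoetherianRing_stalkUnit G
  let φ := Tangent.endo G (𝟙 G ^ d) (zpow_unitPt G d)
  let m := maximalIdeal (Cartier.stalkUnit G)
  have hm : ∀ a ∈ m, φ a ∈ m := fun a ha => by
    have h1 := Ideal.pow_le_self two_ne_zero
      (Tangent.endo_zpow_sub_mem G d (zpow_unitPt G d) ha)
    have h2 := m.add_mem h1 (Submodule.smul_of_tower_mem _ d ha)
    rwa [sub_add_cancel] at h2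
  refine le_antisymm (Ideal.map_le_iff_le_comap.mpr hm) ?_
  refine Submodule.le_of_le_smul_of_le_jacobson_bot (IsNoetherian.noetherian _)
    (IsLocalRing.maximalIdeal_le_jacobson _) fun a ha => ?_
  rw [Submodule.mem_sup, smul_eq_mul, ← pow_two]
  have h1 := Tangent.endo_zpow_sub_mem G d (zpow_unitPt G d) ha
  refine ⟨algebraMap K _ ((d : K)⁻¹) * φ a,
    Ideal.mul_mem_left _ _ (Ideal.mem_map_of_mem φ.toRingHom ha),
    -(algebraMap K _ ((d : K)⁻¹) * (φ a - d • a)),
    Submodule.neg_mem _ (Ideal.mul_mem_left _ _ h1), ?_⟩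
  have e : algebraMap K (Cartier.stalkUnit G) ((d : K)⁻¹) * (d : Cartier.stalkUnit G) = 1 := by
    rw [← map_intCast (algebraMap K (Cartier.stalkUnit G)), ← map_mul, inv_mul_cancel₀ hd, map_one]
  rw [zsmul_eq_mul]
  calc algebraMap K _ ((d : K)⁻¹) * φ a +
      -(algebraMap K _ ((d : K)⁻¹) * (φ a - (d : Cartier.stalkUnit G) * a))
      = algebraMap K (Cartier.stalkUnit G) ((d : K)⁻¹) * (d : Cartier.stalkUnit G) * a := by ring
    _ = a := by rw [e, _root_.one_mul]

omit [LocallyOfFiniteType G.hom] in
theorem isLocalHom_endo (P : G ⟶ G) (hP : P.left (Cartier.unitPt G) = Cartier.unitPt G) :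
    IsLocalHom (Tangent.endo G P hP).toRingHom := by
  have : IsIso (G.left.presheaf.stalkSpecializes (specializes_of_eq hP)) :=
    (G.left.presheaf.stalkCongr (.of_eq hP.symm)).isIso_hom
  have : IsLocalHom (Tangent.endoHom G P hP).hom := by
    rw [Tangent.endoHom, CommRingCat.hom_comp]
    infer_instance
  exact this

theorem flat_endo (d : ℤ) (hd : (d : K) ≠ 0) :
    (Tangent.endo G (𝟙 G ^ d) (zpow_unitPt G d)).toRingHom.Flat := by
  have := isNoetherianRing_stalkUnit G
  have := isLocalHom_endo G (𝟙 G ^ d) (zpow_unitPt G d)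
  refine flat_of_surjective_cotangent _ (RingEquiv.refl _)
    (fun b => ⟨algebraMap K _ (Cartier.aug G b), ?_⟩) (map_maximalIdeal_endo G d hd)
  have h := AlgHom.commutes (Tangent.endo G (𝟙 G ^ d) (zpow_unitPt G d)) (Cartier.aug G b)
  rw [AlgHom.toRingHom_eq_coe, RingHom.coe_coe, h]
  exact Cartier.sub_aug_mem G b

theorem flat_zpow [IsCommMonObj G] (d : ℤ) (hd : (d : K) ≠ 0) : Flat (𝟙 G ^ d).left := by
  have := isMonHom_zpow G d
  refine HomFlat.flat_of_flat_stalkMap _ (z := Cartier.unitPt G) ?_
  have h : (Tangent.endoHom G (𝟙 G ^ d) (zpow_unitPt G d)).hom.Flat := flat_endo G d hd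
  rw [Tangent.endoHom, CommRingCat.hom_comp] at h
  have hbij : Function.Bijective
      (G.left.presheaf.stalkSpecializes (specializes_of_eq (zpow_unitPt G d))).hom :=
    (G.left.presheaf.stalkCongr (.of_eq (zpow_unitPt G d).symm)).commRingCatIsoToRingEquiv.bijective
  exact (RingHom.Flat.comp_iff_of_bijective_right hbij).mp h

omit [GrpObj G] in
/-- A section through a point whose local ring is a field is an open immersion. -/
theorem isOpenImmersion_of_isField [CompactSpace G.left] [IsSeparated G.hom] (u : 𝟙_ (Over (Spec (CommRingCat.of K))) ⟶ G)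
    (h : IsField (G.left.presheaf.stalk (u.left (closedPoint K)))) : IsOpenImmersion u.left := by
  have : IsLocallyNoetherian G.left := LocallyOfFiniteType.isLocallyNoetherian G.hom
  have : IsNoetherian G.left := {}
  let e := u.left (closedPoint K)
  have hu : u.left ≫ G.hom = 𝟙 _ := Over.w u
  have hci : IsClosedImmersion u.left := by
    have : IsClosedImmersion (u.left ≫ G.hom) := by rw [hu]; infer_instance
    exact IsClosedImmersion.of_comp u.left G.hom
  have hsub : Subsingleton (𝟙_ (Over (Spec (CommRingCat.of K)))).left :=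
    inferInstanceAs (Subsingleton (Spec (CommRingCat.of K)))
  have hr : Set.range u.left = {e} := Set.eq_singleton_iff_unique_mem.mpr
    ⟨⟨_, rfl⟩, fun y ⟨p, hp⟩ => hp ▸ congrArg u.left (hsub.elim p _)⟩
  have hcl : IsClosed ({e} : Set G.left) := hr ▸ u.left.isClosedEmbedding.isClosed_range
  have hmax : Component.IsMaxGen e := fun w hw => by
    have : w ∈ Set.range (G.left.fromSpecStalk e) := by rw [Scheme.range_fromSpecStalk]; exact hw
    obtain ⟨r, rfl⟩ := this
    have hsub : Subsingleton (Spec (G.left.presheaf.stalk e)) := by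
      let := h.toField
      exact inferInstanceAs (Subsingleton (PrimeSpectrum _))
    rw [hsub.elim r (closedPoint _), Scheme.fromSpecStalk_closedPoint]
  have hZ : closure {e} ∈ irreducibleComponents G.left := Component.isMaxGen_iff.mp hmax
  rw [hcl.closure_eq] at hZ
  have hopen : IsOpen ({e} : Set G.left) := by
    have hfin : (irreducibleComponents G.left).Finite :=
      TopologicalSpace.NoetherianSpace.finite_irreducibleComponents
    have heq : ({e} : Set G.left) = (⋃ Z ∈ irreducibleComponents G.left \ {{e}}, Z)ᶜ := by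
      ext x
      simp only [Set.mem_singleton_iff, Set.mem_compl_iff, Set.mem_iUnion, not_exists]
      refine ⟨?_, fun hx => ?_⟩
      · rintro rfl Z ⟨hZ', hne⟩ hxZ
        exact hne (hZ.eq_of_le hZ'.1 (Set.singleton_subset_iff.mpr hxZ) ▸ rfl)
      · by_contra hne
        refine hx (irreducibleComponent x) ⟨irreducibleComponent_mem_irreducibleComponents x,
          fun heq => hne ?_⟩ mem_irreducibleComponent
        have hxe : x ∈ irreducibleComponent x := mem_irreducibleComponent
        rw [Set.mem_singleton_iff.mp heq] at hxe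
        exact hxe
    rw [heq, isOpen_compl_iff]
    exact Set.Finite.isClosed_biUnion (hfin.subset Set.sdiff_subset)
      fun Z hZ' => isClosed_of_mem_irreducibleComponents Z hZ'.1
  refine IsOpenImmersion.iff_isIso_stalkMap.mpr ⟨?_, fun p => ?_⟩
  · refine ⟨⟨⟨?_⟩, fun p q _ => hsub.elim p q⟩, hr ▸ hopen⟩
    exact Subsingleton.elim _ _
  · have hsurj : Function.Surjective (u.left.stalkMap p).hom := u.left.stalkMap_surjective p
    have hinj : Function.Injective (u.left.stalkMap p).hom := by
      rw [show p = closedPoint K from hsub.elim _ _]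
      exact injective_stalkMap_of_isField u.left _ h
    exact (ConcreteCategory.isIso_iff_bijective _).mpr ⟨hinj, hsurj⟩

omit [LocallyOfFiniteType G.hom] in
/-- A homomorphism is formally unramified when the unit section of its kernel is an open
immersion. -/
theorem formallyUnramified_of_kernel {N H : Over (Spec (CommRingCat.of K))} [GrpObj H] {i : N ⟶ G}
    {q : G ⟶ H} [IsMonHom q] (h : AlgGrp.IsKernel i q)
    (u : 𝟙_ (Over (Spec (CommRingCat.of K))) ⟶ N) (hu : u ≫ i = η[G])
    [IsOpenImmersion u.left] : FormallyUnramified q.left := by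
  have hsq := GrpdLib.GrpOver.isPullback_left (KernelPair.isPullback h)
  let Δ : G ⟶ G ⊗ N := lift (𝟙 G) (toUnit G ≫ u)
  have hΔ : Δ = (ρ_ G).inv ≫ G ◁ u := by
    refine CartesianMonoidalCategory.hom_ext _ _ (by simp [Δ]) ?_
    simp [Δ]
  have : IsOpenImmersion Δ.left := by
    rw [hΔ, Over.comp_left]
    have := Basic.isIso_left (ρ_ G).inv
    have := Basic.whiskerLeft_mem @IsOpenImmersion u G ‹_›
    infer_instance
  have hd : pullback.diagonal q.left = Δ.left ≫ hsq.isoPullback.hom := by
    apply pullback.hom_ext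
    · rw [pullback.diagonal_fst, Category.assoc, hsq.isoPullback_hom_fst, ← Over.comp_left, lift_fst]
      rfl
    · rw [pullback.diagonal_snd, Category.assoc, hsq.isoPullback_hom_snd, ← Over.comp_left,
        MonObj.comp_mul, lift_fst, lift_snd_assoc, Category.assoc, hu, ← Hom.one_def, _root_.mul_one]
      rfl
  have : IsOpenImmersion (pullback.diagonal q.left) := by rw [hd]; infer_instance
  infer_instance

/-- **Multiplication by an invertible integer is étale.** -/
theorem etale_zpow [IsCommMonObj G] [QuasiCompact G.hom] [IsSeparated G.hom] (d : ℤ)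
    (hd : (d : K) ≠ 0) : Etale (𝟙 G ^ d).left := by
  have := isMonHom_zpow G d
  have := flat_zpow G d hd
  let f := 𝟙 G ^ d
  have hlfp : LocallyOfFinitePresentation f.left := GrpdLib.GrpOver.lfp_left f
  have : QuasiCompact (f.left ≫ G.hom) := by rw [Over.w f]; infer_instance
  have : QuasiCompact f.left := QuasiCompact.of_comp f.left G.hom
  have : IsSeparated (f.left ≫ G.hom) := by rw [Over.w f]; infer_instance
  let N := pullback f η[G]
  let i : N ⟶ G := pullback.fst f η[G]
  have hk : AlgGrp.IsKernel i f := by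
    have := IsPullback.of_hasPullback f η[G]
    rw [show pullback.snd f η[G] = toUnit _ from toUnit_unique _ _] at this
    exact this
  have hf1 : η[G] ≫ f = η[G] := IsMonHom.one_hom f
  let u : 𝟙_ (Over (Spec (CommRingCat.of K))) ⟶ N :=
    hk.lift η[G] (toUnit _) (by rw [hf1, toUnit_unique (toUnit _) (𝟙 _), Category.id_comp])
  have hu : u ≫ i = η[G] := hk.lift_fst _ _ _
  have hsqN := GrpdLib.GrpOver.isPullback_left hk
  have hNhom : N.hom = (toUnit N).left := (Over.w (toUnit N)).symm.trans (Category.comp_id _)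
  have : LocallyOfFiniteType N.hom :=
    hNhom ▸ MorphismProperty.of_isPullback (P := @LocallyOfFiniteType) hsqN inferInstance
  have : QuasiCompact N.hom :=
    hNhom ▸ MorphismProperty.of_isPullback (P := @QuasiCompact) hsqN inferInstance
  have : CompactSpace N.left := QuasiCompact.compactSpace_of_compactSpace N.hom
  have hcl : IsClosedImmersion η[G].left := by
    have : IsClosedImmersion (η[G].left ≫ G.hom) := by
      rw [Over.w η[G]]
      exact inferInstanceAs (IsClosedImmersion (𝟙 (Spec (CommRingCat.of K))))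
    exact IsClosedImmersion.of_comp η[G].left G.hom
  have : IsClosedImmersion i.left :=
    MorphismProperty.of_isPullback (P := @IsClosedImmersion) hsqN.flip hcl
  let e := u.left (closedPoint K)
  have he : i.left e = Cartier.unitPt G :=
    (Scheme.Hom.comp_apply u.left i.left (closedPoint K)).symm.trans
      (congrArg (fun m : 𝟙_ _ ⟶ G => m.left (closedPoint K)) hu)
  let ρ : Cartier.stalkUnit G ⟶ N.left.presheaf.stalk e :=
    G.left.presheaf.stalkSpecializes (specializes_of_eq he) ≫ i.left.stalkMap e
  have hρs : Function.Surjective ρ.hom :=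
    (i.left.stalkMap_surjective e).comp
      (G.left.presheaf.stalkCongr (.of_eq he.symm)).commRingCatIsoToRingEquiv.surjective
  have hρ : Spec.map ρ ≫ G.left.fromSpecStalk (Cartier.unitPt G) =
      N.left.fromSpecStalk e ≫ i.left := by
    rw [Spec.map_comp_assoc, Scheme.SpecMap_stalkSpecializes_fromSpecStalk,
      Scheme.SpecMap_stalkMap_fromSpecStalk]
  have hcomp : Tangent.endoHom G f (zpow_unitPt G d) ≫ ρ =
      Cartier.augHom G ≫ Spec.preimage (N.left.fromSpecStalk e ≫ N.hom) := by
    apply Spec.map_injective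
    rw [← cancel_mono (G.left.fromSpecStalk (Cartier.unitPt G))]
    have w := congrArg CommaMorphism.left hk.w
    simp only [Over.comp_left] at w
    rw [Spec.map_comp_assoc, Tangent.spec_endoHom, ← Category.assoc, hρ, Category.assoc, w,
      Spec.map_comp_assoc, Cartier.spec_augHom, Spec.map_preimage, Category.assoc, hNhom]
  have hzero : ∀ a ∈ maximalIdeal (Cartier.stalkUnit G), ρ.hom a = 0 := by
    intro a ha
    rw [← map_maximalIdeal_endo G d hd] at ha
    refine (Ideal.map_le_iff_le_comap (K := RingHom.ker ρ.hom)).mpr (fun c hc => ?_) ha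
    rw [Ideal.mem_comap, RingHom.mem_ker]
    refine (congr($(hcomp).hom c)).trans ?_
    show (Spec.preimage (N.left.fromSpecStalk e ≫ N.hom)).hom (Cartier.aug G c) = 0
    rw [(Cartier.mem_maximalIdeal_iff G c).mp hc, map_zero]
  have hfield : IsField (N.left.presheaf.stalk e) := by
    refine IsLocalRing.isField_iff_maximalIdeal_eq.mpr ((Submodule.eq_bot_iff _).mpr fun x hx => ?_)
    obtain ⟨a, rfl⟩ := hρs x
    refine hzero a ?_
    rw [mem_maximalIdeal, mem_nonunits_iff] at hx ⊢
    exact fun hu => hx (hu.map ρ.hom)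
  have : IsSeparated N.hom :=
    hNhom ▸ MorphismProperty.of_isPullback (P := @IsSeparated) hsqN (IsSeparated.of_comp f.left G.hom)
  have := isOpenImmersion_of_isField N u hfield
  have := formallyUnramified_of_kernel G hk u hu
  exact Etale.of_formallyUnramified_of_flat f.left

end Groth.Agent.GrpScheme.EtaleEndo

namespace Groth.Agent.GrpScheme.EtaleEndo

variable {K : Type u} [Field K] (G : Over (Spec (CommRingCat.of K))) [GrpObj G]
  [LocallyOfFiniteType G.hom]

/-- If multiplication by an integer vanishing in the field is formally unramified, the local ring at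
the unit is a field. -/
theorem isField_of_formallyUnramified (d : ℤ) (hd : (d : K) = 0)
    [FormallyUnramified (𝟙 G ^ d).left] [LocallyOfFiniteType (𝟙 G ^ d).left] :
    IsField (Cartier.stalkUnit G) := by
  have := isNoetherianRing_stalkUnit G
  let f := (𝟙 G ^ d).left
  let x := Cartier.unitPt G
  have hgen : (maximalIdeal (Cartier.stalkUnit G)).map
      (Tangent.endo G (𝟙 G ^ d) (zpow_unitPt G d)).toRingHom =
      maximalIdeal (Cartier.stalkUnit G) := by
    have h1 : (maximalIdeal (G.left.presheaf.stalk (f x))).map (f.stalkMap x).hom =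
        maximalIdeal (G.left.presheaf.stalk x) := by
      algebraize [(f.stalkMap x).hom]
      have : IsLocalHom (algebraMap (G.left.presheaf.stalk (f x)) (G.left.presheaf.stalk x)) :=
        inferInstanceAs <| IsLocalHom (f.stalkMap x).hom
      have : Algebra.EssFiniteType (G.left.presheaf.stalk (f x)) (G.left.presheaf.stalk x) := by
        rw [← RingHom.essFiniteType_algebraMap, RingHom.algebraMap_toAlgebra]
        exact LocallyOfFiniteType.stalkMap f x
      have : Algebra.FormallyUnramified (G.left.presheaf.stalk (f x)) (G.left.presheaf.stalk x) := by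
        rw [← RingHom.formallyUnramified_algebraMap, RingHom.algebraMap_toAlgebra]
        exact FormallyUnramified.stalkMap f x
      exact Algebra.FormallyUnramified.map_maximalIdeal
    let e := (G.left.presheaf.stalkCongr
      (.of_eq (zpow_unitPt G d).symm)).commRingCatIsoToRingEquiv
    have h2 : (maximalIdeal (Cartier.stalkUnit G)).map e.toRingHom =
        maximalIdeal (G.left.presheaf.stalk (f x)) := by
      refine le_antisymm (Ideal.map_le_iff_le_comap.mpr fun a ha hu => ?_) fun a ha => ?_
      · exact ha ((isUnit_map_iff e a).mp hu)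
      · rw [← e.apply_symm_apply a]
        exact Ideal.mem_map_of_mem e.toRingHom fun hu => ha (e.apply_symm_apply a ▸ hu.map e)
    rw [show (Tangent.endo G (𝟙 G ^ d) (zpow_unitPt G d)).toRingHom =
      (f.stalkMap x).hom.comp e.toRingHom from rfl, ← Ideal.map_map, h2, h1]
  refine IsLocalRing.isField_iff_maximalIdeal_eq.mpr ?_
  refine Submodule.eq_bot_of_le_smul_of_le_jacobson_bot (maximalIdeal (Cartier.stalkUnit G)) _
    (IsNoetherian.noetherian _) ?_ (IsLocalRing.maximalIdeal_le_jacobson _)
  rw [smul_eq_mul, ← pow_two]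
  refine hgen.ge.trans ?_
  rw [Ideal.map_le_iff_le_comap]
  intro a ha
  have h := Tangent.endo_zpow_sub_mem G d (zpow_unitPt G d) ha
  rwa [zsmul_eq_mul, ← map_intCast (algebraMap K (Cartier.stalkUnit G)), hd, map_zero,
    MulZeroClass.zero_mul, sub_zero] at h

end Groth.Agent.GrpScheme.EtaleEndo
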