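import Groth.Agent.GrpScheme.FlatFib.Scheme
import Groth.Agent.GrpScheme.HomFlat
import Groth.Agent.GrpScheme.KernelPair
import Groth.Agent.GrpScheme.ClosedImage
import Groth.Agent.FpqcDesc.Props
import Groth.Prelude.Def_AlgGrp

/-!
# Homomorphisms of group schemes fibre by fibre
-/

set_option autoImplicit false

universe u

open CategoryTheory Limits MonoidalCategory CartesianMonoidalCategory MonObj GrpObj AlgebraicGeometry

namespace Groth.Agent.GrpScheme.FibreFlat

/-- The square of fibres. -/
theorem isPullback_fiberMap {X Y S : Scheme.{u}} (f : X ⟶ Y) (g : Y ⟶ S) (s : S) :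
    IsPullback ((f ≫ g).fiberι s) (MoreMor.fiberMap f g s) f (g.fiberι s) := by
  refine IsPullback.of_bot ?_ (pullback.lift_fst _ _ _).symm
    (IsPullback.of_hasPullback g (S.fromSpecResidueField s))
  rw [show MoreMor.fiberMap f g s ≫ pullback.snd g (S.fromSpecResidueField s) =
    (f ≫ g).fiberToSpecResidueField s from pullback.lift_snd _ _ _]
  exact IsPullback.of_hasPullback (f ≫ g) (S.fromSpecResidueField s)

/-- The two descriptions of the map of fibres. -/
theorem fiberMap_mem_iff (P : MorphismProperty Scheme.{u}) [P.RespectsIso] {X Y S : Scheme.{u}}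
    (f : X ⟶ Y) (g : Y ⟶ S) (s : S) :
    P (MoreMor.fiberMap f g s) ↔ P (pullback.snd f (g.fiberι s)) := by
  rw [← (isPullback_fiberMap f g s).isoPullback_hom_snd, P.cancel_left_of_respectsIso]

/-- Fibre criterion for morphisms over a base. -/
theorem flat_of_fibres {X Y S : Scheme.{u}} (f : X ⟶ Y) (g : Y ⟶ S)
    [LocallyOfFinitePresentation (f ≫ g)] [LocallyOfFiniteType g] [Flat (f ≫ g)]
    (h : ∀ s, Flat (MoreMor.fiberMap f g s)) : Flat f :=
  Flat.of_stalkMap _ fun x => (FlatFib.flat_of_fibre f g x (Flat.stalkMap (f ≫ g) x)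
    (have := h (g (f x)); Flat.stalkMap _ _)).2

section Over

variable {S : Scheme.{u}} {G H : Over S} (f : G ⟶ H) (s : S)

/-- A property of the map of fibres, for the base change functor. -/
theorem pullback_map_mem_iff (P : MorphismProperty Scheme.{u}) [P.RespectsIso] :
    P ((Over.pullback (S.fromSpecResidueField s)).map f).left ↔
      P (pullback.snd f.left (H.hom.fiberι s)) := by
  rw [← fiberMap_mem_iff P f.left H.hom s]
  have key : ∀ (h : G.left ⟶ S) (e : f.left ≫ H.hom = h)
      (w : (pullback.fst h (S.fromSpecResidueField s) ≫ f.left) ≫ H.hom =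
        pullback.snd h (S.fromSpecResidueField s) ≫ S.fromSpecResidueField s),
      P (pullback.lift (pullback.fst h (S.fromSpecResidueField s) ≫ f.left)
          (pullback.snd h (S.fromSpecResidueField s)) w) ↔
        P (MoreMor.fiberMap f.left H.hom s) := by
    rintro _ rfl w
    rfl
  exact key G.hom (Over.w f) _

end Over

section Field

variable {K : Type u} [Field K] {G H : Over (Spec (CommRingCat.of K))} [GrpObj G] [GrpObj H]
  (f : G ⟶ H) [IsMonHom f]

/-- A flat quasi-compact homomorphism to a connected group is surjective. -/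
theorem surjective_of_flat [LocallyOfFiniteType G.hom] [LocallyOfFiniteType H.hom] [Flat f.left]
    [QuasiCompact f.left] [PreconnectedSpace H.left] : Surjective f.left := by
  have := GrpdLib.GrpOver.lfp_left f
  have hopen : IsOpen (Set.range f.left) := f.left.isOpenMap.isOpen_range
  have huniv : Set.range f.left = Set.univ :=
    IsClopen.eq_univ ⟨ClosedImage.isClosed_range f, hopen⟩
      ⟨_, η[G].left (IsLocalRing.closedPoint K), rfl⟩
  exact ⟨Set.range_eq_univ.mp huniv⟩

/-- A faithfully flat, quasi-compact, locally quasi-finite homomorphism is finite. -/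
theorem isFinite_of_flat [Flat f.left] [QuasiCompact f.left] [Surjective f.left]
    [LocallyQuasiFinite f.left] : IsFinite f.left := by
  let i : pullback f η[H] ⟶ G := pullback.fst f η[H]
  have hk : AlgGrp.IsKernel i f := by
    have := IsPullback.of_hasPullback f η[H]
    rw [show pullback.snd f η[H] = toUnit _ from toUnit_unique _ _] at this
    exact this
  have hsq := GrpdLib.GrpOver.isPullback_left hk
  have hN : (pullback f η[H]).hom = (toUnit (pullback f η[H])).left := by
    exact (Over.w (toUnit (pullback f η[H]))).symm.trans (Category.comp_id _)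
  have hq : LocallyQuasiFinite (pullback f η[H]).hom :=
    hN ▸ MorphismProperty.of_isPullback (P := @LocallyQuasiFinite) hsq ‹_›
  have hqc : QuasiCompact (pullback f η[H]).hom :=
    hN ▸ MorphismProperty.of_isPullback (P := @QuasiCompact) hsq ‹_›
  have hfin : IsFinite (pullback f η[H]).hom := IsFinite.of_locallyQuasiFinite _
  have := FpqcDesc.descendsAlong_isFinite.{u}
  exact KernelPair.mem_of_kernel hk @IsFinite FpqcDesc.FPQC ⟨⟨‹_›, ‹_›⟩, ‹_›⟩ hfin

end Field

end Groth.Agent.GrpScheme.FibreFlat
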