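import Groth.Agent.GrpScheme.AVPow
import Groth.Agent.S3565
import Groth.Agent.S9716
import Groth.Agent.S4381
import Mathlib.RingTheory.TensorProduct.Basic

/-!
# Abelian varieties are projective

For an affine open `U` at the origin, cut out by a section of `L`, the theorem of the square makes
`(U - t) ∩ (U + t)` the locus of a section of `L ⊗ L` for every point `t`. Over a finite extension
containing finitely many suitable points these loci cover, and ampleness descends along finite
surjective flat morphisms.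
-/

set_option autoImplicit false

universe u

open CategoryTheory MonoidalCategory CartesianMonoidalCategory MonObj GrpObj AlgebraicGeometry Limits
  TopologicalSpace
open scoped TensorProduct

namespace Groth.Agent.GrpScheme.AVAmple

open Groth.Agent.Props.GenLocus Groth.Agent.Props.GenTensor Groth.Agent.Props.GenProd
open scoped Groth.Agent.PicLaw
open PicLaw.Mumford (op)

variable {K : Type u} [Field K]

/-- The point of a field extension. -/
noncomputable abbrev fpt (K F : Type u) [Field K] [Field F] [Algebra K F] : Over (Spec (CommRingCat.of K)) :=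
  Over.mk (Spec.map (CommRingCat.ofHom (algebraMap K F)))

section Point

variable {A : Over (Spec (CommRingCat.of K))} [GrpObj A] (U : A.left.Opens)
  {F : Type u} [Field F] [Algebra K F] (t : fpt K F ⟶ A)

/-- The constant family. -/
noncomputable abbrev con : A ⊗ fpt K F ⟶ A := snd _ _ ≫ t

/-- The points `(x, t)` with `x * t` and `x * t⁻¹` in `U`. -/
noncomputable abbrev locus : (A ⊗ fpt K F).left.Opens :=
  (fst A (fpt K F) * con t).left ⁻¹ᵁ U ⊓ (fst A (fpt K F) * (con t)⁻¹).left ⁻¹ᵁ U

instance isFinite_fst [Module.Finite K F] : IsFinite (fst A (fpt K F)).left :=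
  have : IsFinite (fpt K F).hom :=
    (IsFinite.SpecMap_iff _).mpr (RingHom.finite_algebraMap.mpr ‹Module.Finite K F›)
  inferInstanceAs (IsFinite (pullback.fst A.hom (fpt K F).hom))

lemma isAffineHom_mul (c : A ⊗ fpt K F ⟶ A) (hc : ∃ t' : fpt K F ⟶ A, c = snd _ _ ≫ t') :
    IsAffineHom (fst A (fpt K F) * c).left := by
  obtain ⟨t', rfl⟩ := hc
  have : IsAffine (fpt K F).left := inferInstanceAs (IsAffine (Spec (CommRingCat.of F)))
  have : IsAffineHom (fpt K F).hom := inferInstanceAs (IsAffineHom (Spec.map _))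
  have : IsAffineHom (fst A (fpt K F)).left :=
    MorphismProperty.of_isPullback (P := @IsAffineHom) (IsPullback.of_hasPullback A.hom (fpt K F).hom).flip ‹_›
  let φ : A ⊗ fpt K F ≅ A ⊗ fpt K F :=
    { hom := lift (fst _ _ * (snd _ _ ≫ t')) (snd _ _)
      inv := lift (fst _ _ * (snd _ _ ≫ t')⁻¹) (snd _ _)
      hom_inv_id := by
        refine CartesianMonoidalCategory.hom_ext _ _ ?_ (by simp)
        rw [Category.assoc, lift_fst, MonObj.comp_mul, lift_fst, GrpObj.comp_inv, lift_snd_assoc,
          mul_inv_cancel_right, Category.id_comp]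
      inv_hom_id := by
        refine CartesianMonoidalCategory.hom_ext _ _ ?_ (by simp)
        rw [Category.assoc, lift_fst, MonObj.comp_mul, lift_fst, lift_snd_assoc, inv_mul_cancel_right,
          Category.id_comp] }
  have : IsIso φ.hom := φ.isIso_hom
  have : IsIso φ.hom.left := Basic.isIso_left φ.hom
  rw [show fst A (fpt K F) * (snd _ _ ≫ t') = φ.hom ≫ fst A (fpt K F) from (lift_fst _ _).symm, Over.comp_left]
  infer_instance

lemma isAffineOpen_locus [IsProper A.hom] (hU : IsAffineOpen U) : IsAffineOpen (locus U t) := by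
  have h1 := isAffineHom_mul (A := A) (con t) ⟨t, rfl⟩
  have h2 := isAffineHom_mul (A := A) (con t)⁻¹ ⟨t⁻¹, (GrpObj.comp_inv _ _).symm⟩
  have : QuasiCompact (fpt K F).hom := inferInstanceAs (QuasiCompact (Spec.map _))
  have : IsSeparated (A ⊗ fpt K F).hom := by
    rw [← Over.w (fst A (fpt K F))]
    have : IsSeparated (fst A (fpt K F)).left := inferInstanceAs (IsSeparated (pullback.fst A.hom (fpt K F).hom))
    infer_instance
  have : (A ⊗ fpt K F).left.IsSeparated := ⟨by
    rw [terminal.hom_ext (terminal.from (A ⊗ fpt K F).left) ((A ⊗ fpt K F).hom ≫ terminal.from _)]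
    infer_instance⟩
  exact (hU.preimage _).inf (hU.preimage _)

/-- The locus is that of a section of the pullback of `L ⊗ L`. -/
lemma exists_section [IsProper A.hom] [GeometricallyIntegral A.hom] {L : A.left.Modules}
    (hL : PicF.IsInvertible L) (s : Coh.structureModule A.left ⟶ CohB1.tensorPow L 1)
    (hs : CohB1.genLocus _ s = U) :
    ∃ σ : Coh.structureModule (A ⊗ fpt K F).left ⟶
      CohB1.tensorPow ((Scheme.Modules.pullback (fst A (fpt K F)).left).obj (CohB1.tensorMod L L)) 1,
      CohB1.genLocus _ σ = locus U t := by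
  obtain ⟨r, hr⟩ := Props.GenBox.exists_box (fst A (fpt K F) * con t).left
    (fst A (fpt K F) * (con t)⁻¹).left hL hL s s
  rw [hs] at hr
  have hB := Props.GenBox.isInvertible_box (fst A (fpt K F) * con t).left
    (fst A (fpt K F) * (con t)⁻¹).left hL hL
  have hM := PicLoc.isInvertible_pullback (fst A (fpt K F)).left (PicLaw.isInvertible_tensor hL hL)
  obtain ⟨h1, e1⟩ := PowPullback.cls_tensorPow hB 1
  obtain ⟨h2, e2⟩ := PowPullback.cls_tensorPow hM 1
  have hconst : ∀ c : fpt K F ⟶ A, op (snd A (fpt K F) ≫ c) (PicGrp.cls L hL) = 1 := fun c => by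
    have : op c (PicGrp.cls L hL) = 1 := by
      have : Subsingleton ↥(fpt K F).left := inferInstanceAs (Subsingleton (PrimeSpectrum F))
      have : Nonempty ↥(fpt K F).left := inferInstanceAs (Nonempty (PrimeSpectrum F))
      rw [← PicLaw.cls_pullback _ hL]
      exact (PicGrp.cls_eq_one_iff _).mpr (PicLaw.nonempty_iso_of_subsingleton (PicLoc.isInvertible_pullback _ hL))
    rw [PicLaw.Mumford.op_comp, this, map_one]
  have key : op (fst A (fpt K F) * con t) (PicGrp.cls L hL) * op (fst A (fpt K F) * (con t)⁻¹) (PicGrp.cls L hL) =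
      op (fst A (fpt K F)) (PicGrp.cls L hL) * op (fst A (fpt K F)) (PicGrp.cls L hL) := by
    have h := AbVarLib.CubeCons.square (Cube.cubeHyp A) (PicGrp.cls L hL) (fst A (fpt K F)) (con t) (con t)⁻¹
      (hconst t) (by rw [show (con t)⁻¹ = snd A (fpt K F) ≫ t⁻¹ from (GrpObj.comp_inv _ _).symm]; exact hconst _)
      (by rw [mul_inv_cancel, AbVarLib.CubeCons.op_one])
    rw [mul_inv_cancel_right] at h
    exact h.symm
  obtain ⟨ψ⟩ := (PicLaw.iso_iff h1 h2).mpr (by
    rw [e1, e2, pow_one, pow_one, PicLaw.cls_pullback _ (PicLaw.isInvertible_tensor hL hL), PicLaw.cls_tensor hL hL,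
      map_mul]
    refine (PicLaw.cls_tensor (PicLoc.isInvertible_pullback _ hL) (PicLoc.isInvertible_pullback _ hL)).trans ?_
    rw [PicLaw.cls_pullback, PicLaw.cls_pullback]
    exact key)
  exact ⟨r ≫ ψ.hom, (AVPow.genLocus_comp r ψ.hom).trans hr⟩

end Point

lemma mem_preimage_of_comp_eq {S : Scheme.{u}} {X Y Z P : Over S} {m : X ⟶ Z} {n : Y ⟶ Z} {v : P ⟶ X}
    {w : P ⟶ Y} (e : v ≫ m = w ≫ n) (U : Z.left.Opens) {o : P.left} (h : v.left o ∈ m.left ⁻¹ᵁ U) :
    w.left o ∈ n.left ⁻¹ᵁ U := by
  show (w ≫ n).left o ∈ U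
  rw [← e]
  exact h

variable {A : Over (Spec (CommRingCat.of K))} [GrpObj A] [IsProper A.hom] [GeometricallyIntegral A.hom]

/-- Some closed point makes the locus contain the whole fibre over a given closed point. -/
lemma exists_good_point {U : A.left.Opens} (hU : η[A].left (IsLocalRing.closedPoint K) ∈ U)
    {a : A.left} (ha : IsClosed ({a} : Set A.left)) :
    ∃ (F : Type u) (_ : Field F) (_ : Algebra K F) (_ : Module.Finite K F) (t : fpt K F ⟶ A),
      ∀ z : (A ⊗ fpt K F).left, (fst A (fpt K F)).left z = a → z ∈ locus U t := by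
  have : IsLocallyNoetherian A.left := LocallyOfFiniteType.isLocallyNoetherian A.hom
  have : CompactSpace A.left := QuasiCompact.compactSpace_of_compactSpace A.hom
  have : JacobsonSpace A.left := LocallyOfFiniteType.jacobsonSpace A.hom
  have hres : ∀ b : A.left, ∃ (φ : CommRingCat.of K ⟶ A.left.residueField b),
      Spec.map φ = A.left.fromSpecResidueField b ≫ A.hom := fun b => Spec.map_surjective _
  have hfin : ∀ b : A.left, IsClosed ({b} : Set A.left) → ∀ φ : CommRingCat.of K ⟶ A.left.residueField b,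
      Spec.map φ = A.left.fromSpecResidueField b ≫ A.hom → φ.hom.Finite := by
    intro b hb φ hφ
    have : IsClosedImmersion (A.left.fromSpecResidueField b) :=
      isClosed_singleton_iff_isClosedImmersion.mp hb
    have : IsFinite (A.left.fromSpecResidueField b ≫ A.hom) :=
      IsFinite.iff_isProper_and_isAffineHom.mpr ⟨inferInstance, by rw [← hφ]; infer_instance⟩
    rw [← hφ] at this
    exact (IsFinite.SpecMap_iff _).mp this
  obtain ⟨φ, hφ⟩ := hres a
  let κ := A.left.residueField a
  let _ : Algebra K κ := φ.hom.toAlgebra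
  have : Module.Finite K κ := hfin a ha φ hφ
  let p : fpt K κ ⟶ A := Over.homMk (A.left.fromSpecResidueField a) hφ.symm
  let X := fpt K κ ⊗ A
  have : IsIntegral A.left := GeometricallyIntegral.isIntegral_of_subsingleton A.hom
  have hirr : IsIntegral X.left :=
    have : GeometricallyIntegral (pullback.fst (fpt K κ).hom A.hom) := inferInstance
    have : Subsingleton ↥(fpt K κ).left := inferInstanceAs (Subsingleton (PrimeSpectrum κ))
    have : IsIntegral (fpt K κ).left := inferInstanceAs (IsIntegral (Spec (CommRingCat.of κ)))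
    GeometricallyIntegral.isIntegral_of_subsingleton (pullback.fst (fpt K κ).hom A.hom)
  let m₁ : X ⟶ A := (fst _ _ ≫ p) * snd _ _
  let m₂ : X ⟶ A := (fst _ _ ≫ p) * (snd _ _)⁻¹
  have hne : ∀ (m : X ⟶ A) (e : fpt K κ ⟶ X), e ≫ m = 1 → (m.left ⁻¹ᵁ U : Set X.left).Nonempty := by
    intro m e he
    refine ⟨e.left (IsLocalRing.closedPoint κ), ?_⟩
    show (e ≫ m).left _ ∈ U
    rw [he, Hom.one_def, Over.comp_left]
    show η[A].left _ ∈ U
    have hy : η[A].left ((toUnit (fpt K κ)).left (IsLocalRing.closedPoint κ)) = η[A].left (IsLocalRing.closedPoint K) :=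
      congrArg _ (Subsingleton.elim (α := PrimeSpectrum K) _ _)
    exact hy ▸ hU
  have h1 : genericPoint X.left ∈ m₁.left ⁻¹ᵁ U := by
    obtain ⟨x, hx⟩ := hne m₁ (lift (𝟙 _) p⁻¹) (by rw [MonObj.comp_mul, lift_fst_assoc, lift_snd, Category.id_comp, mul_inv_cancel])
    exact (genericPoint_specializes x).mem_open (m₁.left ⁻¹ᵁ U).2 hx
  have h2 : genericPoint X.left ∈ m₂.left ⁻¹ᵁ U := by
    obtain ⟨x, hx⟩ := hne m₂ (lift (𝟙 _) p) (by
      rw [MonObj.comp_mul, lift_fst_assoc, GrpObj.comp_inv, lift_snd, Category.id_comp, mul_inv_cancel])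
    exact (genericPoint_specializes x).mem_open (m₂.left ⁻¹ᵁ U).2 hx
  let W : X.left.Opens := m₁.left ⁻¹ᵁ U ⊓ m₂.left ⁻¹ᵁ U
  have : IsFinite (fpt K κ).hom := (IsFinite.SpecMap_iff _).mpr (RingHom.finite_algebraMap.mpr ‹Module.Finite K κ›)
  have : IsFinite (snd (fpt K κ) A).left := inferInstanceAs (IsFinite (pullback.snd (fpt K κ).hom A.hom))
  have : Flat (fpt K κ).hom := inferInstance
  have : Flat (snd (fpt K κ) A).left := inferInstanceAs (Flat (pullback.snd (fpt K κ).hom A.hom))
  let ξ := genericPoint A.left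
  have hbad : ξ ∉ (snd (fpt K κ) A).left '' (W : Set X.left)ᶜ := by
    rintro ⟨z, hz, hzξ⟩
    refine hz ?_
    have h : (snd (fpt K κ) A).left (genericPoint X.left) = (snd (fpt K κ) A).left z := by
      have := ((genericPoint_specializes z).map (snd (fpt K κ) A).left.continuous)
      rw [hzξ] at this ⊢
      exact (this.antisymm (genericPoint_specializes _)).eq
    rw [← Dimension.eq_of_specializes_of_apply_eq _ (genericPoint_specializes z) h]
    exact ⟨h1, h2⟩
  have hopen : IsOpen ((snd (fpt K κ) A).left '' (W : Set X.left)ᶜ)ᶜ :=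
    ((snd (fpt K κ) A).left.isClosedMap _ W.2.isClosed_compl).isOpen_compl
  obtain ⟨b, hb, hbc⟩ := nonempty_inter_closedPoints ⟨ξ, hbad⟩ hopen.isLocallyClosed
  obtain ⟨ψ, hψ⟩ := hres b
  let _ : Algebra K (A.left.residueField b) := ψ.hom.toAlgebra
  have : Module.Finite K (A.left.residueField b) := hfin b hbc ψ hψ
  let t : fpt K (A.left.residueField b) ⟶ A := Over.homMk (A.left.fromSpecResidueField b) hψ.symm
  refine ⟨A.left.residueField b, inferInstance, ψ.hom.toAlgebra, ‹_›, t, fun z hz => ?_⟩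
  -- compare with a point of `X` through a field
  obtain ⟨Ω, _, _, w, hw⟩ : ∃ (Ω : Type u) (_ : Field Ω) (_ : Algebra K Ω)
      (w : fpt K Ω ⟶ A ⊗ fpt K (A.left.residueField b)), Set.range w.left = {z} := by
    obtain ⟨χ, hχ⟩ := Spec.map_surjective ((A ⊗ fpt K (A.left.residueField b)).left.fromSpecResidueField z ≫
      (A ⊗ fpt K (A.left.residueField b)).hom)
    let _ : Algebra K ((A ⊗ fpt K (A.left.residueField b)).left.residueField z) := χ.hom.toAlgebra
    refine ⟨(A ⊗ fpt K (A.left.residueField b)).left.residueField z, inferInstance, χ.hom.toAlgebra,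
      Over.homMk ((A ⊗ fpt K (A.left.residueField b)).left.fromSpecResidueField z) hχ.symm, ?_⟩
    exact Scheme.range_fromSpecResidueField _
  obtain ⟨q, hq⟩ : ∃ q : fpt K Ω ⟶ fpt K κ, q ≫ p = w ≫ fst _ _ := by
    have hr : (w ≫ fst A (fpt K (A.left.residueField b))).left (IsLocalRing.closedPoint Ω) = a := by
      have := hw.le (Set.mem_range_self (IsLocalRing.closedPoint Ω))
      show (fst A (fpt K (A.left.residueField b))).left (w.left _) = a
      rw [Set.mem_singleton_iff.mp this, hz]
    obtain ⟨⟨y, ρ⟩, hρ⟩ := (Scheme.SpecToEquivOfField Ω A.left).symm.surjective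
      (w ≫ fst A (fpt K (A.left.residueField b))).left
    rw [Scheme.SpecToEquivOfField_symm_apply] at hρ
    obtain rfl : y = a := by
      rw [← hr, ← hρ]
      exact (Scheme.fromSpecResidueField_apply y _).symm
    refine ⟨Over.homMk (Spec.map ρ) ?_, Over.OverMorphism.ext hρ⟩
    show Spec.map ρ ≫ Spec.map φ = _
    rw [hφ, ← Category.assoc, hρ]
    exact Over.w (w ≫ fst A (fpt K (A.left.residueField b)))
  let v : fpt K Ω ⟶ X := lift q (w ≫ snd _ _ ≫ t)
  let o := IsLocalRing.closedPoint Ω
  have hvW : v.left o ∈ W := by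
    by_contra h
    refine hb ⟨_, h, ?_⟩
    show (v ≫ snd _ _).left o = b
    rw [lift_snd]
    exact Scheme.fromSpecResidueField_apply b _
  have e₁ : v ≫ m₁ = w ≫ (fst A _ * con t) := by
    rw [MonObj.comp_mul, MonObj.comp_mul, lift_fst_assoc, lift_snd, hq]
  have e₂ : v ≫ m₂ = w ≫ (fst A _ * (con t)⁻¹) := by
    rw [MonObj.comp_mul, MonObj.comp_mul, lift_fst_assoc, GrpObj.comp_inv, GrpObj.comp_inv, lift_snd, hq]
  have hz' : w.left o = z := Set.mem_singleton_iff.mp (hw.le (Set.mem_range_self o))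
  rw [← hz']
  exact ⟨mem_preimage_of_comp_eq e₁ U hvW.1, mem_preimage_of_comp_eq e₂ U hvW.2⟩

omit [GrpObj A] [IsProper A.hom] [GeometricallyIntegral A.hom] in
/-- Finitely many finite extensions embed in one. -/
lemma exists_common_ext {J : Type*} (s : Finset J) (F : J → Type u) [∀ i, Field (F i)] [∀ i, Algebra K (F i)]
    [∀ i, Module.Finite K (F i)] :
    ∃ (E : Type u) (_ : Field E) (_ : Algebra K E) (_ : Module.Finite K E), ∀ i ∈ s, Nonempty (F i →ₐ[K] E) := by
  classical
  induction s using Finset.induction_on with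
  | empty => exact ⟨K, inferInstance, inferInstance, inferInstance, by simp⟩
  | @insert j s hj ih =>
    obtain ⟨E, _, _, _, hE⟩ := ih
    obtain ⟨m, hm⟩ := Ideal.exists_maximal (E ⊗[K] F j)
    let _ := Ideal.Quotient.field m
    refine ⟨(E ⊗[K] F j) ⧸ m, inferInstance, inferInstance, inferInstance, fun i hi => ?_⟩
    rcases Finset.mem_insert.mp hi with rfl | hi
    · exact ⟨(Ideal.Quotient.mkₐ K m).comp Algebra.TensorProduct.includeRight⟩
    · exact ⟨((Ideal.Quotient.mkₐ K m).comp Algebra.TensorProduct.includeLeft).comp (hE i hi).some⟩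

/-- `L ⊗ L` is ample. -/
theorem isAmple_tensor_self {U : A.left.Opens} {L : A.left.Modules} (hL : PicF.IsInvertible L)
    (s : Coh.structureModule A.left ⟶ CohB1.tensorPow L 1) (hU : IsAffineOpen U)
    (heU : η[A].left (IsLocalRing.closedPoint K) ∈ U) (hs : CohB1.genLocus _ s = U) :
    CohB1.IsAmple (CohB1.tensorMod L L) := by
  have : CompactSpace A.left := QuasiCompact.compactSpace_of_compactSpace A.hom
  have : JacobsonSpace A.left := LocallyOfFiniteType.jacobsonSpace A.hom
  let I := {a : A.left // IsClosed ({a} : Set A.left)}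
  choose F iF iA iM t ht using fun a : I => exists_good_point (A := A) heU a.2
  have hclosedMap : ∀ a : I, IsClosed ((fst A (fpt K (F a))).left '' (locus U (t a) : Set _)ᶜ) := fun a =>
    (fst A (fpt K (F a))).left.isClosedMap _ (locus U (t a)).2.isClosed_compl
  let O : I → Set A.left := fun a => ((fst A (fpt K (F a))).left '' (locus U (t a) : Set _)ᶜ)ᶜ
  have hcov : Set.univ ⊆ ⋃ a, O a := by
    intro x _
    by_contra hx
    obtain ⟨c, hc, hcc⟩ := nonempty_inter_closedPoints (Z := (⋃ a, O a)ᶜ) ⟨x, hx⟩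
      (isOpen_iUnion fun a => (hclosedMap a).isOpen_compl).isClosed_compl.isLocallyClosed
    refine hc (Set.mem_iUnion.mpr ⟨⟨c, hcc⟩, ?_⟩)
    rintro ⟨z, hz, hzc⟩
    exact hz (ht ⟨c, hcc⟩ z hzc)
  obtain ⟨T, hT⟩ := isCompact_univ.elim_finite_subcover O (fun a => (hclosedMap a).isOpen_compl) hcov
  obtain ⟨E, _, _, _, hE⟩ := exists_common_ext (K := K) T F
  have : IsFinite (fpt K E).hom := (IsFinite.SpecMap_iff _).mpr (RingHom.finite_algebraMap.mpr ‹Module.Finite K E›)
  have : IsFinite (fst A (fpt K E)).left := isFinite_fst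
  have : Surjective (fst A (fpt K E)).left := by
    have : Surjective (fpt K E).hom := ⟨fun y => ⟨(⊥ : PrimeSpectrum E), Subsingleton.elim (α := PrimeSpectrum K) _ _⟩⟩
    exact inferInstanceAs (Surjective (pullback.fst A.hom (fpt K E).hom))
  have : Flat (fpt K E).hom := inferInstance
  have : Flat (fst A (fpt K E)).left := inferInstanceAs (Flat (pullback.fst A.hom (fpt K E).hom))
  have : IsLocallyNoetherian A.left := LocallyOfFiniteType.isLocallyNoetherian A.hom
  have hfree := ((S9716.result (fst A (fpt K E)).left).mpr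
    ⟨inferInstance, inferInstance, inferInstance⟩).2
  have hM := PicLaw.isInvertible_tensor hL hL
  rw [← S4381.result A.hom, S3565.result A.hom (fst A (fpt K E)).left hfree _ hM, S4381.result]
  have hAE : CompactSpace (A ⊗ fpt K E).left := QuasiCompact.compactSpace_of_compactSpace (fst A (fpt K E)).left
  refine ⟨PicLoc.isInvertible_pullback _ hM, hAE, fun z => ?_⟩
  obtain ⟨a, haT, haO⟩ : ∃ a ∈ T, (fst A (fpt K E)).left z ∈ O a := by
    simpa using hT (Set.mem_univ ((fst A (fpt K E)).left z))
  obtain ⟨φ⟩ := hE a haT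
  let q : fpt K E ⟶ fpt K (F a) := Over.homMk (Spec.map (CommRingCat.ofHom φ.toRingHom)) (by
    show Spec.map _ ≫ Spec.map _ = Spec.map _
    rw [← Spec.map_comp, ← CommRingCat.ofHom_comp]
    congr 2
    exact φ.comp_algebraMap)
  obtain ⟨σ, hσ⟩ := exists_section U (q ≫ t a) hL s hs
  refine ⟨0, σ, ?_, by rw [hσ]; exact isAffineOpen_locus U _ hU⟩
  rw [hσ]
  have hc : con (q ≫ t a) = (A ◁ q) ≫ con (t a) := by rw [whiskerLeft_snd_assoc]
  have e1 : fst A (fpt K E) * con (q ≫ t a) = (A ◁ q) ≫ (fst A (fpt K (F a)) * con (t a)) := by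
    rw [hc, MonObj.comp_mul, whiskerLeft_fst]
  have e2 : fst A (fpt K E) * (con (q ≫ t a))⁻¹ = (A ◁ q) ≫ (fst A (fpt K (F a)) * (con (t a))⁻¹) := by
    rw [hc, MonObj.comp_mul, whiskerLeft_fst, GrpObj.comp_inv]
  have hmem : (A ◁ q).left z ∈ locus U (t a) := by
    by_contra h
    refine haO ⟨_, h, ?_⟩
    rw [← whiskerLeft_fst A q]
    rfl
  refine ⟨?_, ?_⟩
  · show (fst A (fpt K E) * con (q ≫ t a)).left z ∈ U
    rw [e1]; exact hmem.1
  · show (fst A (fpt K E) * (con (q ≫ t a))⁻¹).left z ∈ U
    rw [e2]; exact hmem.2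

/-- An abelian variety has an ample invertible module. -/
theorem exists_isAmple (A : Over (Spec (CommRingCat.of K))) [GrpObj A] [IsProper A.hom]
    [GeometricallyIntegral A.hom] : ∃ M : A.left.Modules, CohB1.IsAmple M := by
  obtain ⟨U, L, s, hU, heU, hL, hs⟩ := AVPow.exists_affine_section A
  exact ⟨_, isAmple_tensor_self hL s hU heU hs⟩

end Groth.Agent.GrpScheme.AVAmple
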