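import Groth.Agent.GrpScheme.Smooth
import Mathlib.AlgebraicGeometry.Properties
import Mathlib.Topology.KrullDimension
import Mathlib.RingTheory.Ideal.GoingUp

/-!
# Dimension of group schemes locally of finite type over a field

All closed points have the same codimension, equal to the dimension of the group scheme.
-/

set_option autoImplicit false

universe u

open CategoryTheory MonoidalCategory CartesianMonoidalCategory MonObj GrpObj AlgebraicGeometry
  Limits Order

namespace Groth.Agent.GrpScheme.Dimension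

/-- There are no specializations inside the fibres of an integral morphism. -/
lemma eq_of_specializes_of_apply_eq {X Y : Scheme.{u}} (f : X ⟶ Y) [IsIntegralHom f] {x x' : X}
    (h : x ⤳ x') (e : f x = f x') : x = x' := by
  obtain ⟨V, hV, hxV, -⟩ := exists_isAffineOpen_mem_and_subset (x := f x') (U := ⊤) trivial
  have hU : IsAffineOpen (f ⁻¹ᵁ V) := hV.preimage f
  have hx' : x' ∈ f ⁻¹ᵁ V := hxV
  have hx : x ∈ f ⁻¹ᵁ V := h.mem_open (f ⁻¹ᵁ V).2 hx'
  have hle : hU.primeIdealOf ⟨x, hx⟩ ≤ hU.primeIdealOf ⟨x', hx'⟩ := by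
    refine (PrimeSpectrum.le_iff_specializes _ _).mpr
      (hU.fromSpec.isOpenEmbedding.isInducing.specializes_iff.mp ?_)
    exact (hU.fromSpec_primeIdealOf ⟨x, hx⟩).symm ▸ (hU.fromSpec_primeIdealOf ⟨x', hx'⟩).symm ▸ h
  rcases hle.eq_or_lt with heq | hlt
  · simpa only [hU.fromSpec_primeIdealOf] using congrArg hU.fromSpec heq
  · exfalso
    let := (f.appLE V (f ⁻¹ᵁ V) le_rfl).hom.toAlgebra
    have : Algebra.IsIntegral Γ(Y, V) Γ(X, f ⁻¹ᵁ V) := ⟨by
      have := f.isIntegral_app V hV
      rwa [Scheme.Hom.app_eq_appLE] at this⟩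
    have h2 := Ideal.IsIntegral.comap_lt_comap (R := Γ(Y, V))
      (show (hU.primeIdealOf ⟨x, hx⟩).asIdeal < (hU.primeIdealOf ⟨x', hx'⟩).asIdeal from hlt)
    have h3 : ∀ {z : X} (hz : z ∈ f ⁻¹ᵁ V),
        (hU.primeIdealOf ⟨z, hz⟩).asIdeal.comap (algebraMap Γ(Y, V) Γ(X, f ⁻¹ᵁ V)) =
          (hV.primeIdealOf ⟨f z, hz⟩).asIdeal := fun hz =>
      congrArg PrimeSpectrum.asIdeal (IsAffineOpen.comap_primeIdealOf_appLE V hV _ hU le_rfl hz)
    rw [h3 hx, h3 hx'] at h2
    refine h2.ne ?_
    congr 3

/-- Codimension is preserved by flat integral morphisms. -/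
lemma coheight_apply {X Y : Scheme.{u}} (f : X ⟶ Y) [IsIntegralHom f] [Flat f] (x : X) :
    coheight x = coheight (f x) := by
  have hf : StrictMono f := fun a b hab => by
    refine lt_iff_le_not_ge.mpr ⟨(show b ⤳ a from hab.le).map f.continuous, fun hba => ?_⟩
    have hs : f b ⤳ f a := (show b ⤳ a from hab.le).map f.continuous
    have he : f b = f a := (hs.antisymm (show f a ⤳ f b from hba)).eq
    exact hab.not_ge (eq_of_specializes_of_apply_eq f (show b ⤳ a from hab.le) he).le
  refine coheight_eq_of_strictMono f hf (fun a b hab => ?_) x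
  obtain ⟨a', ha', hfa'⟩ := Flat.generalizingMap f (show b ⤳ f a from hab.le)
  refine ⟨a', lt_iff_le_not_ge.mpr ⟨ha', fun h => ?_⟩, hfa'⟩
  exact hab.not_ge (hfa' ▸ (show a ⤳ a' from h).map f.continuous)

variable {K : Type u} [Field K]

lemma coheight_eq_of_isAlgClosed [IsAlgClosed K] (G : Over (Spec (CommRingCat.of K))) [GrpObj G]
    [LocallyOfFiniteType G.hom] (x y : G.left) (hx : IsClosed {x}) (hy : IsClosed {y}) :
    coheight x = coheight y := by
  obtain ⟨α, hα⟩ := Smooth.exists_translation G x y hx hy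
  have : IsIso α.hom.left := Basic.isIso_left α.hom
  rw [← hα]
  exact (coheight_eq_of_isOpenImmersion α.hom.left).symm

/-- All closed points have the same codimension. -/
lemma coheight_eq (G : Over (Spec (CommRingCat.of K))) [GrpObj G]
    [LocallyOfFiniteType G.hom] (x y : G.left) (hx : IsClosed {x}) (hy : IsClosed {y}) :
    coheight x = coheight y := by
  let Ω : Type u := AlgebraicClosure K
  let g : Spec (.of Ω) ⟶ Spec (.of K) := Spec.map (CommRingCat.ofHom <| algebraMap K Ω)
  have : IsIntegralHom g := (IsIntegralHom.SpecMap_iff).mpr fun r => Algebra.IsIntegral.isIntegral r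
  let : GrpObj (Over.mk G.hom) := ‹GrpObj G›
  let : GrpObj (Over.mk (pullback.snd G.hom g)) := Over.grpObjMkPullbackSnd
  have : LocallyOfFiniteType (Over.mk (pullback.snd G.hom g)).hom :=
    inferInstanceAs (LocallyOfFiniteType (pullback.snd G.hom g))
  have := LocallyOfFiniteType.jacobsonSpace (pullback.snd G.hom g)
  have hcl : ∀ z : G.left, IsClosed {z} → ∃ w, pullback.fst G.hom g w = z ∧ IsClosed {w} := by
    intro z hz
    obtain ⟨w, hw⟩ := (pullback.fst G.hom g).surjective z
    obtain ⟨w', hw', hc⟩ := nonempty_inter_closedPoints (Z := pullback.fst G.hom g ⁻¹' {z}) ⟨w, hw⟩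
      (hz.preimage (pullback.fst G.hom g).continuous).isLocallyClosed
    exact ⟨w', hw', hc⟩
  obtain ⟨a, rfl, ha⟩ := hcl x hx
  obtain ⟨b, rfl, hb⟩ := hcl y hy
  rw [← coheight_apply, ← coheight_apply]
  exact coheight_eq_of_isAlgClosed (Over.mk (pullback.snd G.hom g)) a b ha hb

/-- The codimension of a closed point is the dimension. -/
theorem coheight_eq_topologicalKrullDim (G : Over (Spec (CommRingCat.of K))) [GrpObj G]
    [LocallyOfFiniteType G.hom] (x : G.left) (hx : IsClosed {x}) :
    (coheight x : WithBot ℕ∞) = topologicalKrullDim G.left := by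
  rw [show topologicalKrullDim G.left = krullDim G.left from
    Order.krullDim_eq_of_orderIso irreducibleSetEquivPoints, krullDim_eq_iSup_coheight]
  refine le_antisymm (le_iSup (fun a : G.left => (coheight a : WithBot ℕ∞)) x) (iSup_le fun z => ?_)
  have := LocallyOfFiniteType.jacobsonSpace G.hom
  obtain ⟨w, hw, hwc⟩ := nonempty_inter_closedPoints (Z := closure {z}) ⟨z, subset_closure rfl⟩
    isClosed_closure.isLocallyClosed
  rw [coheight_eq G x w hx hwc]
  exact WithBot.coe_le_coe.mpr (coheight_anti (show w ≤ z from specializes_iff_mem_closure.mpr hw))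

end Groth.Agent.GrpScheme.Dimension
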