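import Mathlib.RingTheory.MvPolynomial.Ideal
import Mathlib.Algebra.MvPolynomial.PDeriv
import Mathlib.Algebra.TrivSqZeroExt.Basic
import Mathlib.Algebra.CharP.Algebra
import Mathlib.RingTheory.LocalRing.Basic
import Mathlib.LinearAlgebra.Dimension.Constructions
import Mathlib.RingTheory.Nilpotent.Lemmas
import Mathlib.RingTheory.Nilpotent.Basic

/-!
# Truncated polynomial rings in characteristic `p`
-/

set_option autoImplicit false

universe u

open MvPolynomial

namespace Groth.Agent.GrpScheme.TruncPoly

variable (E : Type u) [Field E] (g p : ℕ)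

/-- The ideal of `p`-th powers of the variables. -/
noncomputable def powIdeal : Ideal (MvPolynomial (Fin g) E) :=
  Ideal.span (Set.range fun i : Fin g => (X i : MvPolynomial (Fin g) E) ^ p)

/-- `E[x] / (x_i ^ p)`. -/
abbrev Tr : Type u := MvPolynomial (Fin g) E ⧸ powIdeal E g p

variable {E g p}

/-- The quotient map. -/
noncomputable def mk : MvPolynomial (Fin g) E →ₐ[E] Tr E g p := Ideal.Quotient.mkₐ E _

lemma mk_surjective : Function.Surjective (mk : MvPolynomial (Fin g) E → Tr E g p) :=
  Ideal.Quotient.mk_surjective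

lemma mem_powIdeal_iff {f : MvPolynomial (Fin g) E} :
    f ∈ powIdeal E g p ↔ ∀ m ∈ f.support, ∃ i, p ≤ m i := by
  have : powIdeal E g p = Ideal.span ((fun s => monomial s (1 : E)) ''
      (Set.range fun i : Fin g => Finsupp.single i p)) := by
    rw [powIdeal, ← Set.range_comp]
    congr 1
    exact congrArg Set.range (funext fun i => X_pow_eq_monomial)
  rw [this, mem_ideal_span_monomial_image]
  simp

lemma mk_eq_zero_iff {f : MvPolynomial (Fin g) E} :
    mk (p := p) f = 0 ↔ ∀ m ∈ f.support, ∃ i, p ≤ m i :=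
  Ideal.Quotient.eq_zero_iff_mem.trans mem_powIdeal_iff

section deriv

variable [CharP E p]

/-- A partial derivative, as a homomorphism to the dual numbers. -/
noncomputable def polyDer (i : Fin g) :
    MvPolynomial (Fin g) E →ₐ[E] TrivSqZeroExt (Tr E g p) (Tr E g p) where
  toFun f := TrivSqZeroExt.inl (mk f) + TrivSqZeroExt.inr (mk (pderiv i f))
  map_one' := by ext <;> simp
  map_zero' := by ext <;> simp
  map_add' a b := by ext <;> simp
  map_mul' a b := by
    ext
    · simp
    · simp [pderiv_mul, map_mul]; ring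
  commutes' r := by ext <;> simp [TrivSqZeroExt.algebraMap_eq_inl', mk]

/-- A partial derivative on truncated polynomials, as a homomorphism to the dual numbers. -/
noncomputable def der (i : Fin g) : Tr E g p →ₐ[E] TrivSqZeroExt (Tr E g p) (Tr E g p) :=
  Ideal.Quotient.liftₐ _ (polyDer i) (by
    intro a ha
    refine RingHom.mem_ker.mp (Ideal.span_le.mpr ?_ ha)
    rintro _ ⟨j, rfl⟩
    have h0 : mk (p := p) ((X j : MvPolynomial (Fin g) E) ^ p) = 0 :=
      Ideal.Quotient.eq_zero_iff_mem.mpr (Ideal.subset_span ⟨j, rfl⟩)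
    have : CharP (MvPolynomial (Fin g) E) p := inferInstance
    rw [SetLike.mem_coe, RingHom.mem_ker]
    change polyDer i ((X j : MvPolynomial (Fin g) E) ^ p) = 0
    ext
    · simpa [polyDer] using h0
    · simp [polyDer, pderiv_pow, CharP.cast_eq_zero])

lemma der_mk (i : Fin g) (f : MvPolynomial (Fin g) E) :
    der (p := p) i (mk f) = TrivSqZeroExt.inl (mk f) + TrivSqZeroExt.inr (mk (pderiv i f)) := rfl

lemma fst_der (i : Fin g) (c : Tr E g p) : (der i c).fst = c := by
  obtain ⟨f, rfl⟩ := mk_surjective c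
  simp [der_mk]

/-- An element killed by all partial derivatives is a constant. -/
theorem mem_range_of_der (hp : p.Prime) {c : Tr E g p} (h : ∀ i, (der i c).snd = 0) :
    c ∈ Set.range (algebraMap E (Tr E g p)) := by
  classical
  obtain ⟨f, rfl⟩ := mk_surjective c
  refine ⟨coeff 0 f, ?_⟩
  rw [← mk.commutes, ← sub_eq_zero, ← map_sub, mk_eq_zero_iff]
  intro m hm
  rw [MvPolynomial.mem_support_iff, coeff_sub, algebraMap_eq, coeff_C] at hm
  by_contra hlt
  simp only [not_exists, not_le] at hlt
  have hm0 : m ≠ 0 := by rintro rfl; simp at hm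
  rw [if_neg hm0.symm, zero_sub, neg_ne_zero] at hm
  obtain ⟨i, hi⟩ := Finsupp.ne_iff.mp hm0
  simp only [Finsupp.coe_zero, Pi.zero_apply] at hi
  have h1 := h i
  rw [der_mk] at h1
  simp only [TrivSqZeroExt.snd_add, TrivSqZeroExt.snd_inl, TrivSqZeroExt.snd_inr, zero_add,
    mk_eq_zero_iff] at h1
  let m' := m - Finsupp.single i 1
  have hm' : m' + Finsupp.single i 1 = m := by
    refine tsub_add_cancel_of_le (Finsupp.single_le_iff.mpr (by omega))
  have hmi : (m' i + 1 : ℕ) = m i := by
    have := congrArg (fun v : Fin g →₀ ℕ => v i) hm'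
    simpa using this
  by_cases hc : coeff m' (pderiv i f) = 0
  · rw [coeff_pderiv, hm'] at hc
    rcases mul_eq_zero.mp hc with hc | hc
    · exact hm hc
    · have : ((m i : ℕ) : E) = 0 := by rw [← hmi]; push_cast; exact hc
      rw [CharP.cast_eq_zero_iff E p] at this
      exact absurd (Nat.le_of_dvd (by omega) this) (not_le.mpr (hlt i))
  · obtain ⟨j, hj⟩ := h1 m' (MvPolynomial.mem_support_iff.mpr hc)
    have : m' j ≤ m j := by
      simp only [m', Finsupp.coe_tsub, Pi.sub_apply]
      omega
    exact absurd (hj.trans this) (not_le.mpr (hlt j))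

end deriv

theorem finite (hp : 0 < p) : Module.Finite E (Tr E g p) := by
  classical
  let s : Finset (Fin g →₀ ℕ) := (Finset.univ : Finset (Fin g → Fin p)).image
    fun m => Finsupp.equivFunOnFinite.symm fun i => (m i : ℕ)
  refine ⟨s.image (fun m => mk (monomial m (1 : E))), eq_top_iff.mpr ?_⟩
  intro c _
  obtain ⟨f, rfl⟩ := mk_surjective c
  rw [f.as_sum, map_sum]
  refine Submodule.sum_mem _ fun m _ => ?_
  by_cases h : ∃ i, p ≤ m i
  · rw [mk_eq_zero_iff.mpr fun m' hm' => ?_]
    · exact zero_mem _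
    · rw [Finset.mem_singleton.mp (support_monomial_subset hm')]
      exact h
  · simp only [not_exists, not_le] at h
    have : monomial m (coeff m f) = coeff m f • monomial m (1 : E) := by
      rw [smul_monomial, smul_eq_mul, _root_.mul_one]
    rw [this, map_smul]
    refine Submodule.smul_mem _ _ (Submodule.subset_span (Finset.mem_image_of_mem _ ?_))
    exact Finset.mem_image.mpr ⟨fun i => ⟨m i, h i⟩, Finset.mem_univ _, by ext i; simp⟩

theorem pow_le_finrank (hp : 0 < p) : p ^ g ≤ Module.finrank E (Tr E g p) := by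
  classical
  have := finite (E := E) (g := g) hp
  let L : MvPolynomial (Fin g) E →ₗ[E] ((Fin g → Fin p) → E) :=
    LinearMap.pi fun m => lcoeff E (Finsupp.equivFunOnFinite.symm fun i => (m i : ℕ))
  have hL : ∀ a ∈ (powIdeal E g p).restrictScalars E, L a = 0 := by
    intro a ha
    funext m
    by_contra h
    obtain ⟨i, hi⟩ := mem_powIdeal_iff.mp ha _ (MvPolynomial.mem_support_iff.mpr h)
    simp only [Finsupp.coe_equivFunOnFinite_symm] at hi
    exact absurd hi (not_le.mpr (m i).isLt)
  let L' : Tr E g p →ₗ[E] ((Fin g → Fin p) → E) :=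
    ((powIdeal E g p).restrictScalars E).liftQ L (fun a ha => hL a ha) ∘ₗ
      (Submodule.Quotient.restrictScalarsEquiv E (powIdeal E g p)).symm.toLinearMap
  have hL' : Function.Surjective L' := by
    intro v
    refine ⟨mk (∑ m, monomial (Finsupp.equivFunOnFinite.symm fun i => (m i : ℕ)) (v m)), ?_⟩
    change L (∑ m, monomial (Finsupp.equivFunOnFinite.symm fun i => (m i : ℕ)) (v m)) = v
    funext m
    rw [map_sum, Finset.sum_apply, Finset.sum_eq_single m]
    · simp [L, lcoeff_apply, coeff_monomial]
    · intro m' _ hne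
      simp only [L, LinearMap.pi_apply, lcoeff_apply, coeff_monomial]
      rw [if_neg]
      intro he
      exact hne (funext fun i => Fin.ext (by
        have := congrArg (fun v : Fin g →₀ ℕ => v i) he
        simpa using this))
    · simp
  refine le_trans (le_of_eq ?_) (LinearMap.finrank_le_finrank_of_surjective hL')
  simp

/-- Evaluation at the origin. -/
noncomputable def aug0 [Fact (0 < p)] : Tr E g p →ₐ[E] E :=
  Ideal.Quotient.liftₐ _ (MvPolynomial.aeval fun _ => (0 : E)) (by
    intro a ha
    refine RingHom.mem_ker.mp (Ideal.span_le.mpr ?_ ha)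
    rintro _ ⟨j, rfl⟩
    simp [zero_pow (Fact.out : 0 < p).ne'])

lemma isNilpotent_of_aug0 [Fact (0 < p)] {c : Tr E g p} (h : aug0 c = 0) : IsNilpotent c := by
  obtain ⟨f, rfl⟩ := mk_surjective c
  have hm : f ∈ Ideal.span (MvPolynomial.X '' (Set.univ : Set (Fin g)) : Set (MvPolynomial (Fin g) E)) := by
    rw [mem_ideal_span_X_image]
    intro m hm
    by_contra hn
    have hm0 : m = 0 := Finsupp.ext fun i => by
      by_contra hi
      exact hn ⟨i, trivial, hi⟩
    subst hm0
    refine MvPolynomial.mem_support_iff.mp hm ?_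
    have : MvPolynomial.aeval (fun _ : Fin g => (0 : E)) f = 0 := h
    simpa [MvPolynomial.aeval_zero', constantCoeff_eq] using this
  refine mem_nilradical.mp (Ideal.mem_comap.mp
    ((Ideal.span_le (I := (nilradical (Tr E g p)).comap (mk (p := p)).toRingHom)).mpr ?_ hm))
  rintro _ ⟨j, -, rfl⟩
  refine Ideal.mem_comap.mpr (mem_nilradical.mpr ⟨p, ?_⟩)
  rw [← map_pow]
  exact Ideal.Quotient.eq_zero_iff_mem.mpr (Ideal.subset_span ⟨j, rfl⟩)

theorem isUnit_iff [Fact (0 < p)] {c : Tr E g p} : IsUnit c ↔ aug0 c ≠ 0 := by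
  refine ⟨fun h => (h.map aug0).ne_zero, fun h => ?_⟩
  have hn : IsNilpotent (c - algebraMap E _ (aug0 c)) := isNilpotent_of_aug0 (by simp)
  have := IsNilpotent.isUnit_add_left_of_commute hn
    ((isUnit_iff_ne_zero.mpr h).map (algebraMap E (Tr E g p))) (Commute.all _ _)
  simpa using this

instance isLocalRing [Fact (0 < p)] : IsLocalRing (Tr E g p) :=
  haveI : Nontrivial (Tr E g p) := (aug0 (E := E) (g := g) (p := p)).toRingHom.domain_nontrivial
  IsLocalRing.of_isUnit_or_isUnit_one_sub_self fun a => by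
    simp only [isUnit_iff, map_sub, map_one]
    by_cases h : aug0 a = 0
    · exact Or.inr (by simp [h])
    · exact Or.inl h

end Groth.Agent.GrpScheme.TruncPoly
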