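import Groth.Agent.GrpScheme.Tangent
import Groth.Agent.GrpScheme.TruncPoly
import Groth.Agent.GrpScheme.Dimension
import Groth.Agent.GrpScheme.IdComponent
import Groth.Agent.Omega.StalkSmooth
import Mathlib.RingTheory.Smooth.Basic
import Mathlib.RingTheory.Ideal.KrullsHeightTheorem
import Mathlib.RingTheory.Ideal.Cotangent
import Mathlib.AlgebraicGeometry.Properties
import Mathlib.AlgebraicGeometry.Morphisms.Smooth

/-!
# Multiplication by `p` kills the first Frobenius neighbourhood of the unit

In characteristic `p` the points over dual numbers reducing to the unit are killed by `p`; so the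
`p`-th power map has zero differential and sends the Frobenius neighbourhood of the unit to the unit.
-/

set_option autoImplicit false

universe u

open CategoryTheory MonoidalCategory CartesianMonoidalCategory MonObj GrpObj AlgebraicGeometry
  Limits IsLocalRing TrivSqZeroExt

namespace Groth.Agent.GrpScheme.FrobKernel

open Cartier Tangent TruncPoly

variable {K : Type u} [Field K] (G : Over (Spec (CommRingCat.of K))) [GrpObj G]

section Dual

variable {C : Type u} [CommRing C] [Algebra K C]

/-- Trivial homomorphism to an algebra. -/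
noncomputable abbrev triv (B : Type u) [CommRing B] [Algebra K B] : stalkUnit G →ₐ[K] B :=
  (Algebra.ofId K B).comp (aug G)

lemma eq_aug (χ : stalkUnit G →ₐ[K] K) : χ = aug G := by
  have hs : Function.Surjective χ := fun r => ⟨algebraMap K _ r, χ.commutes r⟩
  have hm : RingHom.ker χ.toRingHom = maximalIdeal (stalkUnit G) :=
    IsLocalRing.eq_maximalIdeal (RingHom.ker_isMaximal_of_surjective _ hs)
  refine AlgHom.ext fun a => ?_
  have : a - algebraMap K _ (aug G a) ∈ RingHom.ker χ.toRingHom := hm ▸ sub_aug_mem G a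
  have := RingHom.mem_ker.mp this
  simpa [sub_eq_zero] using this

lemma left_closedPoint_of_pt [IsLocalRing C] (φ : stalkUnit G →ₐ[K] C) (hφ : IsLocalHom φ.toRingHom) :
    (pt G φ).left (closedPoint C) = unitPt G := by
  have : IsLocalHom (CommRingCat.ofHom φ.toRingHom).hom := hφ
  change (Spec.map (CommRingCat.ofHom φ.toRingHom) ≫ G.left.fromSpecStalk (unitPt G))
    (closedPoint C) = _
  exact (Scheme.Hom.comp_apply _ _ _).trans
    ((congrArg (G.left.fromSpecStalk (unitPt G))
      (Spec_closedPoint (f := CommRingCat.ofHom φ.toRingHom))).trans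
      Scheme.fromSpecStalk_closedPoint)

variable [IsLocalRing C]

instance : IsLocalRing (TrivSqZeroExt C C) := Cartier.isLocalRing_dualNumber

instance : IsLocalRing (TrivSqZeroExt C (C × C)) :=
  IsLocalRing.of_isUnit_or_isUnit_one_sub_self fun a => by
    simp only [TrivSqZeroExt.isUnit_iff_isUnit_fst, fst_sub, fst_one]
    exact IsLocalRing.isUnit_or_isUnit_one_sub_self a.fst

lemma isLocalHom_of_fst (φ : stalkUnit G →ₐ[K] TrivSqZeroExt C C)
    (h : (fstHom K C C).comp φ = triv G C) : IsLocalHom φ.toRingHom :=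
  ⟨fun a ha => by
    have h1 := ha.map (fstHom K C C)
    rw [show fstHom K C C (φ.toRingHom a) = triv G C a from AlgHom.congr_fun h a] at h1
    by_contra hn
    rw [AlgHom.comp_apply, (mem_maximalIdeal_iff G a).mp hn, map_zero] at h1
    exact not_isUnit_zero h1⟩

lemma eq_triv {φ : stalkUnit G →ₐ[K] TrivSqZeroExt C C} (h : (fstHom K C C).comp φ = triv G C)
    (h2 : ∀ a, (φ a).snd = 0) : φ = triv G (TrivSqZeroExt C C) :=
  AlgHom.ext fun a => TrivSqZeroExt.ext
    (by simpa [TrivSqZeroExt.algebraMap_eq_inl'] using AlgHom.congr_fun h a)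
    (by simp [h2, TrivSqZeroExt.algebraMap_eq_inl'])

/-- Infinitesimal points with trivial reduction multiply by adding their vector parts. -/
theorem pt_mul (φ φ' : stalkUnit G →ₐ[K] TrivSqZeroExt C C) (hφ : (fstHom K C C).comp φ = triv G C)
    (hφ' : (fstHom K C C).comp φ' = triv G C) :
    ∃ ψ, pt G φ * pt G φ' = pt G ψ ∧ (fstHom K C C).comp ψ = triv G C ∧
      ∀ a, (ψ a).snd = (φ a).snd + (φ' a).snd := by
  let P₁ : TrivSqZeroExt C (C × C) →ₐ[K] TrivSqZeroExt C C :=
    (TrivSqZeroExt.map (LinearMap.fst C C C)).restrictScalars K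
  let P₂ : TrivSqZeroExt C (C × C) →ₐ[K] TrivSqZeroExt C C :=
    (TrivSqZeroExt.map (LinearMap.snd C C C)).restrictScalars K
  let J₁ : TrivSqZeroExt C C →ₐ[K] TrivSqZeroExt C (C × C) :=
    (TrivSqZeroExt.map (LinearMap.inl C C C)).restrictScalars K
  let J₂ : TrivSqZeroExt C C →ₐ[K] TrivSqZeroExt C (C × C) :=
    (TrivSqZeroExt.map (LinearMap.inr C C C)).restrictScalars K
  let Ad : TrivSqZeroExt C (C × C) →ₐ[K] TrivSqZeroExt C C :=
    (TrivSqZeroExt.map (LinearMap.fst C C C + LinearMap.snd C C C)).restrictScalars K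
  have hfst : ∀ χ : stalkUnit G →ₐ[K] TrivSqZeroExt C C, (fstHom K C C).comp χ = triv G C →
      ∀ a, (χ a).fst = algebraMap K C (aug G a) := fun χ h a => AlgHom.congr_fun h a
  have htriv : ∀ (f : TrivSqZeroExt C C →ₐ[K] TrivSqZeroExt C C) (χ : stalkUnit G →ₐ[K] TrivSqZeroExt C C),
      (fstHom K C C).comp χ = triv G C → (∀ x, (f x).fst = x.fst) → (∀ x, (f x).snd = 0) →
      TMap f ≫ pt G χ = 1 := by
    intro f χ hχ h1 h2
    rw [TMap_pt, ← pt_trivial]
    exact congrArg (pt G) (eq_triv G (φ := f.comp χ)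
      (AlgHom.ext fun a => (h1 (χ a)).trans (hfst χ hχ a)) fun a => h2 (χ a))
  have hid : ∀ f : TrivSqZeroExt C C →ₐ[K] TrivSqZeroExt C C, (∀ x, (f x).fst = x.fst) →
      (∀ x, (f x).snd = x.snd) → f = AlgHom.id K _ := fun f h1 h2 =>
    AlgHom.ext fun x => TrivSqZeroExt.ext (h1 x) (h2 x)
  let z := (TMap J₁ ≫ pt G φ) * (TMap J₂ ≫ pt G φ')
  have hz : ∀ (q : TrivSqZeroExt C (C × C) →ₐ[K] TrivSqZeroExt C C), TMap q ≫ z =
      (TMap (q.comp J₁) ≫ pt G φ) * (TMap (q.comp J₂) ≫ pt G φ') := fun q => by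
    rw [MonObj.comp_mul, ← Category.assoc, ← Category.assoc, TMap_comp, TMap_comp]
  have hz₁ : TMap P₁ ≫ z = pt G φ := by
    rw [hz, hid (P₁.comp J₁) (fun x => by simp [P₁, J₁]) (fun x => by simp [P₁, J₁]), TMap_id,
      Category.id_comp, htriv (P₁.comp J₂) φ' hφ' (fun x => by simp [P₁, J₂])
        (fun x => by simp [P₁, J₂]), _root_.mul_one]
  have hz₂ : TMap P₂ ≫ z = pt G φ' := by
    rw [hz, hid (P₂.comp J₂) (fun x => by simp [P₂, J₂]) (fun x => by simp [P₂, J₂]), TMap_id,
      Category.id_comp, htriv (P₂.comp J₁) φ hφ (fun x => by simp [P₂, J₁])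
        (fun x => by simp [P₂, J₁]), _root_.one_mul]
  have hzc : z.left (closedPoint (TrivSqZeroExt C (C × C))) = unitPt G := by
    rw [← left_closedPoint_of_pt G φ (isLocalHom_of_fst G φ hφ), ← hz₁]
    change _ = (Spec.map (CommRingCat.ofHom P₁.toRingHom) ≫ z.left) (closedPoint (TrivSqZeroExt C C))
    have : IsLocalHom (CommRingCat.ofHom P₁.toRingHom).hom := ⟨fun a ha =>
      TrivSqZeroExt.isUnit_iff_isUnit_fst.mpr (by
        have := TrivSqZeroExt.isUnit_iff_isUnit_fst.mp ha
        simpa [P₁] using this)⟩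
    exact ((Scheme.Hom.comp_apply _ _ _).trans
      (congrArg z.left (Spec_closedPoint (f := CommRingCat.ofHom P₁.toRingHom)))).symm
  obtain ⟨χ, hχ⟩ := exists_pt G z hzc
  have h1 : P₁.comp χ = φ := pt_injective G (by rw [← TMap_pt, hχ, hz₁])
  have h2 : P₂.comp χ = φ' := pt_injective G (by rw [← TMap_pt, hχ, hz₂])
  refine ⟨Ad.comp χ, ?_, AlgHom.ext fun a => ?_, fun a => ?_⟩
  · rw [← TMap_pt, hχ, hz, hid (Ad.comp J₁) (fun x => by simp [Ad, J₁]) (fun x => by simp [Ad, J₁]),
      hid (Ad.comp J₂) (fun x => by simp [Ad, J₂]) (fun x => by simp [Ad, J₂]), TMap_id,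
      Category.id_comp, Category.id_comp]
  · refine Eq.trans ?_ (AlgHom.congr_fun hφ a)
    simp [← h1, Ad, P₁]
  · rw [← h1, ← h2]
    simp [Ad, P₁, P₂]

theorem pt_pow (φ : stalkUnit G →ₐ[K] TrivSqZeroExt C C) (hφ : (fstHom K C C).comp φ = triv G C) (n : ℕ) :
    ∃ ψ, pt G φ ^ n = pt G ψ ∧ (fstHom K C C).comp ψ = triv G C ∧ ∀ a, (ψ a).snd = n • (φ a).snd := by
  induction n with
  | zero =>
    exact ⟨_, (pow_zero _).trans (pt_trivial G).symm, AlgHom.ext fun a => by
      simp [TrivSqZeroExt.algebraMap_eq_inl'], fun a => by simp [TrivSqZeroExt.algebraMap_eq_inl']⟩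
  | succ i hi =>
    obtain ⟨ψ, h, hf, hs⟩ := hi
    obtain ⟨ψ', h', hf', hs'⟩ := pt_mul G ψ φ hf hφ
    exact ⟨ψ', by rw [pow_succ, h, h'], hf', fun a => by rw [hs', hs, add_smul, one_smul]⟩

variable (p : ℕ) [CharP K p]

/-- Infinitesimal points with trivial reduction are killed by the characteristic. -/
theorem pow_char_eq_one (d : TSpec (K := K) (TrivSqZeroExt C C) ⟶ G)
    (hd : TMap (fstHom K C C) ≫ d = 1) : d ^ p = 1 := by
  have hc : d.left (closedPoint (TrivSqZeroExt C C)) = unitPt G := by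
    have h := congrArg (fun m : TSpec (K := K) C ⟶ G => m.left (closedPoint C)) hd
    have : IsLocalHom (CommRingCat.ofHom (fstHom K C C).toRingHom).hom := ⟨fun a ha =>
      TrivSqZeroExt.isUnit_iff_isUnit_fst.mpr ha⟩
    have h1 : (Spec.map (CommRingCat.ofHom (fstHom K C C).toRingHom)) (closedPoint C) =
        closedPoint (TrivSqZeroExt C C) := Spec_closedPoint (f := CommRingCat.ofHom (fstHom K C C).toRingHom)
    rw [← h1]
    refine Eq.trans ((Scheme.Hom.comp_apply _ _ _).symm.trans h) ?_
    rw [Hom.one_def]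
    exact (Scheme.Hom.comp_apply _ _ _).trans (congrArg η[G].left (Subsingleton.elim (α := PrimeSpectrum K) _ _))
  obtain ⟨φ, rfl⟩ := exists_pt G d hc
  rw [TMap_pt, ← pt_trivial] at hd
  obtain ⟨ψ, h, hf, hs⟩ := pt_pow G φ (pt_injective G hd) p
  rw [h, eq_triv G hf fun a => by
    rw [hs, nsmul_eq_mul, show ((p : ℕ) : C) = algebraMap K C p from (map_natCast _ p).symm,
      CharP.cast_eq_zero, map_zero, zero_mul], pt_trivial]

/-- The power map by the characteristic has zero differential. -/
theorem der_endo_eq [IsCommMonObj G] (hp : (𝟙 G ^ p).left (unitPt G) = unitPt G)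
    (χ : stalkUnit G →ₐ[K] C) (δ : C →ₐ[K] TrivSqZeroExt C C) (hδ : ∀ c, (δ c).fst = c) (a : stalkUnit G) :
    (δ (χ (endo G (𝟙 G ^ p) hp a))).snd = 0 := by
  let := Hom.commGroup (X := TSpec (K := K) (TrivSqZeroExt C C)) (G := G)
  let I : C →ₐ[K] TrivSqZeroExt C C := inlAlgHom K C C
  let t := pt G χ
  have h1 : TMap (fstHom K C C) ≫ ((TMap δ ≫ t) * (TMap I ≫ t)⁻¹) = 1 := by
    rw [MonObj.comp_mul, GrpObj.comp_inv, ← Category.assoc, ← Category.assoc, TMap_comp, TMap_comp,
      show (fstHom K C C).comp δ = AlgHom.id K C from AlgHom.ext hδ,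
      show (fstHom K C C).comp I = AlgHom.id K C from AlgHom.ext fun _ => rfl, mul_inv_cancel]
  have h2 := pow_char_eq_one G p _ h1
  rw [mul_pow, inv_pow, mul_inv_eq_one] at h2
  have e : ∀ D : C →ₐ[K] TrivSqZeroExt C C, (TMap D ≫ t) ^ p = pt G (D.comp (χ.comp (endo G (𝟙 G ^ p) hp))) := by
    intro D
    rw [← TMap_pt, ← pt_comp, MonObj.comp_pow, Category.comp_id, MonObj.comp_pow]
  rw [e, e] at h2
  have h3 := AlgHom.congr_fun (pt_injective G h2) a
  exact (congrArg TrivSqZeroExt.snd h3).trans (TrivSqZeroExt.snd_inl _ _)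

end Dual

section Trunc

variable (p : ℕ) [CharP K p] [Fact p.Prime] {g : ℕ}

instance : Fact (0 < p) := ⟨(Fact.out : p.Prime).pos⟩

/-- The power map by the characteristic sends truncated infinitesimal points to the unit. -/
theorem pt_pow_char_eq_one [IsCommMonObj G] (hp : (𝟙 G ^ p).left (unitPt G) = unitPt G)
    (χ : stalkUnit G →ₐ[K] Tr K g p) : pt G χ ^ p = 1 := by
  have h : pt G χ ^ p = pt G (χ.comp (endo G (𝟙 G ^ p) hp)) := by
    rw [← pt_comp, MonObj.comp_pow, Category.comp_id]
  rw [h, ← pt_trivial]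
  congr 1
  refine AlgHom.ext fun a => ?_
  obtain ⟨r, hr⟩ := mem_range_of_der (Fact.out : p.Prime) (c := χ (endo G (𝟙 G ^ p) hp a))
    fun i => der_endo_eq G p hp χ ((der i).restrictScalars K) (fst_der i) a
  have h1 : aug0.comp (χ.comp (endo G (𝟙 G ^ p) hp)) = aug G := eq_aug G _
  have h2 : aug0 (χ (endo G (𝟙 G ^ p) hp a)) = aug G a := AlgHom.congr_fun h1 a
  rw [← hr, AlgHom.commutes] at h2
  exact hr.symm.trans (congrArg (algebraMap K (Tr K g p)) h2)

lemma formallySmooth_stalkUnit [Smooth G.hom] : Algebra.FormallySmooth K (stalkUnit G) := by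
  let x := unitPt G
  let := (G.hom.stalkMap x).hom.toAlgebra
  let σ : K →+* (Spec (CommRingCat.of K)).presheaf.stalk (G.hom x) :=
    ((Scheme.ΓSpecIso (CommRingCat.of K)).inv ≫
      (Spec (CommRingCat.of K)).presheaf.germ ⊤ (G.hom x) trivial).hom
  let := σ.toAlgebra
  have : IsScalarTower K ((Spec (CommRingCat.of K)).presheaf.stalk (G.hom x)) (stalkUnit G) :=
    IsScalarTower.of_algebraMap_eq fun r => by
      have e : structHom G = CommRingCat.ofHom σ ≫ G.hom.stalkMap x := by
        apply Spec.map_injective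
        rw [structHom, Spec.map_preimage, Spec.map_comp,
          ← Scheme.SpecMap_stalkMap_fromSpecStalk G.hom]
        congr 1
        exact Spec.fromSpecStalk_eq ..
      exact congr($(e).hom r)
  have hσ : Function.Bijective σ := by
    refine ⟨RingHom.injective σ, ?_⟩
    intro s
    obtain ⟨U, hU, a, rfl⟩ := (Spec (CommRingCat.of K)).presheaf.exists_germ_eq (x := G.hom x) s
    have hUtop : U = ⊤ := eq_top_iff.mpr fun y _ => by
      rwa [Subsingleton.elim (α := PrimeSpectrum K) y (G.hom x)]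
    subst hUtop
    obtain ⟨r, hr⟩ := (ConcreteCategory.bijective_of_isIso (Scheme.ΓSpecIso (CommRingCat.of K)).inv).2 a
    exact ⟨r, congrArg ((Spec (CommRingCat.of K)).presheaf.germ ⊤ (G.hom x) trivial) hr⟩
  have := Omega.StalkSmooth.formallySmooth_stalkMap_of_smooth G.hom x
  have : Algebra.FormallySmooth K ((Spec (CommRingCat.of K)).presheaf.stalk (G.hom x)) :=
    Algebra.FormallySmooth.of_equiv (AlgEquiv.ofBijective (Algebra.ofId K _) hσ)
  exact Algebra.FormallySmooth.comp K ((Spec (CommRingCat.of K)).presheaf.stalk (G.hom x)) (stalkUnit G)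

lemma le_finrank_cotangent [LocallyOfFiniteType G.hom] (hg : topologicalKrullDim G.left = g) :
    g ≤ Module.finrank K (maximalIdeal (stalkUnit G)).Cotangent := by
  have : IsLocallyNoetherian G.left := LocallyOfFiniteType.isLocallyNoetherian G.hom
  have := IdComponent.isSeparated G
  have : IsClosedImmersion η[G].left := by
    have : IsClosedImmersion (η[G].left ≫ G.hom) := by
      rw [Over.w η[G]]
      exact inferInstanceAs (IsClosedImmersion (𝟙 _))
    exact IsClosedImmersion.of_comp η[G].left G.hom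
  have hcl : IsClosed ({unitPt G} : Set G.left) := by
    convert η[G].left.isClosedEmbedding.isClosedMap.isClosed_range
    refine Set.ext fun z => ⟨fun hz => ⟨closedPoint K, hz.symm⟩, ?_⟩
    rintro ⟨y, rfl⟩
    exact congrArg η[G].left (Subsingleton.elim (α := PrimeSpectrum K) _ _)
  have hdim : ringKrullDim (stalkUnit G) = (g : WithBot ℕ∞) := by
    rw [← hg, ← Dimension.coheight_eq_topologicalKrullDim G (unitPt G) hcl]
    exact ringKrullDim_stalk_eq_coheight (unitPt G)
  have h1 := ringKrullDim_le_spanFinrank_maximalIdeal (R := stalkUnit G)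
  rw [hdim, spanFinrank_maximalIdeal_eq_finrank_cotangentSpace] at h1
  have h2 : g ≤ Module.finrank (ResidueField (stalkUnit G)) (CotangentSpace (stalkUnit G)) := by
    exact_mod_cast h1
  have hb : Function.Bijective (Algebra.ofId K (ResidueField (stalkUnit G))) := by
    refine ⟨RingHom.injective _, fun y => ?_⟩
    obtain ⟨a, rfl⟩ := residue_surjective y
    exact ⟨aug G a, (sub_eq_zero.mp (by
      have := (residue_eq_zero_iff _).mpr (sub_aug_mem G a)
      rwa [map_sub] at this)).symm⟩
  have h3 : Module.finrank K (ResidueField (stalkUnit G)) = 1 :=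
    (AlgEquiv.ofBijective _ hb).toLinearEquiv.finrank_eq.symm.trans (Module.finrank_self K)
  have : IsScalarTower K (ResidueField (stalkUnit G)) (CotangentSpace (stalkUnit G)) :=
    IsScalarTower.of_algebraMap_smul fun r y => (algebraMap_smul (stalkUnit G) r y)
  have h4 := Module.finrank_mul_finrank K (ResidueField (stalkUnit G)) (CotangentSpace (stalkUnit G))
  rw [h3, _root_.one_mul] at h4
  exact h2.trans h4.le

/-- A smooth group scheme of dimension `g` receives the truncated polynomial ring at the unit. -/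
theorem exists_surjective [Smooth G.hom] (hg : topologicalKrullDim G.left = g) :
    ∃ ψ : stalkUnit G →ₐ[K] Tr K g p, Function.Surjective ψ := by
  have := formallySmooth_stalkUnit G
  have : Module.Finite K (Tr K g p) := TruncPoly.finite (Fact.out : 0 < p)
  let J : Ideal (Tr K g p) := RingHom.ker (aug0 (E := K) (g := g) (p := p))
  have hJn : IsNilpotent J := by
    have : IsNoetherianRing (Tr K g p) := IsNoetherianRing.of_finite K _
    exact (Ideal.FG.isNilpotent_iff_le_nilradical (IsNoetherian.noetherian J)).mpr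
      fun c hc => mem_nilradical.mpr (isNilpotent_of_aug0 hc)
  let m := maximalIdeal (stalkUnit G)
  let cur : stalkUnit G →ₗ[K] m :=
    (LinearMap.id - (Algebra.linearMap K (stalkUnit G)).comp (aug G).toLinearMap).codRestrict
      (m.restrictScalars K) (sub_aug_mem G)
  have hcur : ∀ a, (cur a : stalkUnit G) = a - algebraMap K (stalkUnit G) (aug G a) := fun a => rfl
  let ψ0 : stalkUnit G →ₗ[K] m.Cotangent := (m.toCotangent.restrictScalars K).comp cur
  have hψ1 : ψ0 1 = 0 := by
    have : cur 1 = 0 := Subtype.ext (by rw [hcur]; simp)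
    simp [ψ0, this]
  have hψm : ∀ a c, ψ0 (a * c) = aug G a • ψ0 c + aug G c • ψ0 a := by
    intro a c
    have e : cur (a * c) = algebraMap K (stalkUnit G) (aug G a) • cur c +
        algebraMap K (stalkUnit G) (aug G c) • cur a +
        (a - algebraMap K (stalkUnit G) (aug G a)) • cur c :=
      Subtype.ext (by simp [hcur, map_mul, Algebra.smul_def]; ring)
    have e0 : m.toCotangent ((a - algebraMap K (stalkUnit G) (aug G a)) • cur c) = 0 := by
      rw [Ideal.toCotangent_eq_zero, pow_two]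
      exact Ideal.mul_mem_mul (sub_aug_mem G a) (cur c).2
    show m.toCotangent (cur (a * c)) = aug G a • m.toCotangent (cur c) + aug G c • m.toCotangent (cur a)
    rw [e, map_add, map_add, e0, add_zero, map_smul, map_smul, algebraMap_smul, algebraMap_smul]
  have hψsurj : Function.Surjective ψ0 := by
    intro y
    obtain ⟨⟨b, hb⟩, rfl⟩ := m.toCotangent_surjective y
    refine ⟨b, ?_⟩
    show m.toCotangent (cur b) = _
    congr 1
    exact Subtype.ext (by rw [hcur, (mem_maximalIdeal_iff G b).mp hb]; simp)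
  -- a surjection of the cotangent space onto `K ^ g`
  obtain ⟨f, hf⟩ : ∃ f : Fin g → m.Cotangent, LinearIndependent K f :=
    exists_linearIndependent_of_le_finrank (le_finrank_cotangent G hg)
  let L0 : m.Cotangent →ₗ[K] (Fin g → K) :=
    (Finsupp.linearEquivFunOnFinite K K (Fin g)).toLinearMap ∘ₗ
      Classical.choose (hf.repr.exists_extend)
  have hL0 : ∀ i, L0 (f i) = Pi.single i 1 := by
    intro i
    have := Classical.choose_spec hf.repr.exists_extend
    have h2 := LinearMap.congr_fun this ⟨f i, Submodule.subset_span ⟨i, rfl⟩⟩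
    simp only [L0, LinearMap.coe_comp, Function.comp_apply, Submodule.coe_subtype] at h2 ⊢
    rw [h2, hf.repr_eq_single i ⟨f i, Submodule.subset_span ⟨i, rfl⟩⟩ rfl]
    simp
  let x : Fin g → Tr K g p := fun i => TruncPoly.mk (MvPolynomial.X i)
  have hxJ : ∀ i, x i ∈ J := fun i => by
    show aug0 (x i) = 0
    show MvPolynomial.aeval (fun _ => (0 : K)) (MvPolynomial.X i : MvPolynomial (Fin g) K) = 0
    simp
  let V : (Fin g → K) →ₗ[K] Tr K g p := Fintype.linearCombination K x
  have hVJ : ∀ v, V v ∈ J := fun v => by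
    rw [Fintype.linearCombination_apply]
    exact J.sum_mem fun i _ => Submodule.smul_of_tower_mem _ _ (hxJ i)
  let v : stalkUnit G →ₗ[K] Tr K g p ⧸ J ^ 2 :=
    (Ideal.Quotient.mkₐ K (J ^ 2)).toLinearMap ∘ₗ V ∘ₗ L0 ∘ₗ ψ0
  have hvv : ∀ a c, v a * v c = 0 := fun a c => by
    show Ideal.Quotient.mk _ _ * Ideal.Quotient.mk _ _ = 0
    rw [← map_mul, Ideal.Quotient.eq_zero_iff_mem, pow_two]
    exact Ideal.mul_mem_mul (hVJ _) (hVJ _)
  have hv1 : v 1 = 0 := by simp [v, hψ1]
  have hvm : ∀ a c, v (a * c) = aug G a • v c + aug G c • v a := fun a c => by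
    simp only [v, LinearMap.coe_comp, Function.comp_apply, hψm, map_add, map_smul]
  let θ : stalkUnit G →ₐ[K] Tr K g p ⧸ J ^ 2 :=
    { toFun := fun a => algebraMap K _ (aug G a) + v a
      map_one' := by simp [hv1]
      map_zero' := by simp
      map_add' := fun a c => by simp only [map_add]; abel
      map_mul' := fun a c => by
        rw [map_mul, map_mul, hvm, add_mul, mul_add, mul_add, hvv, add_zero, Algebra.smul_def,
          Algebra.smul_def]
        ring
      commutes' := fun r => by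
        have : v (algebraMap K _ r) = 0 := by
          rw [Algebra.algebraMap_eq_smul_one, map_smul, hv1, smul_zero]
        simp [this] }
  obtain ⟨ψ, hψ⟩ := Algebra.FormallySmooth.exists_lift (J ^ 2) (hJn.pow_of_pos two_ne_zero) θ
  refine ⟨ψ, ?_⟩
  have hx : ∀ i, ∃ a, ψ a ∈ J ∧ x i - ψ a ∈ J ^ 2 := by
    intro i
    obtain ⟨a, ha⟩ := hψsurj (f i)
    let a' := a - algebraMap K _ (aug G a)
    have ha' : ψ0 a' = f i := by
      rw [map_sub, ha, Algebra.algebraMap_eq_smul_one, map_smul, hψ1, smul_zero, sub_zero]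
    have h := AlgHom.congr_fun hψ a'
    have haug : aug G a' = 0 := by simp [a']
    have hmk : Ideal.Quotient.mk (J ^ 2) (ψ a') = Ideal.Quotient.mk (J ^ 2) (x i) := by
      refine h.trans ?_
      show algebraMap K _ (aug G a') + Ideal.Quotient.mk (J ^ 2) (V (L0 (ψ0 a'))) = _
      rw [haug, map_zero, zero_add, ha', hL0]
      simp [V, Fintype.linearCombination_apply, Pi.single_apply]
    have h2 := Ideal.Quotient.eq.mp hmk.symm
    refine ⟨a', ?_, h2⟩
    have := J.sub_mem (hxJ i) (Ideal.pow_le_self two_ne_zero h2)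
    simpa using this
  let S := ψ.range
  have hdec : ∀ c : Tr K g p, c - algebraMap K _ (aug0 c) ∈ J := fun c => by
    show aug0 (c - algebraMap K _ (aug0 c)) = 0
    simp
  have hJspan : J = Ideal.span (Set.range x) := by
    refine le_antisymm (fun c hc => ?_) (Ideal.span_le.mpr (Set.range_subset_iff.mpr hxJ))
    obtain ⟨q, rfl⟩ := TruncPoly.mk_surjective c
    have hq : q ∈ Ideal.span (MvPolynomial.X '' (Set.univ : Set (Fin g)) : Set (MvPolynomial (Fin g) K)) := by
      rw [MvPolynomial.mem_ideal_span_X_image]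
      intro e he
      by_contra hn
      have he0 : e = 0 := Finsupp.ext fun i => by
        by_contra hi
        exact hn ⟨i, trivial, hi⟩
      subst he0
      refine MvPolynomial.mem_support_iff.mp he ?_
      have : MvPolynomial.aeval (fun _ : Fin g => (0 : K)) q = 0 := hc
      simpa [MvPolynomial.aeval_zero', MvPolynomial.constantCoeff_eq] using this
    have := Ideal.mem_map_of_mem (TruncPoly.mk (p := p)).toRingHom hq
    rw [Ideal.map_span, Set.image_univ, ← Set.range_comp] at this
    exact this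
  have step1 : ∀ c ∈ J, ∃ s ∈ S, s ∈ J ∧ c - s ∈ J ^ 2 := by
    intro c hc
    have hc' : c ∈ Ideal.span (Set.range x) := hJspan.le hc
    clear hc
    induction hc' using Submodule.span_induction with
    | mem y hy =>
      obtain ⟨i, rfl⟩ := hy
      obtain ⟨a, h1, h2⟩ := hx i
      exact ⟨ψ a, ⟨a, rfl⟩, h1, h2⟩
    | zero => exact ⟨0, S.zero_mem, J.zero_mem, by simp⟩
    | add y z _ _ hy hz =>
      obtain ⟨s, h1, h2, h3⟩ := hy
      obtain ⟨s', h1', h2', h3'⟩ := hz
      exact ⟨s + s', S.add_mem h1 h1', J.add_mem h2 h2', by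
        rw [add_sub_add_comm]; exact Ideal.add_mem _ h3 h3'⟩
    | smul r y hy' hy =>
      obtain ⟨s, h1, h2, h3⟩ := hy
      refine ⟨algebraMap K _ (aug0 r) * s, S.mul_mem (S.algebraMap_mem _) h1, J.mul_mem_left _ h2, ?_⟩
      rw [show r • y - algebraMap K _ (aug0 r) * s =
        (r - algebraMap K _ (aug0 r)) * y + algebraMap K _ (aug0 r) * (y - s) by rw [smul_eq_mul]; ring]
      refine Ideal.add_mem _ ?_ (Ideal.mul_mem_left _ _ h3)
      rw [pow_two]
      exact Ideal.mul_mem_mul (hdec r) (hJspan.ge hy')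
  have step : ∀ k : ℕ, ∀ c ∈ J ^ (k + 1), ∃ s ∈ S, s ∈ J ^ (k + 1) ∧ c - s ∈ J ^ (k + 2) := by
    intro k
    induction k with
    | zero => simpa [Submodule.pow_one] using step1
    | succ k ih =>
      intro c hc
      rw [Submodule.pow_succ] at hc
      refine Submodule.mul_induction_on hc (fun a ha b hb => ?_) (fun y z hy hz => ?_)
      · obtain ⟨s, h1, h2, h3⟩ := ih a ha
        obtain ⟨s', h1', h2', h3'⟩ := step1 b hb
        refine ⟨s * s', S.mul_mem h1 h1', by rw [Submodule.pow_succ]; exact Ideal.mul_mem_mul h2 h2', ?_⟩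
        rw [show a * b - s * s' = (a - s) * b + s * (b - s') by ring]
        refine Ideal.add_mem _ ?_ ?_
        · rw [Submodule.pow_succ]; exact Ideal.mul_mem_mul h3 hb
        · rw [show k + 1 + 2 = (k + 1) + 2 from rfl, Submodule.pow_add _ (by norm_num : (2 : ℕ) ≠ 0)]; exact Ideal.mul_mem_mul h2 h3'
      · obtain ⟨s, h1, h2, h3⟩ := hy
        obtain ⟨s', h1', h2', h3'⟩ := hz
        exact ⟨s + s', S.add_mem h1 h1', Ideal.add_mem _ h2 h2', by
          rw [add_sub_add_comm]; exact Ideal.add_mem _ h3 h3'⟩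
  have all : ∀ k : ℕ, ∀ c, ∃ s ∈ S, c - s ∈ J ^ (k + 1) := by
    intro k
    induction k with
    | zero => exact fun c => ⟨algebraMap K _ (aug0 c), S.algebraMap_mem _, by simpa [Submodule.pow_one] using hdec c⟩
    | succ k ih =>
      intro c
      obtain ⟨s, h1, h2⟩ := ih c
      obtain ⟨s', h1', -, h3⟩ := step k _ h2
      exact ⟨s + s', S.add_mem h1 h1', by rwa [← sub_sub]⟩
  intro c
  obtain ⟨N, hN⟩ := hJn
  obtain ⟨s, hs, hcs⟩ := all N c
  have : J ^ (N + 1) = 0 := by rw [Submodule.pow_succ, hN, zero_mul]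
  rw [this, Ideal.zero_eq_bot, Ideal.mem_bot, sub_eq_zero] at hcs
  exact hcs ▸ hs

end Trunc

end Groth.Agent.GrpScheme.FrobKernel
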