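import Groth.Agent.AbVarLib.CubeCons
import Groth.Agent.PicLaw.Calc

/-!
# Pullback of line bundle classes along powers

From the cube relation, `[n]^* L = L^{n (n + 1) / 2} ⊗ ([-1]^* L)^{n (n - 1) / 2}`.
-/

set_option autoImplicit false
universe u

open CategoryTheory MonoidalCategory CartesianMonoidalCategory MonObj AlgebraicGeometry

noncomputable section

namespace Groth.Agent.GrpScheme.PowPullback

open scoped Groth.Agent.PicLaw
open PicLaw.Mumford (op)
open AbVarLib.CubeCons

variable {k : Type u} [Field k] {A V : Over (Spec (CommRingCat.of k))} [GrpObj A]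

theorem op_pow (H : CubeHyp A) (l : PicLoc.PicSet A.left) (x : V ⟶ A) (n : ℕ) :
    op (x ^ n) l = op x l ^ (n * (n + 1) / 2) * op x⁻¹ l ^ (n * (n - 1) / 2) := by
  suffices h : ∀ m, op (x ^ m) l = op x l ^ (m * (m + 1) / 2) * op x⁻¹ l ^ (m * (m - 1) / 2) ∧
      op (x ^ (m + 1)) l = op x l ^ ((m + 1) * (m + 2) / 2) * op x⁻¹ l ^ ((m + 1) * m / 2) from (h n).1
  intro m
  induction m with
  | zero => simp [op_one]
  | succ m ih =>
    refine ⟨ih.2, ?_⟩
    have h := cube_rel H l (x ^ (m + 1)) x x⁻¹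
    rw [mul_inv_cancel_right, mul_inv_cancel, op_one, _root_.mul_one, ← pow_succ,
      show x ^ (m + 1) * x⁻¹ = x ^ m by rw [pow_succ, mul_inv_cancel_right], ih.1, ih.2] at h
    obtain ⟨a, b, c, ha, hb, hc⟩ : ∃ a b c, m * (m - 1) / 2 = a ∧ (m + 1) * m / 2 = b ∧ (m + 2) * (m + 1) / 2 = c :=
      ⟨_, _, _, rfl, rfl, rfl⟩
    have hab : b = a + m := by
      subst ha hb
      rcases m with _ | j
      · rfl
      · rw [Nat.succ_sub_one, show (j + 1 + 1) * (j + 1) = (j + 1) * j + 2 * (j + 1) by ring,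
          Nat.add_mul_div_left _ _ (by norm_num : 0 < 2)]
    have hbc : c = b + (m + 1) := by
      subst hb hc
      rw [show (m + 2) * (m + 1) = (m + 1) * m + 2 * (m + 1) by ring,
        Nat.add_mul_div_left _ _ (by norm_num : 0 < 2)]
    rw [show (m + 1) * (m + 2) / 2 = c by rw [← hc, Nat.mul_comm],
      show m * (m + 1) / 2 = b by rw [← hb, Nat.mul_comm], ha, hb] at h
    rw [show (m + 1 + 1) * (m + 1 + 2) / 2 = c + (m + 2) by
        rw [← hc, show (m + 1 + 1) * (m + 1 + 2) = (m + 2) * (m + 1) + 2 * (m + 2) by ring,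
          Nat.add_mul_div_left _ _ (by norm_num : 0 < 2)],
      show (m + 1 + 1) * (m + 1) / 2 = c by rw [← hc]]
    generalize op x l = p at h
    generalize op x⁻¹ l = q at h
    generalize op (x ^ (m + 1 + 1)) l = z at h
    have key : z = p ^ c * q ^ b * (p ^ c * q ^ b) * p * q / (p ^ b * q ^ a) :=
      eq_div_of_mul_eq' h.symm
    rw [key, div_eq_iff_eq_mul, hbc, hab]
    simp only [pow_add, pow_succ, pow_zero, _root_.one_mul]
    ac_rfl

/-- The class of a tensor power. -/
theorem cls_tensorPow {X : Scheme.{u}} {L : X.Modules} (hL : PicF.IsInvertible L) :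
    ∀ n, ∃ h : PicF.IsInvertible (CohB1.tensorPow L n), PicGrp.cls (CohB1.tensorPow L n) h = PicGrp.cls L hL ^ n
  | 0 => ⟨PicLoc.isInvertible_structureModule X, by rw [pow_zero]; exact PicLaw.cls_one⟩
  | n + 1 => by
    obtain ⟨h, e⟩ := cls_tensorPow hL n
    refine ⟨PicLaw.isInvertible_tensor h hL, ?_⟩
    rw [pow_succ, ← e]
    exact PicLaw.cls_tensor h hL

end Groth.Agent.GrpScheme.PowPullback
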