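import Groth.Agent.IntProd70.Positive
import Groth.Agent.EulerChar.Push
import Groth.Agent.EulerChar.FiniteMap
import Groth.Agent.EulerChar.Rank
import Groth.Agent.FEtCat.Rank
import Groth.Agent.HilbPolyX.Basic
import Groth.Agent.PicLaw.Calc
import Groth.Agent.GrpScheme.PowPullback

/-!
# The degree of an endomorphism multiplying an ample class

If a finite flat endomorphism `f` of constant rank `r` of an integral proper scheme of dimension `g`
pulls an ample class back to its `N`-th power then `r = N ^ g`: compare the leading coefficients of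
the Snapper polynomials of `f_* O` and `O`.
-/

set_option autoImplicit false
set_option linter.style.haveILetI false

universe u

open CategoryTheory CategoryTheory.Limits AlgebraicGeometry Polynomial

noncomputable section

namespace Groth.Agent.GrpScheme.AVDegree

open ProjTwist Snapper IntProd70
open scoped Groth.Agent.PicLaw

/-- `m ↦ C(m + i - 1, i)` as a polynomial. -/
def binP (i : ℕ) : ℚ[X] := C ((i.factorial : ℚ)⁻¹) * ascPochhammer ℚ i

lemma binP_eval (i m : ℕ) : (binP i).eval (m : ℚ) = ((m + i - 1).choose i : ℚ) := by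
  rw [binP, eval_mul, eval_C, ← ascPochhammer_eval_cast, ascPochhammer_nat_eq_ascFactorial,
    Nat.ascFactorial_eq_factorial_mul_choose', Nat.cast_mul, ← mul_assoc,
    inv_mul_cancel₀ (by exact_mod_cast Nat.factorial_ne_zero i), _root_.one_mul]

lemma binP_natDegree_le (i : ℕ) : (binP i).natDegree ≤ i :=
  (natDegree_C_mul_le _ _).trans (ascPochhammer_natDegree (S := ℚ) i).le

lemma binP_coeff_self (i : ℕ) : (binP i).coeff i = (i.factorial : ℚ)⁻¹ := by
  have h := (monic_ascPochhammer ℚ i).coeff_natDegree
  rw [ascPochhammer_natDegree] at h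
  rw [binP, coeff_C_mul, h, _root_.mul_one]

/-- Comparison of leading coefficients. -/
lemma leading_eq (g N : ℕ) (a b : ℕ → ℤ)
    (h : ∀ m : ℕ, ∑ i ∈ Finset.range (g + 1), ((m + i - 1).choose i : ℤ) * a i =
      ∑ i ∈ Finset.range (g + 1), ((N * m + i - 1).choose i : ℤ) * b i) :
    a g = (N : ℤ) ^ g * b g := by
  let P : ℚ[X] := ∑ i ∈ Finset.range (g + 1), C (a i : ℚ) * binP i
  let Q : ℚ[X] := (∑ i ∈ Finset.range (g + 1), C (b i : ℚ) * binP i).comp (C (N : ℚ) * X)
  have hPQ : P = Q := HilbPolyX.poly_ext fun m => by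
    have := congrArg (fun z : ℤ => (z : ℚ)) (h m)
    simp only [Int.cast_sum, Int.cast_mul, Int.cast_natCast] at this
    simp only [P, Q, eval_comp, eval_mul, eval_C, eval_X, ← Nat.cast_mul, eval_finsetSum, binP_eval]
    simpa [mul_comm] using this
  have hc : ∀ c : ℕ → ℤ, (∑ i ∈ Finset.range (g + 1), C (c i : ℚ) * binP i).coeff g =
      (c g : ℚ) * (g.factorial : ℚ)⁻¹ := fun c => by
    rw [finsetSum_coeff, Finset.sum_eq_single g]
    · rw [coeff_C_mul, binP_coeff_self]
    · intro i hi hne
      rw [coeff_C_mul, coeff_eq_zero_of_natDegree_lt ((binP_natDegree_le i).trans_lt (by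
        have := Finset.mem_range.mp hi; omega)), mul_zero]
    · intro hg
      exact absurd (Finset.self_mem_range_succ g) hg
  have := congrArg (fun p : ℚ[X] => p.coeff g) hPQ
  simp only [P, Q, comp_C_mul_X_coeff, hc] at this
  have hf : ((g.factorial : ℚ))⁻¹ ≠ 0 := inv_ne_zero (by exact_mod_cast Nat.factorial_ne_zero g)
  have : (a g : ℚ) = (N : ℚ) ^ g * (b g : ℚ) := mul_right_cancel₀ hf (this.trans (by ring))
  exact_mod_cast this

variable {X : Scheme.{u}} (k : Type u) [Field k] [X.Over (Spec (CommRingCat.of k))]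
  [IsProper (X ↘ Spec (CommRingCat.of k))] [IsIntegral X]

include k in
/-- The top intersection number of a locally free module is its rank times that of the structure module. -/
lemma intE_ofRank {g : ℕ} (hg : topologicalKrullDim X = (g : WithBot ℕ∞)) {L : Fin g → X.Modules}
    (hL : ∀ i, PicF.IsInvertible (L i)) {G : X.Modules} {r : ℕ} (hG : FlatMod.IsFinLocFreeOfRank r G) :
    intE k L G = (r : ℤ) * intE k L (Cyc.closureStructureSheaf (genericPoint X)) := by
  have := EulerChar.isNoetherian k (X := X)
  have hξ : topologicalKrullDim ↥(closure ({genericPoint X} : Set X)) = (g : WithBot ℕ∞) := by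
    rw [genericPoint_closure, ← hg]
    exact IsHomeomorph.topologicalKrullDim_eq _ (Homeomorph.Set.univ X).isHomeomorph
  have hu : topologicalKrullDim ↥(Set.univ : Set X) ≤ (g : WithBot ℕ∞) := by
    rw [← hg]
    exact topologicalKrullDim_subspace_le X _
  have hs : ∀ ξ, ξ ∈ ({genericPoint X} : Finset X) ↔
      ξ ∈ (Set.univ : Set X) ∧ topologicalKrullDim ↥(closure ({ξ} : Set X)) = (g : WithBot ℕ∞) := fun ξ => by
    rw [Finset.mem_singleton]
    refine ⟨fun h => h ▸ ⟨trivial, hξ⟩, fun h => ?_⟩
    exact eq_of_top isClosed_univ hu h.2 trivial (genericPoint_specializes ξ)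
  rw [intE_components k hL isClosed_univ hu {genericPoint X} hs (VBLib.isCoh_of_ofRank hG)
    (Set.subset_univ _), Finset.sum_singleton]
  congr 1
  obtain ⟨e⟩ := EulerChar.stalk_ofRank hG (genericPoint X)
  have hfield : IsField (X.presheaf.stalk (genericPoint X)) := Field.toIsField X.functionField
  let _ := hfield.toField
  have : len G (genericPoint X) = (r : ℕ∞) := by
    rw [len, ← e.length_eq, Module.length_pi]
    simp
  rw [this, ENat.toNat_coe]

/-- A finite flat endomorphism multiplying an ample class by `N` has rank `N ^ dim`. -/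
theorem rank_eq_pow {g : ℕ} (hg : topologicalKrullDim X = (g : WithBot ℕ∞)) (f : X ⟶ X) [IsFinite f]
    [Flat f] [LocallyOfFinitePresentation f]
    (w : f ≫ (X ↘ Spec (CommRingCat.of k)) = X ↘ Spec (CommRingCat.of k))
    {r : ℕ} (hr : ∀ x, Scheme.Hom.finrank f x = r) {M : X.Modules} (hM : CohB1.IsAmple M) {N : ℕ}
    (hN : PicLaw.pl f (PicGrp.cls M hM.1) = PicGrp.cls M hM.1 ^ N) : r = N ^ g := by
  have := EulerChar.isNoetherian k (X := X)
  obtain ⟨M', hM', ⟨e⟩⟩ := PicLaw.exists_inverse hM.1
  let G := (Scheme.Modules.pushforward f).obj (Coh.structureModule X)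
  have hGr : FlatMod.IsFinLocFreeOfRank r G := FEtCat.Rank.isFinLocFreeOfRank_of_finrank f r hr
  have hG : Coh.IsCoh G := VBLib.isCoh_of_ofRank hGr
  have hOr := isFinLocFreeOfRank_one (PicLoc.isInvertible_structureModule X)
  have hO : Coh.IsCoh (Coh.structureModule X) := VBLib.isCoh_of_ofRank hOr
  haveI : (Coh.structureModule X).IsQuasicoherent := hO.1
  have hle : ∀ F : X.Modules, topologicalKrullDim ↥(CohB1.support F) ≤ (g : WithBot ℕ∞) := fun F =>
    EulerChar.dim_support_le hg.le
  have heq : ∀ m, Curv2.euler k X (CohB1.tensorMod (CohB1.tensorPow M m) G) =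
      Curv2.euler k X (CohB1.tensorMod (CohB1.tensorPow M (N * m)) (Coh.structureModule X)) := by
    intro m
    obtain ⟨hP, hPc⟩ := PowPullback.cls_tensorPow hM.1 m
    obtain ⟨hP', hP'c⟩ := PowPullback.cls_tensorPow hM.1 (N * m)
    have hPr := isFinLocFreeOfRank_one hP
    have hq := PicLoc.isInvertible_pullback f hP
    let θ : CohDev.tens (CohB1.tensorPow M m) G ≅
        (Scheme.Modules.pushforward f).obj ((Scheme.Modules.pullback f).obj (CohB1.tensorPow M m)) :=
      tensComm _ _ ≪≫
        (ProjForm.projNatIso f (VBLib.isFinLocFree_of_ofRank hPr)).app (Coh.structureModule X) ≪≫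
        (Scheme.Modules.pushforward f).mapIso (oneTens _)
    haveI : ((Scheme.Modules.pullback f).obj (CohB1.tensorPow M m)).IsQuasicoherent :=
      (VBLib.isCoh_of_ofRank (isFinLocFreeOfRank_one hq)).1
    obtain ⟨i⟩ := (PicLaw.iso_iff hq hP').mpr (by
      rw [PicLaw.cls_pullback f hP, hPc, hP'c, map_pow, hN, ← pow_mul])
    refine (EulerChar.euler_iso k θ).trans ?_
    refine (EulerChar.euler_push f w _ inferInstance).trans ?_
    exact EulerChar.euler_iso k (i ≪≫ (tensOne _).symm)
  have hkey := leading_eq g N (fun i => intE k (fun _ : Fin i => M') G)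
    (fun i => intE k (fun _ : Fin i => M') (Coh.structureModule X)) fun m => by
      rw [← euler_tensorPow_eq k hM.1 hM' e g m hG (hle _), ← euler_tensorPow_eq k hM.1 hM' e g (N * m) hO (hle _)]
      exact heq m
  simp only [intE_ofRank k hg (fun _ => hM') hGr, intE_ofRank k hg (fun _ => hM') hOr,
    Nat.cast_one, _root_.one_mul] at hkey
  have hsupp : CohB1.support (Coh.structureModule X) = Set.univ := Set.eq_univ_of_forall fun x h => by
    obtain ⟨ee⟩ := EulerChar.stalk_ofRank hOr x
    exact not_subsingleton (Fin 1 → X.presheaf.stalk x) (ee.toEquiv.subsingleton)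
  have hpos : 0 < intE k (fun _ : Fin g => M') (Coh.structureModule X) :=
    intE_pos k (L := fun _ : Fin g => M) (fun _ => hM) (fun _ => ⟨e⟩) hO (by
      rw [hsupp, ← hg]
      exact IsHomeomorph.topologicalKrullDim_eq _ (Homeomorph.Set.univ X).isHomeomorph)
  rw [intE_ofRank k hg (fun _ => hM') hOr, Nat.cast_one, _root_.one_mul] at hpos
  exact_mod_cast mul_right_cancel₀ hpos.ne' hkey

end Groth.Agent.GrpScheme.AVDegree
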