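import Groth.Agent.GrpScheme.DivSection
import Groth.Agent.GrpScheme.PowPullback
import Groth.Agent.GrpScheme.AffineHom
import Groth.Agent.GrpScheme.AVComm
import Groth.Agent.GrpScheme.Dimension
import Groth.Agent.Cube.Main
import Groth.Agent.Props.GenBox
import Groth.Agent.S1687
import Groth.Agent.CurveDVR.Stalk
import Groth.Agent.RegLoc.UFD
import Groth.Agent.RedSub.Basic
import Groth.Agent.AbVarLib.Basics
import Groth.Agent.AbVarLib.Isogeny

/-!
# Multiplication by `n` on an abelian variety is finite and surjective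

An integral closed subscheme of the kernel through the origin lies in an affine open: a symmetric
divisor avoiding the origin restricts to it with trivial multiple, so its section is a nowhere
vanishing function there.
-/

set_option autoImplicit false

universe u

open CategoryTheory MonoidalCategory CartesianMonoidalCategory MonObj GrpObj AlgebraicGeometry Limits
  TopologicalSpace Order

namespace Groth.Agent.GrpScheme.AVPow

open Groth.Agent.Props.GenLocus Groth.Agent.Props.GenTensor Groth.Agent.Props.GenProd
open scoped Groth.Agent.PicLaw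
open PicLaw.Mumford (op)

lemma genLocus_comp {X : Scheme.{u}} {L M : X.Modules} (s : Coh.structureModule X ⟶ L) (e : L ⟶ M)
    [IsIso e] : CohB1.genLocus M (s ≫ e) = CohB1.genLocus L s := by
  show sSup _ = sSup _
  congr 1
  refine Set.ext fun W => ?_
  simp only [Set.mem_ofPred_eq, Functor.map_comp, isIso_comp_right_iff]

lemma pow_eq_one_of_pairs {M : Type*} [CommGroup M] (p q : M) (a b : ℕ) (ha : 1 = p ^ a * q ^ b)
    (hb : 1 = q ^ a * p ^ b) : (p * q) ^ (a + b) = 1 := by
  have h := congrArg₂ (· * ·) ha hb
  simp only [_root_.one_mul] at h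
  rw [h, pow_add, mul_pow, mul_pow]
  ac_rfl

variable {K : Type u} [Field K] (A : Over (Spec (CommRingCat.of K))) [GrpObj A] [IsProper A.hom]
  [GeometricallyIntegral A.hom]

/-- An affine open at the origin is the nonvanishing locus of a section. -/
lemma exists_affine_section :
    ∃ (U : A.left.Opens) (L : A.left.Modules) (s : Coh.structureModule A.left ⟶ CohB1.tensorPow L 1),
      IsAffineOpen U ∧ η[A].left (IsLocalRing.closedPoint K) ∈ U ∧ PicF.IsInvertible L ∧
      CohB1.genLocus _ s = U := by
  have := AbVarLib.Basics.smooth A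
  have : IsIntegral A.left := GeometricallyIntegral.isIntegral_of_subsingleton A.hom
  have : CompactSpace A.left := QuasiCompact.compactSpace_of_compactSpace A.hom
  have : IsLocallyNoetherian A.left := LocallyOfFiniteType.isLocallyNoetherian A.hom
  have : IsNoetherian A.left := ⟨⟩
  have : A.left.IsSeparated := ⟨by
    rw [terminal.hom_ext (terminal.from A.left) (A.hom ≫ terminal.from _)]
    infer_instance⟩
  obtain ⟨U, hU, hxU, -⟩ := exists_isAffineOpen_mem_and_subset
    (x := η[A].left (IsLocalRing.closedPoint K)) (U := ⊤) trivial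
  obtain ⟨D, hD, hsupp⟩ := S1687.result A.left (fun V W hV hW => hV.inf hW) U hU
    (U.2.dense ⟨_, hxU⟩) (fun x _ => ⟨inferInstance,
      have := CurveDVR.isRegularLocalRing_stalk A.hom x
      RegLoc.UFD.uniqueFactorizationMonoid _⟩)
  obtain ⟨L, s, hL, hs⟩ := DivSection.exists_section D hD
  exact ⟨U, L, s, hU, hxU, hL, SetLike.coe_injective (by rw [hs, hsupp, compl_compl])⟩

/-- An integral proper scheme mapping to points killed by `n` near the origin is finite. -/
lemma isFinite_of_pow_eq_one {n : ℕ} (hn : 1 ≤ n) {Z : Over (Spec (CommRingCat.of K))}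
    [IsIntegral Z.left] [IsProper Z.hom] (z : Z ⟶ A) [IsClosedImmersion z.left] (hz : z ^ n = 1)
    (p : Z.left) (hp : z.left p = η[A].left (IsLocalRing.closedPoint K))
    (hp' : (z⁻¹ : Z ⟶ A).left p = η[A].left (IsLocalRing.closedPoint K)) : IsFinite Z.hom := by
  obtain ⟨U, L, s, hU, heU, hL, hs⟩ := exists_affine_section A
  obtain ⟨t, ht⟩ := exists_pow (k := 1) hL s (n * n) (n * n) (by rw [_root_.one_mul])
  have htU : CohB1.genLocus _ t = U := (genLocus_pow hL s (by positivity) t ht).trans hs
  let B := Props.GenBox.box z.left (z⁻¹ : Z ⟶ A).left L L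
  obtain ⟨r, hr⟩ := Props.GenBox.exists_box z.left (z⁻¹ : Z ⟶ A).left hL hL t t
  rw [htU] at hr
  have hB : PicF.IsInvertible B := Props.GenBox.isInvertible_box _ _ hL hL
  obtain ⟨hBn, hcls⟩ := PowPullback.cls_tensorPow hB (n * n)
  have h1 : PicGrp.cls (CohB1.tensorPow B (n * n)) hBn = 1 := by
    obtain ⟨hpos, hneg⟩ : n * (n + 1) / 2 + n * (n - 1) / 2 = n * n ∧ True := by
      refine ⟨?_, trivial⟩
      obtain ⟨m, rfl⟩ := Nat.exists_eq_add_of_le hn
      rw [Nat.add_sub_cancel_left, show (1 + m) * (1 + m + 1) = (1 + m) * m + 2 * (1 + m) by ring,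
        Nat.add_mul_div_left _ _ (by norm_num : 0 < 2)]
      have h2 : 2 ∣ (1 + m) * m := by
        rw [Nat.mul_comm, Nat.add_comm]; exact (Nat.even_mul_succ_self m).two_dvd
      obtain ⟨c, hc⟩ := h2
      rw [hc, Nat.mul_div_cancel_left _ (by norm_num : 0 < 2)]
      nlinarith
    have ha := PowPullback.op_pow (Cube.cubeHyp A) (PicGrp.cls L hL) z n
    have hb := PowPullback.op_pow (Cube.cubeHyp A) (PicGrp.cls L hL) z⁻¹ n
    rw [hz, AbVarLib.CubeCons.op_one] at ha
    rw [inv_pow, hz, inv_one, AbVarLib.CubeCons.op_one, _root_.inv_inv] at hb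
    have e : PicGrp.cls B hB = op z (PicGrp.cls L hL) * op z⁻¹ (PicGrp.cls L hL) := by
      refine (PicLaw.cls_tensor (PicLoc.isInvertible_pullback _ hL) (PicLoc.isInvertible_pullback _ hL)).trans ?_
      rw [PicLaw.cls_pullback, PicLaw.cls_pullback]
    rw [hcls, e, ← hpos]
    exact pow_eq_one_of_pairs _ _ _ _ ha hb
  obtain ⟨ψ⟩ := (PicGrp.cls_eq_one_iff hBn).mp h1
  have hW : CohB1.genLocus _ (r ≫ ψ.hom) = z.left ⁻¹ᵁ U ⊓ (z⁻¹ : Z ⟶ A).left ⁻¹ᵁ U :=
    (genLocus_comp r ψ.hom).trans hr
  obtain ⟨f, hf, -⟩ := (isGen_one (X := Z.left) ⊤).exists_eq le_rfl (sec (r ≫ ψ.hom) ⊤)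
  rw [Groth.Agent.QCoh.res_self] at hf
  have hbo := genLocus_inf (isGen_one (X := Z.left) ⊤) (r ≫ ψ.hom) hf
  rw [inf_top_eq, hW] at hbo
  have hpb : p ∈ Z.left.basicOpen f := by
    rw [← hbo]
    exact ⟨show z.left p ∈ U by rw [hp]; exact heU, show (z⁻¹ : Z ⟶ A).left p ∈ U by rw [hp']; exact heU⟩
  have hu : IsUnit f := by
    obtain ⟨g, hg⟩ := (isField_of_universallyClosed K Z.hom).mul_inv_cancel (a := f) fun h0 => by
      rw [h0, Scheme.basicOpen_zero] at hpb
      exact hpb
    exact IsUnit.of_mul_eq_one g hg
  rw [Scheme.basicOpen_of_isUnit _ hu] at hbo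
  have hle : z.left ⁻¹ᵁ U = ⊤ := top_le_iff.mp (hbo ▸ inf_le_left)
  have : IsAffineOpen (z.left ⁻¹ᵁ U) := hU.preimage z.left
  rw [hle] at this
  have : IsAffine (⊤ : Z.left.Opens).toScheme := this
  have : IsAffine Z.left := IsAffine.of_isIso Z.left.topIso.inv
  have : IsAffineHom Z.hom := inferInstance
  exact IsFinite.iff_isProper_and_isAffineHom.mpr ⟨inferInstance, inferInstance⟩

/-- `[n]` is finite and surjective. -/
theorem isFinite_surjective_pow {n : ℕ} (hn : 1 ≤ n) :
    IsFinite (𝟙 A ^ n).left ∧ Surjective (𝟙 A ^ n).left := by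
  have := AVComm.isCommMonObj A
  have : IsIntegral A.left := GeometricallyIntegral.isIntegral_of_subsingleton A.hom
  let f : A ⟶ A := 𝟙 A ^ n
  have : IsMonHom f :=
    { one_hom := by rw [show f = 𝟙 A ^ n from rfl, MonObj.comp_pow, Category.comp_id, MonObj.one_eq_one, one_pow]
      mul_hom := by
        rw [show f = 𝟙 A ^ n from rfl, MonObj.comp_pow, Category.comp_id, MonObj.mul_eq_mul, MonObj.comp_mul,
          tensorHom_fst, tensorHom_snd, MonObj.comp_pow, MonObj.comp_pow, Category.comp_id, Category.comp_id,
          mul_pow] }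
  obtain ⟨N, _, i, _, hker⟩ := AffineHom.exists_kernel f
  have hsq := GrpdLib.GrpOver.isPullback_left hker
  have : IsClosedImmersion η[A].left := by
    have : IsClosedImmersion (η[A].left ≫ A.hom) := by
      rw [Over.w η[A]]
      exact inferInstanceAs (IsClosedImmersion (𝟙 _))
    exact IsClosedImmersion.of_comp η[A].left A.hom
  have : IsClosedImmersion i.left := MorphismProperty.of_isPullback (P := @IsClosedImmersion) hsq.flip inferInstance
  have : IsProper N.hom := by rw [← Over.w i]; infer_instance
  have hin : i ^ n = 1 := by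
    rw [show i ^ n = i ≫ f by rw [MonObj.comp_pow, Category.comp_id], hker.w, Hom.one_def]
  let e := η[N].left (IsLocalRing.closedPoint K)
  have hie : i.left e = η[A].left (IsLocalRing.closedPoint K) := by
    show (η[N] ≫ i).left _ = _
    rw [IsMonHom.one_hom]
  have hie' : (i⁻¹ : N ⟶ A).left e = η[A].left (IsLocalRing.closedPoint K) := by
    show (η[N] ≫ i⁻¹).left _ = _
    rw [GrpObj.comp_inv, IsMonHom.one_hom, MonObj.one_eq_one, inv_one]
  have hcl : IsClosed ({e} : Set N.left) := by
    have : IsClosedImmersion η[N].left := by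
      have : IsClosedImmersion (η[N].left ≫ N.hom) := by
        rw [Over.w η[N]]
        exact inferInstanceAs (IsClosedImmersion (𝟙 _))
      exact IsClosedImmersion.of_comp η[N].left N.hom
    have h := η[N].left.isClosedEmbedding.isClosedMap.isClosed_range
    rwa [show Set.range η[N].left = {e} from Set.ext fun x => ⟨fun ⟨y, hy⟩ => by
      rw [← hy, Subsingleton.elim (α := PrimeSpectrum K) y (IsLocalRing.closedPoint K)]; rfl,
      fun hx => ⟨_, hx.symm⟩⟩] at h
  -- nothing specializes to the origin
  have hmax : ∀ w : N.left, w ⤳ e → w = e := by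
    intro w hw
    let C : Closeds N.left := ⟨closure {w}, isClosed_closure⟩
    let Z := Component.redSub N C
    let z : Z ⟶ N := Over.homMk (Scheme.IdealSheafData.vanishingIdeal C).subschemeι rfl
    have : IsClosedImmersion z.left :=
      inferInstanceAs (IsClosedImmersion (Scheme.IdealSheafData.vanishingIdeal C).subschemeι)
    have hrange : Set.range z.left = closure {w} :=
      (Scheme.IdealSheafData.range_subschemeι _).trans (Scheme.IdealSheafData.coe_support_vanishingIdeal _)
    have : IrreducibleSpace Z.left := by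
      rw [z.left.isClosedEmbedding.isEmbedding.toHomeomorph.irreducibleSpace_iff,
        ← isIrreducible_iff_irreducibleSpace, hrange]
      exact isIrreducible_singleton.closure
    have : IsReduced Z.left := RedSub.isReduced_vanishingIdeal _
    have : IsIntegral Z.left := isIntegral_of_irreducibleSpace_of_isReduced _
    have : IsProper Z.hom := by rw [← Over.w z]; infer_instance
    obtain ⟨p, hp⟩ : e ∈ Set.range z.left := hrange ▸ specializes_iff_mem_closure.mp hw
    obtain ⟨q, hq⟩ : w ∈ Set.range z.left := hrange ▸ subset_closure rfl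
    have : IsClosedImmersion (z ≫ i).left := inferInstanceAs (IsClosedImmersion (z.left ≫ i.left))
    have hfin := isFinite_of_pow_eq_one A hn (z ≫ i) (by
        rw [show (z ≫ i) ^ n = z ≫ i ^ n from (MonObj.comp_pow _ _ _).symm, hin, MonObj.comp_one])
      p (by show i.left (z.left p) = _; rw [hp, hie])
      (by rw [← GrpObj.comp_inv]; show (i⁻¹ : N ⟶ A).left (z.left p) = _; rw [hp, hie'])
    have hqp : q = p := Dimension.eq_of_specializes_of_apply_eq Z.hom
      (z.left.isClosedEmbedding.isInducing.specializes_iff.mp (by rw [hq, hp]; exact hw))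
      (Subsingleton.elim (α := PrimeSpectrum K) _ _)
    rw [← hq, hqp, hp]
  have : CompactSpace N.left := QuasiCompact.compactSpace_of_compactSpace N.hom
  have : IsLocallyNoetherian N.left := LocallyOfFiniteType.isLocallyNoetherian N.hom
  have : IsNoetherian N.left := ⟨⟩
  have := LocallyOfFiniteType.jacobsonSpace N.hom
  have hdim : topologicalKrullDim N.left = 0 := by
    rw [← Dimension.coheight_eq_topologicalKrullDim N e hcl]
    have : IsMax (α := N.left) e := fun w hw => (hmax w hw).le
    rw [coheight_eq_zero.mpr this]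
    rfl
  have : T1Space N.left := ⟨fun x => by
    by_contra hx
    obtain ⟨x₀, hx₀, hx₀c⟩ := nonempty_inter_closedPoints (Z := closure {x}) ⟨x, subset_closure rfl⟩
      isClosed_closure.isLocallyClosed
    have hne : x₀ < x := lt_iff_le_not_ge.mpr ⟨specializes_iff_mem_closure.mpr hx₀, fun h => hx (by
      rwa [← ((specializes_iff_mem_closure.mpr hx₀).antisymm (show x₀ ⤳ x from h)).eq] at hx₀c)⟩
    have h := coheight_add_one_le hne
    have h2 : (coheight x₀ : WithBot ℕ∞) = 0 := (Dimension.coheight_eq_topologicalKrullDim N x₀ hx₀c).trans hdim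
    rw [show coheight x₀ = 0 from by exact_mod_cast h2] at h
    simp at h⟩
  have hNfin : Finite N.left := by
    obtain ⟨S, hSf, hSc, hSi, hS⟩ :=
      TopologicalSpace.NoetherianSpace.exists_finite_set_isClosed_irreducible (isClosed_univ (X := N.left))
    refine Set.finite_univ_iff.mp ?_
    rw [hS]
    refine hSf.sUnion fun Z hZ => ?_
    obtain ⟨g, hg⟩ := QuasiSober.sober (hSi Z hZ) (hSc Z hZ)
    rw [← hg.def, isClosed_singleton.closure_eq]
    exact Set.finite_singleton g
  have : IsFinite N.hom := by
    have : LocallyQuasiFinite N.hom := LocallyQuasiFinite.of_finite_preimage_singleton _ fun _ => Set.toFinite _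
    exact IsFinite.of_isProper_of_locallyQuasiFinite N.hom
  have : IsProper f.left := by
    have : IsProper (f.left ≫ A.hom) := by rw [Over.w f]; infer_instance
    exact IsProper.of_comp f.left A.hom
  have hP : IsFinite (pullback.fst f.left f.left) := by
    have h1 : IsFinite (fst A N).left := inferInstanceAs (IsFinite (pullback.fst A.hom N.hom))
    have h2 := GrpdLib.GrpOver.isPullback_left (KernelPair.isPullback hker)
    rw [← h2.isoPullback_inv_fst]
    infer_instance
  have hff : IsFinite f.left := by
    have : LocallyQuasiFinite f.left := LocallyQuasiFinite.of_finite_preimage_singleton _ fun y => by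
      rcases (f.left ⁻¹' {y}).eq_empty_or_nonempty with h | ⟨x, hx⟩
      · rw [h]; exact Set.finite_empty
      · refine ((IsFinite.finite_preimage_singleton (pullback.fst f.left f.left) x).image
          (pullback.snd f.left f.left)).subset fun x' hx' => ?_
        obtain ⟨w, hw1, hw2⟩ := Scheme.Pullback.exists_preimage_pullback x x' (hx.trans hx'.symm)
        exact ⟨w, hw1, hw2⟩
    exact IsFinite.of_isProper_of_locallyQuasiFinite f.left
  exact ⟨hff, AbVarLib.Isogeny.surjective_of_isFinite f rfl⟩

end Groth.Agent.GrpScheme.AVPow
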