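import Mathlib.AlgebraicGeometry.AffineSpace
import Mathlib.AlgebraicGeometry.Sites.Fpqc

/-!
# Global functions descend along faithfully flat quasi-compact morphisms

Global functions on `Y` inject into those on a faithfully flat quasi-compact cover `X`, with image
the functions having equal pullbacks to the kernel pair.
-/

set_option autoImplicit false

universe u

open CategoryTheory Limits AlgebraicGeometry

namespace Groth.Agent.GrpScheme.GlobalSections

variable {X Y : Scheme.{u}} (f : X ⟶ Y)

/-- A function as a morphism to the affine line. -/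
noncomputable def toLine {W : Scheme.{u}} (g : W ⟶ Y) (s : Γ(W, ⊤)) :
    W ⟶ 𝔸(PUnit.{u + 1}; Y) :=
  AffineSpace.homOfVector g fun _ => s

lemma comp_toLine {W W' : Scheme.{u}} (k : W ⟶ W') (g : W' ⟶ Y) (s : Γ(W', ⊤)) :
    k ≫ toLine g s = toLine (k ≫ g) (k.appTop s) := by
  simp only [toLine, AffineSpace.comp_homOfVector]
  rfl

lemma toLine_injective {W : Scheme.{u}} (g : W ⟶ Y) {s t : Γ(W, ⊤)}
    (h : toLine g s = toLine g t) : s = t := by
  have := congrArg (fun m : W ⟶ 𝔸(PUnit.{u + 1}; Y) => m.appTop (AffineSpace.coord Y PUnit.unit)) h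
  exact (AffineSpace.homOfVector_appTop_coord _ _ _).symm.trans
    (this.trans (AffineSpace.homOfVector_appTop_coord _ _ _))

/-- Pull back of functions along a faithfully flat quasi-compact morphism is injective. -/
theorem appTop_injective [Surjective f] [Flat f] [QuasiCompact f] :
    Function.Injective f.appTop := by
  intro s t h
  refine toLine_injective (𝟙 Y) ((cancel_epi f).1 ?_)
  rw [comp_toLine, comp_toLine, h]

/-- A function with equal pullbacks to the kernel pair descends. -/
theorem exists_of_eq [Surjective f] [Flat f] [QuasiCompact f] {R : Scheme.{u}} {p₁ p₂ : R ⟶ X}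
    (hR : IsPullback p₁ p₂ f f) (s : Γ(X, ⊤)) (h : p₁.appTop s = p₂.appTop s) :
    ∃ t : Γ(Y, ⊤), f.appTop t = s := by
  have hd : ∀ {W : Scheme.{u}} (g₁ g₂ : W ⟶ X), g₁ ≫ f = g₂ ≫ f →
      g₁ ≫ toLine f s = g₂ ≫ toLine f s := by
    intro W g₁ g₂ e
    have h0 : p₁ ≫ toLine f s = p₂ ≫ toLine f s := by
      rw [comp_toLine, comp_toLine, hR.w, h]
    rw [← hR.lift_fst g₁ g₂ e, Category.assoc, h0, ← Category.assoc, hR.lift_snd]
  let m : Y ⟶ 𝔸(PUnit.{u + 1}; Y) := EffectiveEpi.desc f (toLine f s) hd
  have hm : f ≫ m = toLine f s := EffectiveEpi.fac f _ _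
  refine ⟨m.appTop (AffineSpace.coord Y PUnit.unit), ?_⟩
  have := congrArg (fun q : X ⟶ 𝔸(PUnit.{u + 1}; Y) => q.appTop (AffineSpace.coord Y PUnit.unit)) hm
  simp only [Scheme.Hom.comp_appTop, CommRingCat.comp_apply] at this
  exact this.trans (AffineSpace.homOfVector_appTop_coord _ _ _)

end Groth.Agent.GrpScheme.GlobalSections
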