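import Mathlib

/-!
# Reduced schemes with dense rational points are geometrically reduced
-/

set_option autoImplicit false

universe u

open CategoryTheory AlgebraicGeometry Limits
open scoped TensorProduct

namespace Groth.Agent.GrpScheme.RatDense

variable {k : Type u} [Field k]

/-- An algebra whose rational points separate elements stays reduced after tensoring with a
reduced algebra. -/
lemma isReduced_tensor (A B : Type u) [CommRing A] [CommRing B] [Algebra k A] [Algebra k B]
    [IsReduced A] (hB : ∀ b : B, b ≠ 0 → ∃ s : B →ₐ[k] k, s b ≠ 0) : IsReduced (A ⊗[k] B) := by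
  classical
  refine ⟨fun x hx => ?_⟩
  let b := Module.Free.chooseBasis k A
  obtain ⟨c, rfl⟩ := (TensorProduct.equivFinsuppOfBasisLeft b (N := B)).symm.surjective x
  suffices c = 0 by rw [this, map_zero]
  ext i
  by_contra hne
  obtain ⟨s, hs⟩ := hB (c i) hne
  let Φ : A ⊗[k] B →ₐ[k] A :=
    Algebra.TensorProduct.lift (AlgHom.id k A) ((Algebra.ofId k A).comp s) (fun _ _ => .all _ _)
  have h0 : Φ ((TensorProduct.equivFinsuppOfBasisLeft b (N := B)).symm c) = 0 :=
    IsReduced.eq_zero _ (hx.map Φ)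
  rw [TensorProduct.equivFinsuppOfBasisLeft_symm_apply, map_finsuppSum] at h0
  have h1 : (c.mapRange s (map_zero s)).linearCombination k b = 0 := by
    rw [Finsupp.linearCombination_apply, Finsupp.sum_mapRange_index (by simp)]
    refine Eq.trans ?_ h0
    refine Finsupp.sum_congr fun j _ => ?_
    simp [Φ, Algebra.smul_def, mul_comm, Algebra.ofId_apply]
  have h2 := DFunLike.congr_fun (linearIndependent_iff.mp b.linearIndependent _ h1) i
  rw [Finsupp.mapRange_apply] at h2
  exact hs h2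

/-- Rational points of `X`. -/
def ratPoints {X : Scheme.{u}} (f : X ⟶ Spec (CommRingCat.of k)) : Set X :=
  {p | ∃ x : Spec (CommRingCat.of k) ⟶ X, x ≫ f = 𝟙 _ ∧ x (IsLocalRing.closedPoint k) = p}

variable {X : Scheme.{u}} (f : X ⟶ Spec (CommRingCat.of k))

/-- The rational points of an affine chart separate functions. -/
lemma separates [IsReduced X] (hd : Dense (ratPoints f)) {B : CommRingCat.{u}}
    (j : Spec B ⟶ X) [IsOpenImmersion j] (φ : CommRingCat.of k ⟶ B) (hφ : j ≫ f = Spec.map φ)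
    (b : B) (hb : b ≠ 0) :
    letI := φ.hom.toAlgebra
    ∃ s : B →ₐ[k] k, s b ≠ 0 := by
  let := φ.hom.toAlgebra
  have : IsReduced (Spec B) := isReduced_of_isOpenImmersion j
  have hB : _root_.IsReduced B := (affine_isReduced_iff B).mp this
  have hne : (PrimeSpectrum.basicOpen b : Set (PrimeSpectrum B)).Nonempty := by
    rw [Set.nonempty_iff_ne_empty]
    intro h
    refine hb (IsReduced.eq_zero b ?_)
    rwa [← PrimeSpectrum.basicOpen_eq_bot_iff, ← SetLike.coe_set_eq]
  obtain ⟨_, ⟨p, hp, rfl⟩, x, hx, hxp⟩ := hd.inter_open_nonempty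
    (j '' (PrimeSpectrum.basicOpen b : Set (PrimeSpectrum B)))
    (j.isOpenEmbedding.isOpenMap _ (PrimeSpectrum.basicOpen b).2) (hne.image _)
  have hr : Set.range x ⊆ Set.range j := by
    rintro _ ⟨t, rfl⟩
    rw [Subsingleton.elim (α := Spec (CommRingCat.of k)) t (IsLocalRing.closedPoint k)]
    exact ⟨p, hxp.symm⟩
  let y := IsOpenImmersion.lift j x hr
  have hy : y ≫ j = x := IsOpenImmersion.lift_fac j x hr
  let χ := Spec.preimage y
  have hχ : φ ≫ χ = 𝟙 _ := by
    refine Spec.map_injective ?_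
    rw [Spec.map_comp, Spec.map_preimage, ← hφ, reassoc_of% hy, hx, Spec.map_id]
  refine ⟨{ χ.hom with commutes' := fun c => congr(($hχ).hom c) }, fun h0 => hp ?_⟩
  have hyp : y (IsLocalRing.closedPoint k) = p := j.isOpenEmbedding.injective
    ((Scheme.Hom.comp_apply _ _ _).symm.trans ((congr(($hy) (IsLocalRing.closedPoint k))).trans hxp))
  rw [← hyp, ← Spec.map_preimage y]
  show χ.hom b ∈ IsLocalRing.maximalIdeal k
  rw [show χ.hom b = 0 from h0]
  exact zero_mem _

/-- Products with reduced schemes are reduced. -/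
theorem isReduced_pullback [IsReduced X] (hd : Dense (ratPoints f)) {Y : Scheme.{u}} [IsReduced Y]
    (g : Y ⟶ Spec (CommRingCat.of k)) : IsReduced (pullback f g) := by
  apply +allowSynthFailures @IsReduced.of_openCover
    (𝒰 := Scheme.Pullback.openCoverOfLeftRight X.affineCover Y.affineCover f g)
  rintro ⟨i, j⟩
  show IsReduced (pullback (X.affineCover.f i ≫ f) (Y.affineCover.f j ≫ g))
  obtain ⟨B, j₁, hj₁, e₁⟩ : ∃ (B : CommRingCat.{u}) (j₁ : Spec B ⟶ X) (_ : IsOpenImmersion j₁),
      Nonempty (pullback (X.affineCover.f i ≫ f) (Y.affineCover.f j ≫ g) ≅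
        pullback (j₁ ≫ f) (Y.affineCover.f j ≫ g)) :=
    ⟨_, X.affineCover.f i, X.affineCover.map_prop i, ⟨Iso.refl _⟩⟩
  obtain ⟨A, j₂, hj₂, e₂⟩ : ∃ (A : CommRingCat.{u}) (j₂ : Spec A ⟶ Y) (_ : IsOpenImmersion j₂),
      Nonempty (pullback (j₁ ≫ f) (Y.affineCover.f j ≫ g) ≅ pullback (j₁ ≫ f) (j₂ ≫ g)) :=
    ⟨_, Y.affineCover.f j, Y.affineCover.map_prop j, ⟨Iso.refl _⟩⟩
  obtain ⟨e₁⟩ := e₁
  obtain ⟨e₂⟩ := e₂
  let φ := Spec.preimage (j₁ ≫ f)
  let ψ := Spec.preimage (j₂ ≫ g)
  have hφ : Spec.map φ = j₁ ≫ f := Spec.map_preimage (j₁ ≫ f)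
  have hψ : Spec.map ψ = j₂ ≫ g := Spec.map_preimage (j₂ ≫ g)
  letI : Algebra k B := φ.hom.toAlgebra
  letI : Algebra k A := ψ.hom.toAlgebra
  have : IsReduced (Spec A) := isReduced_of_isOpenImmersion j₂
  have : _root_.IsReduced A := (affine_isReduced_iff A).mp this
  have hred : _root_.IsReduced (B ⊗[k] A) := by
    have := isReduced_tensor (k := k) A B (separates f hd j₁ φ hφ.symm)
    exact isReduced_of_injective (Algebra.TensorProduct.comm k B A).toRingEquiv.toRingHom
      (Algebra.TensorProduct.comm k B A).injective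
  let e₃ : pullback (j₁ ≫ f) (j₂ ≫ g) ≅ Spec (CommRingCat.of (B ⊗[k] A)) :=
    pullback.congrHom hφ.symm hψ.symm ≪≫ pullbackSpecIso k B A
  have : IsReduced (Spec (CommRingCat.of (B ⊗[k] A))) := inferInstance
  exact isReduced_of_isOpenImmersion (e₁ ≪≫ e₂ ≪≫ e₃).hom

end Groth.Agent.GrpScheme.RatDense
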