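import Groth.Agent.GrpScheme.IdSubgroup
import Groth.Agent.GrpScheme.Dimension
import Groth.Agent.GrpScheme.Smooth
import Groth.Agent.GrpScheme.SubgroupObj
import Groth.Agent.GrpAff.Reduced
import Mathlib.FieldTheory.Perfect

/-!
# The reduced identity component over an algebraically closed field
-/

set_option autoImplicit false
set_option linter.style.haveILetI false
set_option backward.isDefEq.respectTransparency false

universe u

open CategoryTheory MonoidalCategory CartesianMonoidalCategory MonObj GrpObj AlgebraicGeometry Limits Order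
open Groth.Agent.GrpScheme.IdComponent (e₀ zObj zι)

noncomputable section

namespace Groth.Agent.GrpScheme.RedIdComponent

variable {k : Type u} [Field k]

local notation "Sk" => Spec (CommRingCat.of k)

instance isReduced_zObj (P : Over Sk) [GrpObj P] : IsReduced (zObj P).left :=
  inferInstanceAs (IsReduced (Scheme.IdealSheafData.vanishingIdeal (IdComponent.Zset P)).subscheme)

lemma exists_lift {P : Over Sk} [GrpObj P] {T : Over Sk} [IsReduced T.left] (f : T ⟶ P)
    (h : Set.range f.left ⊆ connectedComponent (e₀ P)) : ∃ g : T ⟶ zObj P, g ≫ zι P = f := by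
  obtain ⟨g, hg⟩ := RedSub.exists_lift_closed (zι P).left f.left
    (by rwa [IdComponent.range_zι, ← IdComponent.connectedComponent_eq])
  exact ⟨Over.homMk g (by rw [← Over.w (zι P), reassoc_of% hg, Over.w]), Over.OverMorphism.ext hg⟩

/-- The reduced identity component is a smooth connected subgroup of full dimension, with the component of the unit as
its underlying set. -/
theorem exists_reduced_idComponent_range [IsAlgClosed k] (P : Over Sk) [GrpObj P] [LocallyOfFiniteType P.hom]
    [QuasiCompact P.hom] :
    ∃ (R : Over Sk) (_ : GrpObj R) (r : R ⟶ P), IsMonHom r ∧ IsClosedImmersion r.left ∧ Smooth R.hom ∧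
      ConnectedSpace R.left ∧ QuasiCompact R.hom ∧ Set.range r.left = connectedComponent (e₀ P) ∧
      topologicalKrullDim R.left = topologicalKrullDim P.left := by
  haveI : Mono (zι P) := Over.mono_of_mono_left _
  haveI : LocallyOfFiniteType (zObj P).hom := by rw [← Over.w (zι P)]; infer_instance
  haveI : QuasiCompact (zObj P).hom := by rw [← Over.w (zι P)]; infer_instance
  haveI : IsReduced ((zObj P) ⊗ (zObj P)).left :=
    GrpScheme.RatDense.isReduced_pullback (zObj P).hom (GrpAff.dense_ratPoints (zObj P)) (zObj P).hom
  haveI : IsReduced (𝟙_ (Over Sk)).left := inferInstanceAs (IsReduced Sk)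
  have hr : Set.range (zι P).left = connectedComponent (e₀ P) := by
    rw [IdComponent.range_zι, IdComponent.connectedComponent_eq]
  have hmem : ∀ {T : Over Sk} (a : T ⟶ zObj P), Set.range (a ≫ zι P).left ⊆ connectedComponent (e₀ P) := by
    rintro T a _ ⟨t, rfl⟩
    rw [← hr, Over.comp_left, Scheme.Hom.comp_apply]
    exact ⟨_, rfl⟩
  obtain ⟨_, hz⟩ := SubgroupObj.exists_grpObj (zι P)
    (exists_lift _ (by
      rw [MonObj.mul_eq_mul, MonObj.comp_mul, tensorHom_fst, tensorHom_snd]
      exact IdSubgroup.mul_mem P _ _ (hmem _) (hmem _)))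
    (exists_lift _ (by
      rintro _ ⟨t, rfl⟩
      rw [Subsingleton.elim (α := PrimeSpectrum k) t (IsLocalRing.closedPoint k)]
      exact mem_connectedComponent))
    (exists_lift _ (by
      rintro _ ⟨t, rfl⟩
      rw [Over.comp_left, Scheme.Hom.comp_apply]
      exact IdSubgroup.inv_mem P (hr.subset ⟨t, rfl⟩)))
  haveI := hz
  refine ⟨zObj P, inferInstance, zι P, hz, inferInstance, Smooth.smooth_of_perfectField (zObj P), inferInstance,
    inferInstance, hr, ?_⟩
  refine le_antisymm (zι P).left.isClosedEmbedding.isInducing.topologicalKrullDim_le ?_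
  obtain ⟨y, hy⟩ := IdComponent.e₀_mem P
  have he : IsClosed {e₀ P} := by
    haveI : IsSeparated P.hom := IdComponent.isSeparated P
    haveI : IsClosedImmersion η[P].left := by
      haveI : IsClosedImmersion (η[P].left ≫ P.hom) := by
        rw [Over.w η[P]]; exact inferInstanceAs (IsClosedImmersion (𝟙 _))
      exact IsClosedImmersion.of_comp η[P].left P.hom
    have : Set.range η[P].left = {e₀ P} := Set.ext fun x => ⟨by
      rintro ⟨t, rfl⟩
      exact congrArg η[P].left (Subsingleton.elim (α := PrimeSpectrum k) t _), by rintro rfl; exact ⟨_, rfl⟩⟩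
    rw [← this]
    exact η[P].left.isClosedEmbedding.isClosed_range
  have hyc : IsClosed {y} := by
    have h := he.preimage (zι P).left.continuous
    rwa [← hy, show (zι P).left ⁻¹' {(zι P).left y} = {y} from
      Set.ext fun x => ⟨fun hx => (zι P).left.isClosedEmbedding.injective hx, fun hx => congrArg _ hx⟩] at h
  rw [← Dimension.coheight_eq_topologicalKrullDim P _ he,
    ← Dimension.coheight_eq_topologicalKrullDim (zObj P) y hyc]
  refine WithBot.coe_le_coe.mpr (Order.coheight_le fun p hp => ?_)
  have hin : ∀ j, p j ∈ Set.range (zι P).left := fun j =>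
    IdComponent.mem_range_of_specializes P ((Scheme.le_iff_specializes).mp (hp ▸ p.head_le j))
  choose q hq using hin
  have hemb := (zι P).left.isClosedEmbedding.toIsEmbedding.toIsInducing
  have hle : ∀ a b, (zι P).left a ≤ (zι P).left b → a ≤ b := fun a b h =>
    Scheme.le_iff_specializes.mpr (hemb.specializes_iff.mp (Scheme.le_iff_specializes.mp h))
  let p' : LTSeries (zObj P).left := LTSeries.mk p.length q fun a b hab => by
    have h := p.strictMono hab
    rw [← hq a, ← hq b] at h
    exact lt_of_le_not_ge (hle _ _ h.le) fun hc => h.not_ge (by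
      rw [Scheme.le_iff_specializes] at hc ⊢
      exact hc.map (zι P).left.continuous)
  exact Order.length_le_coheight (x := y) (p := p') (hle y (q 0) (by rw [hy, hq 0]; exact hp.symm.le))

/-- The reduced identity component is a smooth connected subgroup of full dimension. -/
theorem exists_reduced_idComponent [IsAlgClosed k] (P : Over Sk) [GrpObj P] [LocallyOfFiniteType P.hom]
    [QuasiCompact P.hom] :
    ∃ (R : Over Sk) (_ : GrpObj R) (r : R ⟶ P), IsMonHom r ∧ IsClosedImmersion r.left ∧ Smooth R.hom ∧
      ConnectedSpace R.left ∧ QuasiCompact R.hom ∧ topologicalKrullDim R.left = topologicalKrullDim P.left := by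
  obtain ⟨R, hR, r, h1, h2, h3, h4, h5, -, h6⟩ := exists_reduced_idComponent_range P
  exact ⟨R, hR, r, h1, h2, h3, h4, h5, h6⟩

end Groth.Agent.GrpScheme.RedIdComponent
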