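import Groth.Agent.GrpScheme.CharKernel
import Groth.Agent.GrpScheme.KernelPair
import Groth.Agent.GrpScheme.Cartier
import Groth.Agent.GrpScheme.AffineHom
import Groth.Agent.Borel50.Lin.TorusSch
import Groth.Agent.VarDim.Scheme
import Groth.Agent.Cube.Connected
import Groth.Agent.RelDiv.Degree
import Groth.Agent.GrpdLib.QuasiSection
import Groth.Agent.Thick.FlatCancel
import Groth.Agent.S1842
import Groth.Prelude.Def_Mor2

/-!
# Degrees of torsion of extensions of abelian varieties by tori
-/

set_option autoImplicit false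
set_option backward.isDefEq.respectTransparency false

universe u

open CategoryTheory MonoidalCategory CartesianMonoidalCategory MonObj GrpObj AlgebraicGeometry Limits
open Groth.Agent.SekLib Groth.Agent.RedPts

noncomputable section

namespace Groth.Agent.GrpScheme.TorsionDeg

open DiagRep Tangent RegularRep CharSplit CharKernel
open Rosenlicht (pb)

attribute [local instance] secAlgebra Borel50.Lin.ptTop

variable {k : Type u} [Field k]

/-- The power maps of a commutative group are homomorphisms. -/
lemma isMonHom_pow {S : Scheme.{u}} (G : Over S) [GrpObj G] [IsCommMonObj G] (n : ℕ) : IsMonHom (𝟙 G ^ n) where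
  one_hom := by rw [MonObj.comp_pow, Category.comp_id, MonObj.one_eq_one, one_pow]
  mul_hom := by
    rw [MonObj.comp_pow, Category.comp_id, MonObj.mul_eq_mul, MonObj.comp_mul, tensorHom_fst, tensorHom_snd,
      MonObj.comp_pow, MonObj.comp_pow, Category.comp_id, Category.comp_id, mul_pow]

/-- Kernels are stable under base change. -/
lemma isKernel_bc {S S' : Scheme.{u}} (f : S' ⟶ S) {N G Q : Over S} [GrpObj Q] {i : N ⟶ G} {q : G ⟶ Q}
    (h : AlgGrp.IsKernel i q) :
    AlgGrp.IsKernel ((Over.pullback f).map i) ((Over.pullback f).map q) := by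
  refine (h.map (Over.pullback f)).of_iso (Iso.refl _) (Iso.refl _) (Functor.Monoidal.εIso (Over.pullback f)).symm
    (Iso.refl _) (by simp) (toUnit_unique _ _) (by simp) ?_
  simp [Functor.obj.η_def]

/-- The group algebra of a free module modulo `N` as a finite scheme. -/
lemma finLocFree_group (r N : ℕ) [NeZero N] :
    Mor2.IsFinLocFreeOfDeg (N ^ r) (TSpec (K := k) (MonoidAlgebra k (Multiplicative (Fin r → ZMod N)))).hom := by
  let A := MonoidAlgebra k (Multiplicative (Fin r → ZMod N))
  have hfin : Module.Finite k A := inferInstance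
  have hfl : Module.Flat k A := inferInstance
  have hrk : Module.finrank k A = N ^ r := by
    rw [(MonoidAlgebra.coeffLinearEquiv k).finrank_eq, Module.finrank_finsupp_self]
    simp
  have h1 : IsFinite (Spec.map (CommRingCat.ofHom (algebraMap k A))) :=
    (IsFinite.SpecMap_iff _).mpr (RingHom.finite_algebraMap.mpr hfin)
  have h2 : Flat (Spec.map (CommRingCat.ofHom (algebraMap k A))) :=
    Flat.SpecMap_iff.mpr (RingHom.flat_algebraMap_iff.mpr hfl)
  refine ⟨⟨h1, h2, ?_⟩, fun y => ?_⟩
  · exact inferInstanceAs (LocallyOfFinitePresentation (Spec.map (CommRingCat.ofHom (algebraMap k A))))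
  · refine (Scheme.Hom.finrank_SpecMap_algebraMap k A y).trans ?_
    rw [Module.rankAtStalk_eq_finrank_of_free, hrk]; rfl

section AlgClosed

variable [IsAlgClosed k] {T : Over (Spec (CommRingCat.of k))} [GrpObj T] {r : ℕ} (C : Chars T (Fin r → ℤ))

include C in
/-- The torsion of a split torus. -/
lemma exists_torsion [IsCommMonObj T] (N : ℕ) [NeZero N] :
    ∃ (KT : Over (Spec (CommRingCat.of k))) (κT : KT ⟶ T), Mono κT ∧ κT ^ N = 1 ∧
      (∀ {Y : Over (Spec (CommRingCat.of k))} (z : Y ⟶ T), z ^ N = 1 → ∃ z', z' ≫ κT = z) ∧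
      Mor2.IsFinLocFreeOfDeg (N ^ r) KT.hom := by
  let A := MonoidAlgebra k (Multiplicative (Fin r → ZMod N))
  let p : (Fin r → ℤ) →+ (Fin r → ZMod N) :=
    Pi.addMonoidHom fun i => (Int.castAddHom (ZMod N)).comp (Pi.evalAddMonoidHom (fun _ : Fin r => ℤ) i)
  have hp : Function.Surjective p := fun b =>
    ⟨fun i => (b i).cast, funext fun i => ZMod.intCast_zmod_cast (b i)⟩
  let F₀ : Multiplicative (Fin r → ℤ) →* Γ((TSpec (K := k) A).left, ⊤) :=
    ((ev (F := k) A).toAlgHom.toRingHom.toMonoidHom.comp (MonoidAlgebra.of k (Multiplicative (Fin r → ZMod N)))).comp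
      (AddMonoidHom.toMultiplicative p)
  obtain ⟨κT, hκ⟩ := C.θ_exists F₀
  have hNp : ∀ m : Fin r → ℤ, p (N • m) = 0 := fun m => by rw [map_nsmul]; funext i; simp
  have hker : ∀ m m' : Fin r → ℤ, p m = p m' → ∃ l, m = m' + N • l := fun m m' h => by
    have hdvd : ∀ i, (N : ℤ) ∣ m i - m' i := fun i => (ZMod.intCast_eq_intCast_iff_dvd_sub _ _ _).1
      (congrFun h i).symm
    choose l hl using hdvd
    exact ⟨l, funext fun i => by simp [nsmul_eq_mul, ← hl]⟩
  refine ⟨TSpec (K := k) A, κT, ⟨fun {Y} u v huv => ?_⟩, C.θ_ext fun m => ?_, fun {Y} z hz => ?_,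
    finLocFree_group r N⟩
  · have h1 : ((pull u).comp (ev (F := k) _).toAlgHom) = ((pull v).comp (ev (F := k) _).toAlgHom) := by
      refine MonoidAlgebra.algHom_ext (R := k) (A := k) (fun b => ?_) (Algebra.ext_id _ _ _)
      obtain ⟨m, hm⟩ := hp b.toAdd
      have := congrArg (fun w => C.θ w m) huv
      simp only [C.θ_comp, hκ] at this
      simp only [F₀, MonoidHom.coe_comp, Function.comp_apply, AddMonoidHom.toMultiplicative_apply_apply, toAdd_ofAdd, hm, ofAdd_toAdd] at this
      exact this
    refine Over.OverMorphism.ext ?_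
    have : IsAffine (TSpec (K := k) A).left := inferInstanceAs (IsAffine (Spec _))
    refine ext_of_isAffine (CommRingCat.hom_ext (RingHom.ext fun a => ?_))
    obtain ⟨b, rfl⟩ := (ev (F := k) _).surjective a
    exact AlgHom.congr_fun h1 b
  · rw [θ_pow, hκ, θ_one, ← map_pow, show (Multiplicative.ofAdd m) ^ N = Multiplicative.ofAdd (N • m) from rfl]
    simp only [F₀, MonoidHom.coe_comp, Function.comp_apply, AddMonoidHom.toMultiplicative_apply_apply, toAdd_ofAdd, hNp]
    rw [show Multiplicative.ofAdd (0 : Fin r → ZMod N) = 1 from rfl, map_one, map_one]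
  · have hzero : ∀ m : Fin r → ℤ, C.θ z (N • m) = 1 := fun m => by
      have h1 : C.θ (z ^ N) m = 1 := by rw [hz, θ_one]
      rw [θ_pow] at h1
      have h2 : C.θ z (N • m) = C.θ z m ^ N := by
        let f : Multiplicative (Fin r → ℤ) →* Γ(Y.left, ⊤) :=
          { toFun := fun a => C.θ z a.toAdd
            map_one' := C.θ_zero z
            map_mul' := fun a b => C.θ_add z _ _ }
        exact map_pow f (Multiplicative.ofAdd m) N
      rw [h2, h1]
    let f : Multiplicative (Fin r → ZMod N) →* Γ(Y.left, ⊤) :=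
      { toFun := fun b => C.θ z (hp b.toAdd).choose
        map_one' := by
          obtain ⟨l, hl⟩ := hker (hp (1 : Multiplicative (Fin r → ZMod N)).toAdd).choose 0 (by
            rw [(hp _).choose_spec, map_zero]; rfl)
          rw [hl, C.θ_add, C.θ_zero, hzero, _root_.one_mul]
        map_mul' := fun a b => by
          obtain ⟨l, hl⟩ := hker (hp (a * b).toAdd).choose ((hp a.toAdd).choose + (hp b.toAdd).choose) (by
            rw [(hp _).choose_spec, map_add, (hp _).choose_spec, (hp _).choose_spec]; rfl)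
          rw [hl, C.θ_add, hzero, _root_.mul_one, C.θ_add] }
    obtain ⟨z', hz'⟩ := exists_toTSpec (B := A) Y (MonoidAlgebra.lift k Γ(Y.left, ⊤) (Multiplicative (Fin r → ZMod N)) f)
    refine ⟨z', C.θ_ext fun m => ?_⟩
    rw [C.θ_comp, hκ]
    refine (hz' _).trans ?_
    rw [AddMonoidHom.toMultiplicative_apply_apply, MonoidAlgebra.of_apply, MonoidAlgebra.lift_single, one_smul]
    show C.θ z (hp (p m)).choose = C.θ z m
    obtain ⟨l, hl⟩ := hker (hp (p m)).choose m (hp (p m)).choose_spec
    rw [hl, C.θ_add, hzero, _root_.mul_one]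

include C in
/-- The dimension of a split torus. -/
lemma topologicalKrullDim_eq : topologicalKrullDim T.left = r := by
  obtain ⟨e, -⟩ := exists_univ_iso C
  let el : (TSpec (K := k) (Laurent k (Fin r → ℤ))).left ≅ T.left := (Over.forget _).mapIso e
  rw [← (Scheme.homeoOfIso el).isHomeomorph.topologicalKrullDim_eq]
  show topologicalKrullDim (PrimeSpectrum (Laurent k (Fin r → ℤ))) = r
  rw [PrimeSpectrum.topologicalKrullDim_eq_ringKrullDim]
  obtain ⟨n, hn, htr, -⟩ := VarDim.exists_ringKrullDim_eq_trdeg k (Laurent k (Fin r → ℤ))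
  have htd : Algebra.trdeg k (Laurent k (Fin r → ℤ)) = r := by
    let x : Fin r → Laurent k (Fin r → ℤ) := fun i => MonoidAlgebra.of k _ (Multiplicative.ofAdd (Pi.single i (1 : ℤ)))
    have hx : AlgebraicIndependent k x := by
      have hinj : Function.Injective (MvPolynomial.aeval x : MvPolynomial (Fin r) k →ₐ[k] Laurent k (Fin r → ℤ)) := by
        intro p q hpq
        let g : (Fin r →₀ ℕ) → Multiplicative (Fin r → ℤ) := fun d => Multiplicative.ofAdd fun i => (d i : ℤ)
        have hg : Function.Injective g := fun d d' h => Finsupp.ext fun i =>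
          Int.natCast_inj.1 (congrFun (Multiplicative.ofAdd.injective h) i)
        have hm : ∀ p : MvPolynomial (Fin r) k, (MvPolynomial.aeval x p : Laurent k (Fin r → ℤ)).coeff =
            Finsupp.mapDomain g (AddMonoidAlgebra.coeff p) := fun p => by
          induction p using MvPolynomial.induction_on' with
          | monomial d a =>
            rw [MvPolynomial.aeval_monomial, ← MvPolynomial.single_eq_monomial]
            have : d.prod (fun i e => x i ^ e) = MonoidAlgebra.of k _ (g d) := by
              simp only [x, ← map_pow]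
              rw [← map_finsuppProd]
              congr 1
              refine Multiplicative.toAdd.injective (funext fun i => ?_)
              rw [Finsupp.prod, toAdd_prod]
              simp [g, Finset.sum_apply, Pi.single_apply, Finsupp.notMem_support_iff]
              intro h
              simp [h]
            rw [this, ← Algebra.smul_def, MonoidAlgebra.of_apply, MonoidAlgebra.smul_single, smul_eq_mul, _root_.mul_one]
            exact (Finsupp.mapDomain_single).symm
          | add p q hp hq => rw [map_add]; simp [hp, hq, Finsupp.mapDomain_add]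
        exact AddMonoidAlgebra.ext (Finsupp.mapDomain_injective hg ((hm p).symm.trans ((congrArg (·.coeff) hpq).trans (hm q))))
      exact hinj
    have halg : Algebra.IsAlgebraic (Algebra.adjoin k (Set.range x)) (Laurent k (Fin r → ℤ)) := by
      let S := Algebra.adjoin k (Set.range x)
      have hP : ∀ m : Fin r → ℤ, IsAlgebraic S (MonoidAlgebra.of k _ (Multiplicative.ofAdd m) : Laurent k (Fin r → ℤ)) := by
        intro m
        let mp : Fin r → ℕ := fun i => (m i).toNat
        let mn : Fin r → ℕ := fun i => (-m i).toNat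
        have hmem : ∀ d : Fin r → ℕ, (MonoidAlgebra.of k _ (Multiplicative.ofAdd fun i => (d i : ℤ)) : Laurent k (Fin r → ℤ)) ∈ S := by
          intro d
          have e : (Multiplicative.ofAdd fun i => (d i : ℤ)) = ∏ i, Multiplicative.ofAdd (Pi.single i (1 : ℤ)) ^ d i := by
            refine Multiplicative.toAdd.injective (funext fun i => ?_)
            simp [toAdd_prod, Pi.single_apply]
          rw [e, map_prod]
          exact Subalgebra.prod_mem _ fun i _ => by
            rw [map_pow]; exact Subalgebra.pow_mem _ (Algebra.subset_adjoin (s := Set.range x) ⟨i, rfl⟩) _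
        let cn : ↥S := ⟨_, hmem mn⟩
        let cp : ↥S := ⟨_, hmem mp⟩
        refine ⟨Polynomial.C cn * Polynomial.X - Polynomial.C cp, fun h => ?_, ?_⟩
        · have := congrArg (fun q : Polynomial S => q.coeff 1) h
          simp only [Polynomial.coeff_sub, Polynomial.coeff_C_mul, Polynomial.coeff_X_one, _root_.mul_one,
            Polynomial.coeff_C_succ, sub_zero, Polynomial.coeff_zero] at this
          exact (IsUnit.map (MonoidAlgebra.of k (Multiplicative (Fin r → ℤ))) (Group.isUnit (Multiplicative.ofAdd fun i => (mn i : ℤ)))).ne_zero (congrArg Subtype.val this)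
        · rw [map_sub, map_mul, Polynomial.aeval_C, Polynomial.aeval_C, Polynomial.aeval_X]
          show (MonoidAlgebra.of k (Multiplicative (Fin r → ℤ)) _ * MonoidAlgebra.of k (Multiplicative (Fin r → ℤ)) _ - MonoidAlgebra.of k (Multiplicative (Fin r → ℤ)) _ : Laurent k (Fin r → ℤ)) = 0
          rw [← map_mul, ← ofAdd_add, sub_eq_zero]
          congr 2
          funext i
          simp [mp, mn]
          omega
      refine ⟨fun a => ?_⟩
      induction a using MonoidAlgebra.induction_on with
      | of m => exact hP m.toAdd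
      | add a b ha hb => exact ha.add hb
      | smul c a ha => rw [Algebra.smul_def, IsScalarTower.algebraMap_apply k S (Laurent k (Fin r → ℤ))]; exact (isAlgebraic_algebraMap _).mul ha
    have hb := hx.isTranscendenceBasis_iff_isAlgebraic.mpr halg
    simpa using hb.lift_cardinalMk_eq_trdeg.symm
  rw [hn]
  have hnr : (n : Cardinal) = (r : Cardinal) := htr.symm.trans htd
  exact_mod_cast congrArg (fun c : ℕ => (c : WithBot ℕ∞)) (Nat.cast_inj.1 hnr)

include C in
/-- Powers of a split torus are surjective. -/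
lemma surjective_pow [LocallyOfFiniteType T.hom] [QuasiCompact T.hom] [IsCommMonObj T] (N : ℕ) [NeZero N] :
    Surjective (𝟙 T ^ N).left := by
  have := isMonHom_pow T N
  have : QuasiCompact (𝟙 T ^ N).left := GrpdLib.GrpOver.quasiCompact_left _
  refine ⟨Set.range_eq_univ.mp (Set.eq_univ_of_forall fun y => ?_)⟩
  by_contra hy
  obtain ⟨p, hp⟩ := exists_pt_mem (G := T) (U := (Set.range (𝟙 T ^ N).left)ᶜ)
    (ClosedImage.isClosed_range (𝟙 T ^ N)).isOpen_compl.isLocallyClosed ⟨y, hy⟩
  obtain ⟨d, hd⟩ := isDivisible C p N (NeZero.ne N)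
  refine hp ⟨cpt d, ?_⟩
  rw [cpt, cpt, ← Scheme.Hom.comp_apply, ← Over.comp_left, MonObj.comp_pow, Category.comp_id, hd]

end AlgClosed

section Main

variable [IsAlgClosed k] (G T B : Over (Spec (CommRingCat.of k))) [GrpObj G] [IsCommMonObj G] [GrpObj T] [GrpObj B]
  [Smooth G.hom] [QuasiCompact G.hom] [ConnectedSpace G.left]
  (i : T ⟶ G) [IsMonHom i] [IsClosedImmersion i.left] (q : G ⟶ B) [IsMonHom q] [Surjective q.left] [Flat q.left]
  [IsProper B.hom] [Smooth B.hom] [ConnectedSpace B.left]

/-- The torsion of an extension of an abelian variety by a torus. -/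
theorem isFinLocFreeOfDeg_alg (hT : Red.IsTorus T) (hk : AlgGrp.IsKernel i q)
    (t a : ℕ) (ht : topologicalKrullDim T.left = t) (ha : topologicalKrullDim B.left = a)
    (N : ℕ) (hN : 0 < N) (K : Over (Spec (CommRingCat.of k))) [GrpObj K] (κ : K ⟶ G) [IsMonHom κ]
    (hK : AlgGrp.IsKernel κ ((𝟙 G) ^ N)) :
    Mor2.IsFinLocFreeOfDeg (N ^ (t + 2 * a)) K.hom := by
  have : NeZero N := ⟨hN.ne'⟩
  have : IsReduced B.left := HomFlat.isReduced_of_smooth B.hom
  have : IsIntegral B.left := Rosenlicht.isIntegral_group B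
  have : GeometricallyIntegral B.hom := Cube.geometricallyIntegral_of_isAlgClosed B.hom
  have : IsCommMonObj B := AVComm.isCommMonObj B
  have : Mono i := Over.mono_of_mono_left i
  have : IsCommMonObj T := by
    refine (isCommMonObj_iff_isMulCommutative T).2 fun X => ⟨⟨fun x y => ?_⟩⟩
    rw [← cancel_mono i, MonObj.mul_comp, MonObj.mul_comp]
    exact ((isCommMonObj_iff_isMulCommutative G).1 inferInstance X).is_comm.comm _ _
  obtain ⟨haff, hlft, hint, hsm, hcomm, hd⟩ := Borel50.Lin.TorusSch.torus_facts hT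
  have : QuasiCompact T.hom := inferInstance
  have hD : DenseSet (Tor T) := by
    intro U hU
    obtain ⟨x, hx⟩ := exists_pt_mem U.2.isLocallyClosed hU
    have ho : IsOpen {y : Pt T | cpt y ∈ U} := isOpen_induced U.2
    obtain ⟨y, hy, hy'⟩ := mem_closure_iff.1 (hd.ge (Set.mem_univ x)) _ ho hx
    exact ⟨y, hy', hy⟩
  obtain ⟨r, T', gT', C, -, φ, hφ, -, -, -, hT'l, hT'q, -, hiso⟩ := exists_basis_chars (G := T)
  have : IsIso φ := hiso (span_units hD) haff
  have : IsCommMonObj T' := by
    refine (isCommMonObj_iff_isMulCommutative T').2 fun X => ⟨⟨fun x y => ?_⟩⟩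
    exact C.θ_ext fun m => by rw [C.θ_mul, C.θ_mul, _root_.mul_comm]
  have hrt : r = t := by
    have h1 := topologicalKrullDim_eq C
    have h2 : topologicalKrullDim T.left = topologicalKrullDim T'.left :=
      (Scheme.homeoOfIso ((Over.forget _).mapIso (asIso φ))).isHomeomorph.topologicalKrullDim_eq
    exact_mod_cast ((h2.trans h1).symm.trans ht)
  subst hrt
  obtain ⟨KT, κT₀, hκm, hκN, hκfac, hKT⟩ := exists_torsion C N
  let κT : KT ⟶ T := κT₀ ≫ inv φ
  have hκT : κT ^ N = 1 := by
    rw [← cancel_mono φ, MonObj.pow_comp, MonObj.one_comp, Category.assoc, IsIso.inv_hom_id, Category.comp_id, hκN]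
  have hκTfac : ∀ {Y : Over (Spec (CommRingCat.of k))} (z : Y ⟶ T), z ^ N = 1 → ∃ z', z' ≫ κT = z := fun z hz => by
    obtain ⟨z', hz'⟩ := hκfac (z ≫ φ) (by rw [← MonObj.pow_comp, hz, MonObj.one_comp])
    exact ⟨z', by rw [← cancel_mono φ, Category.assoc, Category.assoc, IsIso.inv_hom_id, Category.comp_id, hz']⟩
  -- torsion of the abelian variety
  have := isMonHom_pow B N
  obtain ⟨KB, gKB, κB, hκB, hBker⟩ := AffineHom.exists_kernel (𝟙 B ^ N)
  obtain ⟨hBf, hBfl, hBrk⟩ := S1842.result k B a ha (N : ℤ) (by exact_mod_cast hN.ne')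
  rw [zpow_natCast] at hBf hBfl hBrk
  simp only [Int.natAbs_natCast] at hBrk
  have hBdeg : Mor2.IsFinLocFreeOfDeg (N ^ (2 * a)) KB.hom := by
    have hsq := GrpdLib.GrpOver.isPullback_left hBker
    have h1 : IsFinite (toUnit KB).left := MorphismProperty.of_isPullback hsq hBf
    have h2 : Flat (toUnit KB).left := MorphismProperty.of_isPullback hsq hBfl
    have e : (toUnit KB).left = KB.hom := by rw [← Over.w (toUnit KB)]; exact (Category.comp_id _).symm
    rw [← e]
    have : LocallyOfFiniteType (toUnit KB).left := inferInstance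
    have : IsLocallyNoetherian (𝟙_ (Over (Spec (CommRingCat.of k)))).left :=
      inferInstanceAs (IsLocallyNoetherian (Spec (CommRingCat.of k)))
    exact ⟨⟨h1, h2, inferInstance⟩, fun y => by rw [Scheme.Hom.finrank_of_isPullback _ _ _ _ hsq, hBrk]⟩
  have : Mono κ := GrpdLib.GrpOver.kernel_mono hK
  have : Mono κB := GrpdLib.GrpOver.kernel_mono hBker
  have hκ1 : κ ^ N = 1 := by
    have := hK.w
    rw [MonObj.comp_pow, Category.comp_id] at this
    rw [this, Hom.one_def]
  have hκB1 : κB ^ N = 1 := by
    have := hBker.w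
    rw [MonObj.comp_pow, Category.comp_id] at this
    rw [this, Hom.one_def]
  obtain ⟨f, hf⟩ := GrpdLib.GrpOver.kernel_factor hBker (κ ≫ q) (by
    rw [MonObj.comp_pow, Category.comp_id, ← MonObj.pow_comp, hκ1, MonObj.one_comp])
  have hfm : IsMonHom f :=
    { one_hom := by rw [← cancel_mono κB, Category.assoc, hf, ← Category.assoc, IsMonHom.one_hom, IsMonHom.one_hom, IsMonHom.one_hom]
      mul_hom := by
        rw [← cancel_mono κB, Category.assoc, hf, ← Category.assoc, IsMonHom.mul_hom, Category.assoc, IsMonHom.mul_hom,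
          Category.assoc, IsMonHom.mul_hom, tensorHom_comp_tensorHom_assoc, tensorHom_comp_tensorHom_assoc, hf] }
  -- surjectivity and flatness of `f`
  have := isMonHom_pow T N
  have hTs' : Surjective (𝟙 T' ^ N).left := surjective_pow C N
  have hTs : Surjective (𝟙 T ^ N).left := by
    have e : 𝟙 T ^ N = φ ≫ (𝟙 T' ^ N) ≫ inv φ := by
      rw [← cancel_mono φ, MonObj.pow_comp, Category.id_comp, Category.assoc, Category.assoc, IsIso.inv_hom_id,
        Category.comp_id, MonObj.comp_pow, Category.comp_id]
    rw [e, Over.comp_left, Over.comp_left]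
    have : IsIso φ.left := inferInstanceAs (IsIso ((Over.forget _).map φ))
    have : IsIso (inv φ).left := inferInstanceAs (IsIso ((Over.forget _).map (inv φ)))
    infer_instance
  have hTf : Flat (𝟙 T ^ N).left := HomFlat.flat_of_surjective _
  let W := pullback q κB
  let w : W ⟶ G := pullback.fst q κB
  let π : W ⟶ KB := pullback.snd q κB
  have hWsq : IsPullback w π q κB := IsPullback.of_hasPullback q κB
  have hπs : Surjective π.left := MorphismProperty.of_isPullback (GrpdLib.GrpOver.isPullback_left hWsq) ‹Surjective q.left›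
  have hπf : Flat π.left := MorphismProperty.of_isPullback (GrpdLib.GrpOver.isPullback_left hWsq) ‹Flat q.left›
  obtain ⟨wT, hwT⟩ := GrpdLib.GrpOver.kernel_factor hk (w ^ N) (by
    rw [MonObj.pow_comp, hWsq.w, ← MonObj.comp_pow, hκB1, MonObj.comp_one])
  let g₀ : K ⊗ T ⟶ G := (fst K T ≫ κ) * (snd K T ≫ i)
  have hg₀ : g₀ ≫ q = (fst K T ≫ f) ≫ κB := by
    rw [MonObj.mul_comp, Category.assoc, Category.assoc, hk.w, ← Hom.one_def, MonObj.comp_one, _root_.mul_one,
      Category.assoc, hf]
  let m : K ⊗ T ⟶ W := hWsq.lift g₀ (fst K T ≫ f) hg₀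
  have hmw : m ≫ w = g₀ := hWsq.lift_fst _ _ _
  have hGc : ∀ {X : Over (Spec (CommRingCat.of k))} (x y : X ⟶ G), Commute x y := fun {X} x y =>
    ((isCommMonObj_iff_isMulCommutative G).1 inferInstance X).is_comm.comm _ _
  have hm1 : m ≫ wT = snd K T ≫ (𝟙 T ^ N) := by
    rw [← cancel_mono i, Category.assoc, hwT, MonObj.comp_pow, hmw, MonObj.comp_pow, Category.comp_id,
      (hGc _ _).mul_pow, ← MonObj.comp_pow, hκ1, MonObj.comp_one, _root_.one_mul, MonObj.pow_comp]
  have hPsq : IsPullback m (snd K T) wT (𝟙 T ^ N) := by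
    have hl : ∀ s : PullbackCone wT (𝟙 T ^ N), ∃ l : s.pt ⟶ K, l ≫ κ = (s.fst ≫ w) * (s.snd ≫ i)⁻¹ := fun s =>
      GrpdLib.GrpOver.kernel_factor hK _ (by
        rw [MonObj.comp_pow, Category.comp_id, (hGc _ _).mul_pow, inv_pow, ← MonObj.comp_pow, ← hwT,
          ← Category.assoc, s.condition, MonObj.comp_pow, Category.comp_id, MonObj.pow_comp, mul_inv_cancel])
    refine ⟨⟨hm1⟩, ⟨PullbackCone.IsLimit.mk _ (fun s => lift (hl s).choose s.snd) (fun s => ?_) (fun s => lift_snd _ _)
      (fun s l h₁ h₂ => ?_)⟩⟩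
    · refine hWsq.hom_ext ?_ ?_
      · rw [Category.assoc, hmw, MonObj.comp_mul, lift_fst_assoc, lift_snd_assoc, (hl s).choose_spec,
          inv_mul_cancel_right]
      · rw [Category.assoc, hWsq.lift_snd, lift_fst_assoc, ← cancel_mono κB, Category.assoc, hf, ← Category.assoc,
          (hl s).choose_spec, MonObj.mul_comp, GrpObj.inv_comp, Category.assoc, Category.assoc, hk.w, ← Hom.one_def,
          MonObj.comp_one, inv_one, _root_.mul_one, hWsq.w, Category.assoc]
    · refine CartesianMonoidalCategory.hom_ext _ _ ?_ (by rw [lift_snd]; exact h₂)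
      rw [lift_fst, ← cancel_mono κ, (hl s).choose_spec, ← h₁, ← h₂]
      simp only [Category.assoc, hmw, MonObj.comp_mul, g₀, mul_inv_cancel_right]
  have hmf : Flat m.left := MorphismProperty.of_isPullback (GrpdLib.GrpOver.isPullback_left hPsq).flip hTf
  have hms : Surjective m.left := MorphismProperty.of_isPullback (GrpdLib.GrpOver.isPullback_left hPsq).flip hTs
  have hcomp : (fst K T).left ≫ f.left = m.left ≫ π.left := by
    rw [← Over.comp_left, ← Over.comp_left, hWsq.lift_snd]
  have hfs : Surjective f.left := by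
    have : Surjective ((fst K T).left ≫ f.left) := by rw [hcomp]; infer_instance
    exact Surjective.of_comp (fst K T).left f.left
  have : Flat (fst K T).left := inferInstanceAs (Flat (pullback.fst K.hom T.hom))
  have : Surjective T.hom := ⟨fun x => ⟨η[T].left x, Subsingleton.elim (α := PrimeSpectrum k) _ _⟩⟩
  have : Surjective (fst K T).left := inferInstanceAs (Surjective (pullback.fst K.hom T.hom))
  have hff : Flat f.left := by
    have : Flat ((fst K T).left ≫ f.left) := by rw [hcomp]; infer_instance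
    exact Thick.FlatCancel.flat_of_comp (fst K T).left f.left
  -- the kernel of `f`
  obtain ⟨xT, hxT⟩ := GrpdLib.GrpOver.kernel_factor hK (κT ≫ i) (by
    rw [MonObj.comp_pow, Category.comp_id, ← MonObj.pow_comp, hκT, MonObj.one_comp])
  have hker : AlgGrp.IsKernel xT f := by
    have hw : xT ≫ f = 1 := by
      rw [← cancel_mono κB, Category.assoc, hf, ← Category.assoc, hxT, Category.assoc, hk.w, ← Hom.one_def,
        MonObj.comp_one, MonObj.one_comp]
    have hl : ∀ s : PullbackCone f η[KB], ∃ l : s.pt ⟶ KT, l ≫ xT = s.fst := fun s => by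
      obtain ⟨z, hz⟩ := GrpdLib.GrpOver.kernel_factor hk (s.fst ≫ κ) (by
        rw [Category.assoc, ← hf, ← Category.assoc, s.condition, toUnit_unique s.snd (toUnit _), ← Hom.one_def,
          MonObj.one_comp])
      obtain ⟨z', hz'⟩ := hκTfac z (by
        rw [← cancel_mono i, MonObj.pow_comp, hz, ← MonObj.comp_pow, hκ1, MonObj.comp_one, MonObj.one_comp])
      exact ⟨z', by rw [← cancel_mono κ, Category.assoc, hxT, ← Category.assoc, hz', hz]⟩
    have : Mono κT := mono_comp κT₀ (inv φ)
    refine ⟨⟨by rw [hw, Hom.one_def]⟩, ⟨PullbackCone.IsLimit.mk _ (fun s => (hl s).choose)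
      (fun s => (hl s).choose_spec) (fun s => toUnit_unique _ _) (fun s l h₁ _ => ?_)⟩⟩
    rw [← cancel_mono (κT ≫ i), ← hxT, ← Category.assoc, ← Category.assoc, h₁, (hl s).choose_spec]
  have hsq := GrpdLib.GrpOver.isPullback_left (KernelPair.isPullback hker)
  haveI : MorphismProperty.DescendsAlong @IsFinite FpqcDesc.FPQC.{u} := FpqcDesc.descendsAlong_isFinite
  obtain ⟨⟨hKTf, hKTflat, -⟩, hKTr⟩ := hKT
  have hBdeg' := hBdeg
  obtain ⟨⟨hKBf, -, -⟩, -⟩ := hBdeg'
  have : LocallyOfFiniteType KB.hom := inferInstance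
  have : QuasiCompact K.hom := by
    have : QuasiCompact κ.left := MorphismProperty.of_isPullback (GrpdLib.GrpOver.isPullback_left hK).flip
      (have : QuasiCompact (𝟙_ (Over (Spec (CommRingCat.of k)))).hom := inferInstanceAs (QuasiCompact (𝟙 _))
      GrpdLib.GrpOver.quasiCompact_left η[G])
    rw [← Over.w κ]; infer_instance
  have : LocallyOfFiniteType K.hom := by
    have : LocallyOfFiniteType κ.left := MorphismProperty.of_isPullback (GrpdLib.GrpOver.isPullback_left hK).flip
      (locallyOfFiniteType_of_comp η[G].left G.hom)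
    rw [← Over.w κ]; infer_instance
  have hfq : QuasiCompact f.left := GrpdLib.GrpOver.quasiCompact_left f
  have : IsFinite f.left := KernelPair.mem_of_kernel hker @IsFinite FpqcDesc.FPQC.{u} ⟨⟨hfs, hff⟩, hfq⟩ hKTf
  have hflp : LocallyOfFinitePresentation f.left := GrpdLib.GrpOver.lfp_left f
  have hfdeg : Mor2.IsFinLocFreeOfDeg (N ^ r) f.left := by
    refine ⟨⟨inferInstance, hff, hflp⟩, fun y => ?_⟩
    obtain ⟨x, hx⟩ := hfs.surj y
    rw [← hx, ← Scheme.Hom.finrank_of_isPullback _ _ _ _ hsq.flip]
    exact (Scheme.Hom.finrank_pullback_fst KT.hom K.hom x).trans (hKTr _)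
  have := RelDiv.isFinLocFreeOfDeg_comp hfdeg hBdeg
  rw [Over.w f, ← pow_add] at this
  exact this

end Main

end Groth.Agent.GrpScheme.TorsionDeg
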