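import Groth.Agent.GrpScheme.QuasiAffine

/-!
# Schemes over a field with only constant global functions
-/

set_option autoImplicit false

universe u

open CategoryTheory MonoidalCategory CartesianMonoidalCategory AlgebraicGeometry Limits

namespace Groth.Agent.GrpScheme.AntiAffine

variable {K : Type u} [Field K]

/-- The two spellings of having only constant functions. -/
lemma bijective_iff_isIso (X : Over (Spec (CommRingCat.of K))) :
    Function.Bijective ((Scheme.ΓSpecIso (CommRingCat.of K)).inv ≫ X.hom.appTop).hom ↔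
      IsIso X.hom.appTop := by
  rw [← ConcreteCategory.isIso_iff_bijective]
  exact ⟨fun _ => IsIso.of_isIso_comp_left (Scheme.ΓSpecIso (CommRingCat.of K)).inv _,
    fun _ => inferInstance⟩

/-- If `X ⊗ Y` has only constant functions and `Y` has a rational point, so does `X`. -/
lemma isIso_appTop_left {X Y : Over (Spec (CommRingCat.of K))} (y : 𝟙_ (Over (Spec (CommRingCat.of K))) ⟶ Y)
    [IsIso (X ⊗ Y).hom.appTop] : IsIso X.hom.appTop := by
  let r : X ⟶ X ⊗ Y := lift (𝟙 X) (toUnit X ≫ y)
  have h₁ : (fst X Y).left.appTop ≫ r.left.appTop = 𝟙 _ := by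
    rw [← Scheme.Hom.comp_appTop, ← Over.comp_left, lift_fst, Over.id_left, Scheme.Hom.id_appTop]
  have h₂ : X.hom.appTop ≫ (fst X Y).left.appTop = (X ⊗ Y).hom.appTop := by
    rw [← Scheme.Hom.comp_appTop, Over.w]
  have : IsSplitMono (fst X Y).left.appTop := IsSplitMono.mk' ⟨_, h₁⟩
  have : IsSplitEpi (fst X Y).left.appTop :=
    IsSplitEpi.mk' ⟨inv (X ⊗ Y).hom.appTop ≫ X.hom.appTop, by rw [Category.assoc, h₂, IsIso.inv_hom_id]⟩
  have : IsIso (fst X Y).left.appTop := isIso_of_mono_of_isSplitEpi _
  rw [← Category.comp_id X.hom.appTop, ← IsIso.hom_inv_id (fst X Y).left.appTop, ← Category.assoc, h₂]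
  infer_instance

/-- Products of schemes with only constant functions have only constant functions. -/
lemma isIso_appTop_tensor {X Y : Over (Spec (CommRingCat.of K))} [CompactSpace X.left] [CompactSpace Y.left]
    [QuasiSeparated X.hom] [QuasiSeparated Y.hom] [IsIso X.hom.appTop] [IsIso Y.hom.appTop] :
    IsIso (X ⊗ Y).hom.appTop := by
  have h := QuasiAffine.isPushout_tensor X Y
  have := h.isIso_inr_of_isIso
  rw [← Over.w (snd X Y), Scheme.Hom.comp_appTop]
  infer_instance

end Groth.Agent.GrpScheme.AntiAffine
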