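import Groth.Agent.GrpScheme.Basic
import Mathlib.AlgebraicGeometry.QuasiAffine
import Mathlib.AlgebraicGeometry.Morphisms.Flat

/-!
# Quasi-affine group schemes over a field are affine

The multiplication and inverse of a quasi-affine group `G` extend to `H = Spec Γ(G)`, since
`Γ(G ×ₖ G) = Γ(G) ⊗ₖ Γ(G)`. The shear `(a, b) ↦ (a * b, b)` preserves `G × G ⊆ H × H` and for
every point of `H` some translate meets `G`, so `G = H`.
-/

set_option autoImplicit false

universe u

open CategoryTheory MonoidalCategory CartesianMonoidalCategory MonObj GrpObj AlgebraicGeometry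
  Limits Opposite TopologicalSpace

namespace Groth.Agent.GrpScheme.QuasiAffine

variable {K : Type u} [Field K]

instance flat_hom (X : Over (Spec (CommRingCat.of K))) : Flat X.hom :=
  have : Subsingleton ↥(Spec (CommRingCat.of K)) := inferInstanceAs (Subsingleton (PrimeSpectrum K))
  inferInstance

lemma qs_univ {X : Scheme.{u}} {T : Scheme.{u}} [IsAffine T] (f : X ⟶ T) [QuasiSeparated f] :
    IsQuasiSeparated ((⊤ : X.Opens) : Set X) := by
  have : QuasiSeparatedSpace X := (quasiSeparated_iff_quasiSeparatedSpace f).1 inferInstance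
  exact isQuasiSeparated_univ

lemma isPushout_tensor (X Y : Over (Spec (CommRingCat.of K))) [CompactSpace X.left] [CompactSpace Y.left]
    [QuasiSeparated X.hom] [QuasiSeparated Y.hom] :
    IsPushout X.hom.appTop Y.hom.appTop (fst X Y).left.appTop (snd X Y).left.appTop := by
  have H : IsPullback (fst X Y).left (snd X Y).left X.hom Y.hom :=
    IsPullback.of_hasPullback X.hom Y.hom
  have hf : (X.hom.appLE ⊤ ⊤ (le_refl _)).hom.Flat :=
    RingHom.Flat.of_isField ((Scheme.ΓSpecIso (CommRingCat.of K)).commRingCatIsoToRingEquiv.toMulEquiv.isField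
      (Field.toIsField K)) _
  have := isIso_pushoutSection_of_isCompact_of_flat_right_of_ringHomFlat H (US := ⊤) (UT := ⊤)
    (UX := ⊤) (UY := ⊤) (le_refl _) (le_refl _) (by simp) (isAffineOpen_top _) isCompact_univ
    (qs_univ Y.hom) isCompact_univ (qs_univ X.hom) hf
  have h := (isIso_pushoutSection_iff H (US := ⊤) (UT := ⊤) (UX := ⊤) (UY := ⊤) (le_refl _)
    (le_refl _) (by simp)).1 this
  have e : ∀ {A B : Scheme.{u}} (f : A ⟶ B), f.appLE ⊤ ⊤ le_rfl = f.appTop := fun f => f.appLE_eq_app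
  rwa [e, e, e, e] at h

/-- Morphisms inducing isomorphisms on global functions are stable under products. -/
lemma isIso_appTop_tensorHom {X Y X' Y' : Over (Spec (CommRingCat.of K))} [CompactSpace X.left] [CompactSpace Y.left]
    [QuasiSeparated X.hom] [QuasiSeparated Y.hom] [CompactSpace X'.left] [CompactSpace Y'.left]
    [QuasiSeparated X'.hom] [QuasiSeparated Y'.hom] (a : X ⟶ X') (b : Y ⟶ Y')
    [IsIso a.left.appTop] [IsIso b.left.appTop] : IsIso (a ⊗ₘ b).left.appTop := by
  have hX := isPushout_tensor X Y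
  have hX' : IsPushout X.hom.appTop Y.hom.appTop (inv a.left.appTop ≫ (fst X' Y').left.appTop)
      (inv b.left.appTop ≫ (snd X' Y').left.appTop) := by
    refine (isPushout_tensor X' Y').of_iso (Iso.refl _) (asIso a.left.appTop)
      (asIso b.left.appTop) (Iso.refl _) ?_ ?_ (by simp) (by simp) <;>
      simp only [Iso.refl_hom, Category.id_comp, asIso_hom, ← Scheme.Hom.comp_appTop, Over.w]
  have : (a ⊗ₘ b).left.appTop = (hX'.isoIsPushout _ _ hX).hom := by
    apply hX'.hom_ext
    · rw [IsPushout.inl_isoIsPushout_hom, Category.assoc, IsIso.inv_comp_eq,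
        ← Scheme.Hom.comp_appTop, ← Scheme.Hom.comp_appTop, ← Over.comp_left, ← Over.comp_left,
        tensorHom_fst]
    · rw [IsPushout.inr_isoIsPushout_hom, Category.assoc, IsIso.inv_comp_eq,
        ← Scheme.Hom.comp_appTop, ← Scheme.Hom.comp_appTop, ← Over.comp_left, ← Over.comp_left,
        tensorHom_snd]
  rw [this]
  infer_instance

/-- Morphisms to an affine scheme agree if they agree after composing with a morphism inducing
an isomorphism on global functions. -/
lemma hom_ext {A D Z : Over (Spec (CommRingCat.of K))} (a : A ⟶ D) [IsIso a.left.appTop] [IsAffine Z.left] {f g : D ⟶ Z}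
    (h : a ≫ f = a ≫ g) : f = g := by
  ext1
  refine ext_of_isAffine ?_
  have := congrArg (fun q => q.left.appTop) h
  simpa only [Over.comp_left, Scheme.Hom.comp_appTop, cancel_mono] using this

/-- Extension of a morphism to an affine scheme along a morphism inducing an isomorphism on
global functions. -/
noncomputable def extend {A D Z : Over (Spec (CommRingCat.of K))} (a : A ⟶ D) [IsIso a.left.appTop] [IsAffine Z.left]
    (f : A ⟶ Z) : D ⟶ Z :=
  Over.homMk (D.left.toSpecΓ ≫ Spec.map (f.left.appTop ≫ inv a.left.appTop) ≫ Z.left.isoSpec.inv) (by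
    refine ext_of_isAffine ?_
    rw [← cancel_mono a.left.appTop, ← Scheme.Hom.comp_appTop, ← Scheme.Hom.comp_appTop,
      Over.w a]
    congr 1
    simp only [Category.assoc]
    rw [Scheme.toSpecΓ_naturality_assoc, ← Spec.map_comp_assoc, Category.assoc,
      IsIso.inv_hom_id, Category.comp_id, ← Scheme.toSpecΓ_naturality_assoc, Scheme.toSpecΓ_isoSpec_inv_assoc]
    exact Over.w f)

lemma comp_extend {A D Z : Over (Spec (CommRingCat.of K))} (a : A ⟶ D) [IsIso a.left.appTop] [IsAffine Z.left]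
    (f : A ⟶ Z) : a ≫ extend a f = f := by
  ext1
  simp only [extend, Over.comp_left, Over.homMk_left]
  rw [Scheme.toSpecΓ_naturality_assoc, ← Spec.map_comp_assoc, Category.assoc,
    IsIso.inv_hom_id, Category.comp_id, ← Scheme.toSpecΓ_naturality_assoc,
    Scheme.toSpecΓ_isoSpec_inv, Category.comp_id]

lemma isDominant_of_isIso_appTop {A D : Scheme.{u}} [IsAffine D] [CompactSpace A] (f : A ⟶ D)
    [IsIso f.appTop] : IsDominant f := by
  have : f = A.toSpecΓ ≫ Spec.map f.appTop ≫ D.isoSpec.inv := by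
    rw [← Scheme.toSpecΓ_naturality_assoc, Scheme.toSpecΓ_isoSpec_inv, Category.comp_id]
  rw [this]
  exact (MorphismProperty.cancel_right_of_respectsIso @IsDominant _ _).2 inferInstance

variable (G : Over (Spec (CommRingCat.of K))) [GrpObj G] [G.left.IsQuasiAffine]

/-- The affine hull. -/
noncomputable def hull : Over (Spec (CommRingCat.of K)) :=
  Over.mk (Spec.map ((Scheme.ΓSpecIso (CommRingCat.of K)).inv ≫ G.hom.appTop))

instance : IsAffine (hull G).left := inferInstanceAs (IsAffine (Spec Γ(G.left, ⊤)))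

/-- The canonical map to the affine hull. -/
noncomputable def toHull : G ⟶ hull G :=
  Over.homMk G.left.toSpecΓ (by
    simp only [hull, Over.mk_hom]
    rw [Spec.map_comp, ← Scheme.toSpecΓ_naturality_assoc, toSpecΓ_SpecMap_ΓSpecIso_inv,
      Category.comp_id])

instance : IsIso (toHull G).left.appTop := by
  show IsIso G.left.toSpecΓ.appTop
  rw [Scheme.toSpecΓ_appTop]
  infer_instance

instance : IsOpenImmersion (toHull G).left := inferInstanceAs (IsOpenImmersion G.left.toSpecΓ)

lemma range_tensorHom {A B C D : Over (Spec (CommRingCat.of K))} (a : A ⟶ C) (b : B ⟶ D) :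
    Set.range (a ⊗ₘ b).left =
      (fst C D).left ⁻¹' Set.range a.left ∩ (snd C D).left ⁻¹' Set.range b.left :=
  Scheme.Pullback.range_map (f := A.hom) (g := B.hom) C.hom D.hom a.left b.left (𝟙 _)
    (by simp [Over.w a]) (by simp [Over.w b])

lemma isAffine_tensor (X Y : Over (Spec (CommRingCat.of K))) [IsAffine X.left] [IsAffine Y.left] :
    IsAffine (X ⊗ Y).left :=
  inferInstanceAs (IsAffine (pullback X.hom Y.hom))

lemma left_apply {A B C : Over (Spec (CommRingCat.of K))} (f : A ⟶ B) (g : B ⟶ C) (x : A.left) :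
    (f ≫ g).left x = g.left (f.left x) :=
  rfl

lemma quasiCompact_fst (R X : Over (Spec (CommRingCat.of K))) [QuasiCompact X.hom] :
    QuasiCompact (fst R X).left :=
  inferInstanceAs (QuasiCompact (pullback.fst R.hom X.hom))

omit [G.left.IsQuasiAffine] in
lemma cancel_aux [CompactSpace G.left] [IsSeparated G.hom] (H : Over (Spec (CommRingCat.of K)))
    [IsAffine H.left] (j : G ⟶ H) [IsIso j.left.appTop] (m : H ⊗ H ⟶ H)
    (hm : (j ⊗ₘ j) ≫ m = μ[G] ≫ j) (i : H ⟶ H) (hi : j ≫ i = ι[G] ≫ j) :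
    lift (fst H H ≫ i) m ≫ m = snd H H := by
  have : IsIso (j ⊗ₘ j).left.appTop := isIso_appTop_tensorHom j j
  -- `i(a) (a b) = b`
  exact hom_ext (j ⊗ₘ j) (by
    rw [← Category.assoc, comp_lift, tensorHom_fst_assoc, hi, hm, ← Category.assoc (fst G G),
      ← lift_map (fst G G ≫ ι[G]) μ[G] j j, Category.assoc, hm, tensorHom_snd, ← Category.assoc]
    congr 1
    rw [← Hom.mul_def, mul_eq_mul, GrpObj.inv_eq_inv, GrpObj.comp_inv, Category.comp_id,
      inv_mul_cancel_left])

omit [G.left.IsQuasiAffine] in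
lemma shear_aux [CompactSpace G.left] [IsSeparated G.hom] (H : Over (Spec (CommRingCat.of K)))
    [IsAffine H.left] (j : G ⟶ H) [IsIso j.left.appTop] (m : H ⊗ H ⟶ H)
    (hm : (j ⊗ₘ j) ≫ m = μ[G] ≫ j) :
    ∀ z : ↥(H ⊗ H).left, m.left z ∈ Set.range j.left →
      (snd H H).left z ∈ Set.range j.left → (fst H H).left z ∈ Set.range j.left := by
  have : IsIso (j ⊗ₘ j).left.appTop := isIso_appTop_tensorHom j j
  have : IsAffine (H ⊗ H).left := isAffine_tensor H H
  -- the shear preserves `G × G`
  let Φ : H ⊗ H ⟶ H ⊗ H := lift m (snd H H)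
  obtain ⟨Φ', hΦ'⟩ : ∃ Φ' : H ⊗ H ⟶ H ⊗ H, (j ⊗ₘ j) ≫ Φ' =
      (Basic.shearRight G).inv ≫ (j ⊗ₘ j) := ⟨_, comp_extend _ _⟩
  have hΦ : (j ⊗ₘ j) ≫ Φ = (Basic.shearRight G).hom ≫ (j ⊗ₘ j) := by
    simp only [Φ, comp_lift, hm, tensorHom_snd, Basic.shearRight, lift_map]
  have hΦΦ' : Φ ≫ Φ' = 𝟙 _ := hom_ext (j ⊗ₘ j) (by
    rw [reassoc_of% hΦ, hΦ', Iso.hom_inv_id_assoc, Category.comp_id])
  have hrange := range_tensorHom j j
  show ∀ z : ↥(H ⊗ H).left, m.left z ∈ Set.range j.left →
      (snd H H).left z ∈ Set.range j.left → (fst H H).left z ∈ Set.range j.left 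
  intro z h₁ h₂
  have : Φ.left z ∈ Set.range (j ⊗ₘ j).left := by
    rw [hrange]
    constructor
    · show ((Φ ≫ fst H H).left z) ∈ Set.range j.left
      rwa [lift_fst]
    · show ((Φ ≫ snd H H).left z) ∈ Set.range j.left
      rwa [lift_snd]
  obtain ⟨w, hw⟩ := this
  have hz : z ∈ Set.range (j ⊗ₘ j).left := by
    refine ⟨(Basic.shearRight G).inv.left w, ?_⟩
    have := congrArg Φ'.left hw
    change ((j ⊗ₘ j) ≫ Φ').left w = (Φ ≫ Φ').left z at this
    rw [hΦ', hΦΦ'] at this
    simpa using this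
  rw [hrange] at hz
  exact hz.1

omit [G.left.IsQuasiAffine] in
lemma density_aux [CompactSpace G.left] [IsSeparated G.hom] (H : Over (Spec (CommRingCat.of K)))
    [IsAffine H.left] (j : G ⟶ H) [IsOpenImmersion j.left] [IsIso j.left.appTop]
    (R : Over (Spec (CommRingCat.of K))) [IsAffine R.left] [Nonempty R.left] (e e' : R ⊗ H ⟶ R ⊗ H)
    (he : e' ≫ e = 𝟙 _) :
    ∃ y : ↥(R ⊗ H).left, (e ≫ snd R H).left y ∈ Set.range j.left ∧
      (snd R H).left y ∈ Set.range j.left := by
  have : IsIso (𝟙 R : R ⟶ R).left.appTop := by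
    rw [Over.id_left, Scheme.Hom.id_appTop]; infer_instance
  have : IsAffine (R ⊗ H).left := isAffine_tensor R H
  have : QuasiCompact G.hom := (quasiCompact_iff_compactSpace G.hom).2 inferInstance
  have : QuasiCompact (fst R G).left := quasiCompact_fst R G
  have : CompactSpace (R ⊗ G).left :=
    QuasiCompact.compactSpace_of_compactSpace (fst R G).left
  have := isIso_appTop_tensorHom (𝟙 R) j
  have hdom := isDominant_of_isIso_appTop ((𝟙 R) ⊗ₘ j).left
  let U : Set ↥(R ⊗ H).left := (snd R H).left ⁻¹' Set.range j.left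
  have hUo : IsOpen U := j.left.isOpenEmbedding.isOpen_range.preimage (snd R H).left.continuous
  have hmem : ∀ w, ((𝟙 R) ⊗ₘ j).left w ∈ U := fun w => ⟨(snd R G).left w, by
    rw [← left_apply, ← left_apply, tensorHom_snd]⟩
  have hU : Dense U := hdom.denseRange.mono (Set.range_subset_iff.2 hmem)
  obtain ⟨r⟩ := ‹Nonempty R.left›
  obtain ⟨p, -, -⟩ := Scheme.Pullback.exists_preimage_pullback (f := R.hom) (g := G.hom) r
    (η[G].left (IsLocalRing.closedPoint K)) (Subsingleton.elim (α := PrimeSpectrum K) _ _)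
  obtain ⟨y, hy, hy'⟩ := hU.inter_open_nonempty (e.left ⁻¹' U)
    (hUo.preimage e.left.continuous) ⟨e'.left (((𝟙 R) ⊗ₘ j).left p), by
      rw [Set.mem_preimage, ← left_apply, he]
      exact hmem p⟩
  exact ⟨y, by rw [left_apply]; exact hy, hy'⟩

omit [G.left.IsQuasiAffine] in
lemma point_aux [CompactSpace G.left] [IsSeparated G.hom] (H : Over (Spec (CommRingCat.of K)))
    [IsAffine H.left] (j : G ⟶ H) [IsOpenImmersion j.left] [IsIso j.left.appTop]
    (R : Over (Spec (CommRingCat.of K))) [IsAffine R.left] [Nonempty R.left] (σ : R ⟶ H) :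
    ∃ y : R.left, σ.left y ∈ Set.range j.left := by
  have : IsIso (j ⊗ₘ j).left.appTop := isIso_appTop_tensorHom j j
  obtain ⟨m, hm⟩ : ∃ m : H ⊗ H ⟶ H, (j ⊗ₘ j) ≫ m = μ[G] ≫ j := ⟨_, comp_extend _ _⟩
  obtain ⟨i, hi⟩ : ∃ i : H ⟶ H, j ≫ i = ι[G] ≫ j := ⟨_, comp_extend _ _⟩
  have hii : i ≫ i = 𝟙 H := hom_ext j (by
    rw [reassoc_of% hi, hi, Category.comp_id, ← Category.assoc, GrpObj.inv_eq_inv]
    simp [GrpObj.comp_inv])
  have hcancel := cancel_aux G H j m hm i hi
  let e : R ⊗ H ⟶ R ⊗ H := lift (fst R H) ((σ ▷ H) ≫ m)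
  let e' : R ⊗ H ⟶ R ⊗ H := lift (fst R H) (lift (fst R H ≫ σ ≫ i) (snd R H) ≫ m)
  have hc : ∀ (T : Over (Spec (CommRingCat.of K))) (a b : T ⟶ H),
      lift (a ≫ i) (lift a b ≫ m) ≫ m = b := by
    intro T a b
    have := lift a b ≫= hcancel
    simpa only [← Category.assoc, comp_lift, lift_fst, lift_snd] using this
  have he1 : e' ≫ e = 𝟙 _ := by
    simp only [e, e', comp_lift, lift_whiskerRight_assoc, lift_fst]
    refine CartesianMonoidalCategory.hom_ext _ _ (by simp) ?_
    rw [lift_snd, Category.id_comp]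
    have := hc _ (fst R H ≫ σ ≫ i) (snd R H)
    simpa [reassoc_of% hii, hii] using this
  obtain ⟨y, h₁, h₂⟩ := density_aux G H j R e e' he1
  refine ⟨(fst R H).left y, ?_⟩
  have h₁' : (σ ▷ H ≫ m).left y ∈ Set.range j.left := by
    rwa [lift_snd] at h₁
  rw [left_apply] at h₁'
  have h₂' : (snd H H).left ((σ ▷ H).left y) ∈ Set.range j.left := by
    rw [← left_apply, whiskerRight_snd]
    exact h₂
  have := shear_aux G H j m hm _ h₁' h₂'
  rwa [← left_apply, whiskerRight_fst, left_apply] at this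

omit [G.left.IsQuasiAffine] in
theorem isAffine_aux [CompactSpace G.left] [IsSeparated G.hom] (H : Over (Spec (CommRingCat.of K)))
    [IsAffine H.left] (j : G ⟶ H) [IsOpenImmersion j.left] [IsIso j.left.appTop] :
    IsAffine G.left := by
  suffices Surjective j.left by
    have : IsIso j.left := (isIso_iff_isOpenImmersion_and_epi_base _).2
      ⟨inferInstance, (TopCat.epi_iff_surjective _).2 j.left.surjective⟩
    exact IsAffine.of_isIso j.left
  refine ⟨fun x => ?_⟩
  let R : Over (Spec (CommRingCat.of K)) := Over.mk (H.left.fromSpecResidueField x ≫ H.hom)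
  have : IsAffine R.left := inferInstanceAs (IsAffine (Spec _))
  have : Nonempty R.left := inferInstanceAs (Nonempty (PrimeSpectrum (H.left.residueField x)))
  obtain ⟨y, g, hg⟩ := point_aux G H j R (Over.homMk (H.left.fromSpecResidueField x) rfl)
  exact ⟨g, hg.trans (Scheme.fromSpecResidueField_apply _ _)⟩

/-- **A quasi-affine group over a field is affine.** -/
theorem isAffine : IsAffine G.left :=
  isAffine_aux G (hull G) (toHull G)

end Groth.Agent.GrpScheme.QuasiAffine
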