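import Groth.Agent.GrpAff.Kernel
import Groth.Agent.GrpAff.Smooth
import Groth.Agent.GrpArtin.Descend
import Groth.Agent.GrpScheme.AntiAffine
import Groth.Agent.GrpScheme.GlobalSections
import Groth.Agent.GrpScheme.HomFlat
import Groth.Agent.GrpdLib.AffNormalQuot
import Groth.Agent.GrpdLib.QuasiSection
import Groth.Agent.GrpdLib.FppfSourceDescentScheme
import Groth.Agent.GrpQuot19.Field
import Groth.Agent.S3293
import Groth.Agent.S4094
import Mathlib.AlgebraicGeometry.Morphisms.Proper
import Mathlib.AlgebraicGeometry.Morphisms.QuasiFinite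

/-!
# Affine subgroups and the anti-affine subgroup

If `G/N` admits no non-trivial affine quotient (for example it is proper and connected, or anti-affine)
and `N` is affine, then `G = N · G_ant` on points, and `G_ant` is the smallest subgroup with this property.
-/

set_option autoImplicit false
set_option linter.style.haveILetI false
set_option backward.isDefEq.respectTransparency false

universe u

open CategoryTheory MonoidalCategory CartesianMonoidalCategory MonObj GrpObj AlgebraicGeometry Limits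
open Groth.Agent.GrpAff

noncomputable section

namespace Groth.Agent.GrpScheme.AntiAffineProd

open UnipLib (Cover)

variable {k : Type u} [Field k]

local notation "Sk" => Spec (CommRingCat.of k)

/-- The unit of a trivial composite, in points. -/
lemma killed_toHull_iff {G : Over Sk} [GrpObj G] [LocallyOfFiniteType G.hom] [QuasiCompact G.hom]
    {T : Over Sk} (z : T ⟶ G) :
    z ≫ toHull G = 1 ↔ z.left ≫ G.left.toSpecΓ = (toUnit T).left ≫ η[G].left ≫ G.left.toSpecΓ := by
  rw [show (1 : T ⟶ hull G) = (toUnit T ≫ η[G]) ≫ toHull G by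
    rw [Category.assoc, IsMonHom.one_hom, ← Hom.one_def]]
  exact ⟨fun h => congrArg CommaMorphism.left h, fun h => Over.OverMorphism.ext h⟩

/-- The scheme theoretic image of a homomorphism. -/
theorem exists_image {G H : Over Sk} [GrpObj G] [GrpObj H] [LocallyOfFiniteType G.hom] [QuasiCompact G.hom]
    [LocallyOfFiniteType H.hom] (f : G ⟶ H) [IsMonHom f] :
    ∃ (Q : Over Sk) (_ : GrpObj Q) (p : G ⟶ Q) (i : Q ⟶ H), IsMonHom p ∧ IsMonHom i ∧ Cover p ∧
      IsClosedImmersion i.left ∧ LocallyOfFiniteType Q.hom ∧ QuasiCompact Q.hom ∧ p ≫ i = f := by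
  haveI : LocallyOfFinitePresentation G.hom := inferInstance
  obtain ⟨Q, hQ, p, i, hp, hi, hpi, hsurj, hflat, -, hmono, hQlfp, -⟩ :=
    Groth.Agent.S4094.result _ G H f inferInstance
  haveI : CompactSpace G.left := (quasiCompact_iff_compactSpace G.hom).1 inferInstance
  haveI : CompactSpace Q.left := ⟨by
    rw [← Set.image_univ_of_surjective hsurj.surj]
    exact isCompact_univ.image p.left.continuous⟩
  haveI : QuasiCompact Q.hom := (quasiCompact_iff_compactSpace Q.hom).2 inferInstance
  haveI : IsSeparated Q.hom := GrpdLib.GrpOver.isSeparated_hom Q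
  haveI : IsSeparated H.hom := GrpdLib.GrpOver.isSeparated_hom H
  haveI : QuasiCompact (i.left ≫ H.hom) := by rw [Over.w i]; infer_instance
  haveI : QuasiCompact i.left := QuasiCompact.of_comp i.left H.hom
  haveI : QuasiCompact (p.left ≫ Q.hom) := by rw [Over.w p]; infer_instance
  refine ⟨Q, hQ, p, i, hp, hi, ⟨hflat, hsurj, QuasiCompact.of_comp p.left Q.hom⟩,
    GrpArtin.Descend.isClosedImmersion_of_mono i, inferInstance, inferInstance, hpi⟩

/-- A faithfully flat quotient of an affine group is affine. -/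
theorem isAffine_of_cover {G Q : Over Sk} [GrpObj G] [GrpObj Q] [IsAffine G.left] [LocallyOfFiniteType G.hom]
    [LocallyOfFiniteType Q.hom] (p : G ⟶ Q) [IsMonHom p] (hp : Cover p) : IsAffine Q.left := by
  haveI : IsSeparated Q.hom := GrpdLib.GrpOver.isSeparated_hom Q
  obtain ⟨N, hN, i, hi, hmono, hci, hi1, hlift⟩ := UnipLib.exists_kernel_grp p
  haveI : LocallyOfFiniteType N.hom := by rw [← Over.w i]; infer_instance
  haveI : QuasiCompact N.hom := by rw [← Over.w i]; infer_instance
  have hnorm : AlgGrp.IsNormalHom i := fun T g n => by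
    obtain ⟨n', hn'⟩ := hlift (g * (n ≫ i) * g⁻¹) (by
      rw [MonObj.mul_comp, MonObj.mul_comp, Category.assoc, hi1, MonObj.comp_one, _root_.mul_one, GrpObj.inv_comp,
        mul_inv_cancel])
    exact ⟨n', hn'.symm⟩
  obtain ⟨Q', hQ', q, hq, hQ'aff, hQ'lft, hqf, hqs, hqk⟩ := GrpdLib.AffNormalQuot.exists_affine_quotient G N i hnorm
  haveI : QuasiCompact (q.left ≫ Q'.hom) := by rw [Over.w q]; infer_instance
  haveI : IsSeparated Q'.hom := GrpdLib.GrpOver.isSeparated_hom Q'
  have hqc : Cover q := ⟨hqf, hqs, QuasiCompact.of_comp q.left Q'.hom⟩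
  obtain ⟨t, ht⟩ := hqc.exists_desc p fun {T} a b hab => by
    obtain ⟨z, hz, -⟩ := hqk.exists_lift (a⁻¹ * b) (toUnit T) (by
      rw [MonObj.mul_comp, GrpObj.inv_comp, hab, inv_mul_cancel, Hom.one_def])
    have e := congrArg (· ≫ p) hz
    simp only [Category.assoc, hi1, MonObj.comp_one, MonObj.mul_comp, GrpObj.inv_comp] at e
    exact inv_mul_eq_one.mp e.symm
  haveI : IsMonHom t := hqc.isMonHom t (by rw [ht]; infer_instance)
  haveI : IsIso t := isIso_of_kernel_le hqc hp t ht fun {T} z hz => by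
    obtain ⟨w, hw⟩ := hlift z hz
    have h : i ≫ q = toUnit N ≫ η[Q'] := hqk.w
    rw [← hw, Category.assoc, h, ← Category.assoc, toUnit_unique (w ≫ toUnit N) (toUnit T), ← Hom.one_def]
  haveI : IsIso t.left := inferInstanceAs (IsIso ((Over.forget _).map t))
  exact IsAffine.of_isIso (inv t.left)

/-- Lifting through a monomorphism can be checked on a cover. -/
theorem exists_lift_of_cover {T' T Q H : Over Sk} {r : T' ⟶ T} (hr : Cover r) (i : Q ⟶ H) [Mono i] (x : T ⟶ H)
    (z : T' ⟶ Q) (hz : z ≫ i = r ≫ x) : ∃ y : T ⟶ Q, y ≫ i = x := by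
  obtain ⟨y, hy⟩ := hr.exists_desc z fun a b hab => by
    rw [← cancel_mono i, Category.assoc, Category.assoc, hz, ← Category.assoc, hab, Category.assoc]
  haveI := hr.epi
  exact ⟨y, by rw [← cancel_epi r, ← Category.assoc, hy, hz]⟩

/-- The image of a normal subgroup under a faithfully flat homomorphism is normal. -/
theorem isNormalHom_image {G H N Q : Over Sk} [GrpObj G] [GrpObj H] [GrpObj N] [GrpObj Q]
    (p : G ⟶ H) [IsMonHom p] (hp : Cover p) (i : N ⟶ G) (hN : AlgGrp.IsNormalHom i)
    (e : N ⟶ Q) (he : Cover e) (j : Q ⟶ H) [Mono j] (hej : e ≫ j = i ≫ p) : AlgGrp.IsNormalHom j := by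
  intro T x y
  obtain ⟨T₁, r₁, g, hr₁, hg⟩ := hp.exists_cover x
  obtain ⟨T₂, r₂, n, hr₂, hn⟩ := he.exists_cover (r₁ ≫ y)
  obtain ⟨n', hn'⟩ := hN T₂ (r₂ ≫ g) n
  obtain ⟨w, hw⟩ := exists_lift_of_cover (hr₂.comp hr₁) j (x * (y ≫ j) * x⁻¹) (n' ≫ e) (by
    rw [Category.assoc, hej, ← Category.assoc, ← hn', MonObj.mul_comp, MonObj.mul_comp, GrpObj.inv_comp,
      Category.assoc n, ← hej, reassoc_of% hn, Category.assoc r₂, hg, MonObj.comp_mul, MonObj.comp_mul,
      GrpObj.comp_inv]
    simp only [Category.assoc])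
  exact ⟨w, hw.symm⟩

/-- A faithfully flat image of a proper connected group has no non-trivial affine quotient. -/
theorem subsingleton_of_proper {A P : Over Sk} [IsProper A.hom] [ConnectedSpace A.left] [IsAffine P.left]
    [LocallyOfFiniteType P.hom] (h : A ⟶ P) (hs : Surjective h.left) : Subsingleton P.left := by
  haveI : UniversallyClosed (h.left ≫ P.hom) := by rw [Over.w h]; infer_instance
  haveI : UniversallyClosed P.hom := UniversallyClosed.of_comp_surjective h.left P.hom
  haveI : IsAffineHom P.hom := inferInstance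
  haveI : IsProper P.hom := ⟨⟩
  haveI : IsFinite P.hom := IsFinite.iff_isProper_and_isAffineHom.mpr ⟨inferInstance, inferInstance⟩
  haveI : Finite P.left := by
    have := P.hom.finite_preimage Set.finite_univ
    simpa [Set.finite_univ_iff] using this
  haveI : JacobsonSpace P.left := LocallyOfFiniteType.jacobsonSpace P.hom
  haveI : DiscreteTopology P.left := inferInstance
  haveI : PreconnectedSpace P.left :=
    ⟨(Set.range_eq_univ.mpr hs.surj) ▸ (isPreconnected_range h.left.continuous)⟩
  exact PreconnectedSpace.trivial_of_discrete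

/-- A faithfully flat image of an anti-affine group is anti-affine. -/
theorem antiAffine_of_cover {A P : Over Sk} (h : A ⟶ P) (hc : Cover h) [IsIso A.hom.appTop] :
    IsIso P.hom.appTop := by
  haveI := hc.flat; haveI := hc.surj; haveI := hc.qc
  have hw : P.hom.appTop ≫ h.left.appTop = A.hom.appTop := by rw [← Scheme.Hom.comp_appTop, Over.w h]
  haveI : Mono h.left.appTop := ConcreteCategory.mono_of_injective _ (GlobalSections.appTop_injective h.left)
  haveI : IsSplitEpi h.left.appTop := IsSplitEpi.mk' ⟨inv A.hom.appTop ≫ P.hom.appTop, by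
    rw [Category.assoc, hw, IsIso.inv_hom_id]⟩
  haveI : IsIso h.left.appTop := isIso_of_mono_of_isSplitEpi _
  haveI : IsIso (P.hom.appTop ≫ h.left.appTop) := hw ▸ inferInstance
  exact IsIso.of_isIso_comp_right P.hom.appTop h.left.appTop

/-- An affine anti-affine scheme is the base point. -/
theorem isIso_hom_of_isAffine (N : Over Sk) [IsAffine N.left] [IsIso N.hom.appTop] : IsIso N.hom := by
  have h := Scheme.isoSpec_hom_naturality N.hom
  rw [show N.hom = N.left.isoSpec.hom ≫ Spec.map N.hom.appTop ≫ (Spec (CommRingCat.of k)).isoSpec.inv by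
    rw [← Category.assoc, Iso.eq_comp_inv]; exact h.symm]
  infer_instance

/-- An affine group receiving a cover from an anti-affine one is a point. -/
theorem subsingleton_of_antiAffine {A P : Over Sk} [IsAffine P.left] (h : A ⟶ P) (hc : Cover h)
    [IsIso A.hom.appTop] : Subsingleton P.left := by
  haveI := antiAffine_of_cover h hc
  haveI := isIso_hom_of_isAffine P
  exact P.hom.homeomorph.injective.subsingleton

/-- The scheme theoretically universal property of the anti-affine subgroup, from its maximality. -/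
theorem lift_of_max {G M : Over Sk} [GrpObj G] [GrpObj M] [LocallyOfFiniteType G.hom] [QuasiCompact G.hom]
    (j : M ⟶ G)
    (hmax : ∀ (M₁ : Over Sk) [GrpObj M₁] [LocallyOfFiniteType M₁.hom] [QuasiCompact M₁.hom] (j₁ : M₁ ⟶ G)
      [IsMonHom j₁] [IsClosedImmersion j₁.left],
      Function.Bijective ((Scheme.ΓSpecIso (CommRingCat.of k)).inv ≫ M₁.hom.appTop).hom → ∃ g : M₁ ⟶ M, g ≫ j = j₁)
    {T : Over Sk} (z : T ⟶ G) (hz : z ≫ toHull G = 1) : ∃ m : T ⟶ M, m ≫ j = z := by
  obtain ⟨N, hN, i, hi, hci, hpb, hNc⟩ := exists_antiAffine_kernel G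
  haveI := hi; haveI := hci
  haveI : LocallyOfFiniteType N.hom := by rw [← Over.w i]; infer_instance
  haveI : QuasiCompact N.hom := by rw [← Over.w i]; infer_instance
  obtain ⟨g, hg⟩ := hmax N i ((GrpScheme.AntiAffine.bijective_iff_isIso N).mpr hNc)
  have e := (killed_toHull_iff z).1 hz
  let w : T ⟶ N := Over.homMk (hpb.lift z.left (toUnit T).left e)
    (by rw [← Over.w i, ← Category.assoc, hpb.lift_fst, Over.w])
  exact ⟨w ≫ g, by rw [Category.assoc, hg]; exact Over.OverMorphism.ext (hpb.lift_fst _ _ _)⟩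

/-- `G = N · G_ant` on points. -/
theorem exists_decomp {G N A M : Over Sk} [GrpObj G] [GrpObj N] [GrpObj A] [GrpObj M]
    [LocallyOfFiniteType G.hom] [QuasiCompact G.hom]
    (i : N ⟶ G) [IsMonHom i] [IsClosedImmersion i.left] (hN : AlgGrp.IsNormalHom i)
    (q : G ⟶ A) [IsMonHom q] (hq : Cover q) (hker : AlgGrp.IsKernel i q)
    (hA : ∀ (P : Over Sk) [IsAffine P.left] [LocallyOfFiniteType P.hom] (h : A ⟶ P), Cover h →
      Subsingleton P.left)
    (j : M ⟶ G) (hM : ∀ {T : Over Sk} (z : T ⟶ G), z ≫ toHull G = 1 → ∃ m : T ⟶ M, m ≫ j = z)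
    {T : Over Sk} (g : T ⟶ G) :
    ∃ (T' : Over Sk) (r : T' ⟶ T) (n : T' ⟶ N) (m : T' ⟶ M), Surjective r.left ∧ r ≫ g = (n ≫ i) * (m ≫ j) := by
  haveI : IsAffine (hull G).left := inferInstance
  obtain ⟨htc, htl⟩ := cover_toHull G
  haveI := htl
  haveI : LocallyOfFiniteType N.hom := by rw [← Over.w i]; infer_instance
  haveI : QuasiCompact N.hom := by rw [← Over.w i]; infer_instance
  obtain ⟨Q, hQ, e, ι', he, hι, hec, hιc, hQl, hQq, heι⟩ := exists_image (i ≫ toHull G)
  haveI : Mono ι' := Over.mono_of_mono_left ι'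
  have hnorm : AlgGrp.IsNormalHom ι' := isNormalHom_image (toHull G) htc i hN e hec ι' heι
  obtain ⟨P, hP, π, hπ, hPaff, hPl, hπf, hπs, hπk⟩ := GrpdLib.AffNormalQuot.exists_affine_quotient (hull G) Q ι' hnorm
  haveI : QuasiCompact π.left := by
    haveI : IsSeparated P.hom := GrpdLib.GrpOver.isSeparated_hom P
    haveI : QuasiCompact (π.left ≫ P.hom) := by rw [Over.w π]; infer_instance
    exact QuasiCompact.of_comp π.left P.hom
  have hcomp : Cover (toHull G ≫ π) := htc.comp ⟨hπf, hπs, inferInstance⟩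
  have hkill : i ≫ toHull G ≫ π = 1 := by
    rw [← Category.assoc, ← heι, Category.assoc, show ι' ≫ π = toUnit Q ≫ η[P] from hπk.w, ← Category.assoc,
      toUnit_unique (e ≫ toUnit Q) (toUnit N), Hom.one_def]
  obtain ⟨h, hh⟩ := hq.exists_desc (toHull G ≫ π) fun {T} a b hab => by
    obtain ⟨z, hz, -⟩ := hker.exists_lift (a⁻¹ * b) (toUnit T) (by
      rw [MonObj.mul_comp, GrpObj.inv_comp, hab, inv_mul_cancel, Hom.one_def])
    have e := congrArg (· ≫ (toHull G ≫ π)) hz
    simp only [Category.assoc, hkill, MonObj.comp_one, MonObj.mul_comp, GrpObj.inv_comp] at e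
    exact inv_mul_eq_one.mp e.symm
  have hhc : Cover h := by
    haveI : Surjective (q.left ≫ h.left) := by rw [← Over.comp_left, hh]; exact hcomp.surj
    haveI : Flat (q.left ≫ h.left) := by rw [← Over.comp_left, hh]; exact hcomp.flat
    haveI : QuasiCompact (q.left ≫ h.left) := by rw [← Over.comp_left, hh]; exact hcomp.qc
    haveI := hq.surj; haveI := hq.flat; haveI := hq.qc
    haveI : CompactSpace G.left := (quasiCompact_iff_compactSpace G.hom).1 inferInstance
    haveI : CompactSpace A.left := ⟨by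
      rw [← Set.image_univ_of_surjective hq.surj.surj]
      exact isCompact_univ.image q.left.continuous⟩
    haveI : QuasiCompact A.hom := (quasiCompact_iff_compactSpace A.hom).2 inferInstance
    haveI : IsSeparated P.hom := inferInstance
    haveI : QuasiCompact (h.left ≫ P.hom) := by rw [Over.w h]; infer_instance
    exact ⟨GrpdLib.flat_of_comp_flat_surjective q.left h.left, Surjective.of_comp q.left h.left,
      QuasiCompact.of_comp h.left P.hom⟩
  haveI := hA P h hhc
  haveI : Surjective η[P].left := ⟨fun p => ⟨IsLocalRing.closedPoint k, Subsingleton.elim _ _⟩⟩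
  haveI : Surjective ι'.left :=
    MorphismProperty.of_isPullback (GrpdLib.GrpOver.isPullback_left hπk).flip ‹Surjective η[P].left›
  haveI : Surjective (i ≫ toHull G).left := by
    haveI := hec.surj
    rw [← heι, Over.comp_left]
    infer_instance
  have hsq := (IsPullback.of_hasPullback (i ≫ toHull G) (g ≫ toHull G)).map (Over.forget Sk)
  let T' := pullback (i ≫ toHull G) (g ≫ toHull G)
  let r : T' ⟶ T := pullback.snd _ _
  let n : T' ⟶ N := pullback.fst _ _
  haveI hr : Surjective r.left := MorphismProperty.of_isPullback hsq ‹Surjective (i ≫ toHull G).left›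
  obtain ⟨m, hm⟩ := hM ((n ≫ i)⁻¹ * (r ≫ g)) (by
    rw [MonObj.mul_comp, GrpObj.inv_comp, Category.assoc, Category.assoc,
      show n ≫ i ≫ toHull G = r ≫ g ≫ toHull G from pullback.condition, inv_mul_cancel])
  exact ⟨T', r, n, m, hr, by rw [hm, mul_inv_cancel_left]⟩

/-- The point of a scheme over the base. -/
abbrev ptOf {X : Over Sk} (x : X.left) : Over.mk (X.left.fromSpecResidueField x ≫ X.hom) ⟶ X :=
  Over.homMk (X.left.fromSpecResidueField x)

/-- A decomposition of all points gives surjectivity of the multiplication. -/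
theorem surjective_mul {G N M : Over Sk} [GrpObj G] (i : N ⟶ G) (j : M ⟶ G)
    (h : ∀ {T : Over Sk} (g : T ⟶ G), ∃ (T' : Over Sk) (r : T' ⟶ T) (n : T' ⟶ N) (m : T' ⟶ M),
      Surjective r.left ∧ r ≫ g = (n ≫ i) * (m ≫ j)) :
    Surjective ((i ⊗ₘ j) ≫ μ[G]).left := by
  refine ⟨fun x => ?_⟩
  obtain ⟨T', r, n, m, hr, he⟩ := h (ptOf x)
  let s : (Over.mk (G.left.fromSpecResidueField x ≫ G.hom)).left := (IsLocalRing.closedPoint (G.left.residueField x) :)
  obtain ⟨t, ht⟩ := hr.surj s
  refine ⟨(lift n m).left t, ?_⟩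
  have e : lift n m ≫ (i ⊗ₘ j) ≫ μ[G] = r ≫ ptOf x := by
    rw [lift_map_assoc, he, Hom.mul_def]
  calc ((i ⊗ₘ j) ≫ μ[G]).left ((lift n m).left t) = (lift n m ≫ (i ⊗ₘ j) ≫ μ[G]).left t :=
        (Scheme.Hom.comp_apply _ _ _).symm
    _ = (r ≫ ptOf x).left t := by rw [e]
    _ = x := by
      rw [Over.comp_left, Scheme.Hom.comp_apply, ht]
      exact Scheme.fromSpecResidueField_apply x s

/-- If the target of a cover is proper and connected, it has no affine quotient. -/
theorem noAffineQuotient_of_proper (A : Over Sk) [IsProper A.hom] [ConnectedSpace A.left] (P : Over Sk)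
    [IsAffine P.left] [LocallyOfFiniteType P.hom] (h : A ⟶ P) (hc : Cover h) : Subsingleton P.left :=
  subsingleton_of_proper h hc.surj

/-- `G = N · G_ant` and `G_ant` is contained in every `H` with `G = H · N`. -/
theorem surjective_and_smallest {G N A M : Over Sk} [GrpObj G] [GrpObj N] [GrpObj A] [GrpObj M]
    [LocallyOfFiniteType G.hom] [QuasiCompact G.hom] [IsAffine N.left]
    (i : N ⟶ G) [IsMonHom i] [IsClosedImmersion i.left] (hN : AlgGrp.IsNormalHom i)
    [IsProper A.hom] (q : G ⟶ A) [IsMonHom q] [Surjective q.left] [Flat q.left] [ConnectedSpace G.left]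
    (hker : AlgGrp.IsKernel i q)
    [LocallyOfFiniteType M.hom] [QuasiCompact M.hom] (j : M ⟶ G) [IsMonHom j] [IsClosedImmersion j.left]
    (hM : Function.Bijective ((Scheme.ΓSpecIso (CommRingCat.of k)).inv ≫ M.hom.appTop).hom)
    (hMmax : ∀ (M₁ : Over Sk) [GrpObj M₁] [LocallyOfFiniteType M₁.hom] [QuasiCompact M₁.hom] (j₁ : M₁ ⟶ G)
      [IsMonHom j₁] [IsClosedImmersion j₁.left],
      Function.Bijective ((Scheme.ΓSpecIso (CommRingCat.of k)).inv ≫ M₁.hom.appTop).hom → ∃ g : M₁ ⟶ M, g ≫ j = j₁) :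
    Surjective ((i ⊗ₘ j) ≫ μ[G]).left ∧
      ∀ (H : Over Sk) [GrpObj H] (h : H ⟶ G) [IsMonHom h] [IsClosedImmersion h.left],
        Surjective ((h ⊗ₘ i) ≫ μ[G]).left → ∃ g : M ⟶ H, g ≫ h = j := by
  haveI : IsSeparated A.hom := inferInstance
  have hqc : Cover q := by
    haveI : QuasiCompact (q.left ≫ A.hom) := by rw [Over.w q]; infer_instance
    exact ⟨inferInstance, inferInstance, QuasiCompact.of_comp q.left A.hom⟩
  haveI : ConnectedSpace A.left := by
    haveI : Nonempty A.left := Nonempty.map q.left.base inferInstance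
    exact { toNonempty := inferInstance, toPreconnectedSpace :=
      ⟨(Set.range_eq_univ.mpr q.left.surjective) ▸ (isPreconnected_range q.left.continuous)⟩ }
  have hlift : ∀ {T : Over Sk} (z : T ⟶ G), z ≫ toHull G = 1 → ∃ m : T ⟶ M, m ≫ j = z :=
    fun z hz => lift_of_max j hMmax z hz
  refine ⟨surjective_mul i j fun g =>
    exists_decomp i hN q hqc hker (fun P _ _ h hc => noAffineQuotient_of_proper A P h hc) j hlift g, ?_⟩
  intro H _ h _ _ hsurj
  haveI : LocallyOfFiniteType H.hom := by rw [← Over.w h]; infer_instance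
  haveI : QuasiCompact H.hom := by rw [← Over.w h]; infer_instance
  -- `H` surjects onto `A`
  have hiq : i ≫ q = toUnit N ≫ η[A] := hker.w
  haveI : Surjective (h ≫ q).left := by
    have e : ((h ⊗ₘ i) ≫ μ[G]) ≫ q = fst H N ≫ h ≫ q := by
      rw [MonObj.mul_eq_mul, MonObj.comp_mul, MonObj.mul_comp, tensorHom_fst, tensorHom_snd]
      simp only [Category.assoc]
      rw [hiq, ← Category.assoc (snd H N), toUnit_unique (snd H N ≫ toUnit N) (toUnit _), ← Hom.one_def,
        _root_.mul_one]
    haveI : Surjective ((fst H N).left ≫ (h ≫ q).left) := by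
      rw [← Over.comp_left, ← e, Over.comp_left]
      haveI := hsurj
      infer_instance
    exact Surjective.of_comp (fst H N).left (h ≫ q).left
  obtain ⟨QA, hQA, p, ιA, hp, hιA, hpc, hιAc, hQAl, hQAq, hpι⟩ := exists_image (h ≫ q)
  haveI : IsProper QA.hom := by rw [← Over.w ιA]; infer_instance
  haveI : Surjective ιA.left := by
    haveI : Surjective (p.left ≫ ιA.left) := by rw [← Over.comp_left, hpι]; infer_instance
    exact Surjective.of_comp p.left ιA.left
  haveI : ConnectedSpace QA.left := by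
    have hb : Function.Bijective ιA.left.base :=
      ⟨ιA.left.isClosedEmbedding.injective, ιA.left.surjective⟩
    have e := ((Equiv.ofBijective _ hb).toHomeomorphOfContinuousClosed ιA.left.continuous
      ιA.left.isClosedEmbedding.isClosedMap).symm
    haveI : Nonempty QA.left := Nonempty.map e inferInstance
    exact { toNonempty := inferInstance, toPreconnectedSpace :=
      ⟨(Set.range_eq_univ.mpr e.surjective) ▸ (isPreconnected_range e.continuous)⟩ }
  -- the affine kernel
  obtain ⟨N', hN', i', hi', hi'm, hi'c, hi'1, hi'l⟩ := UnipLib.exists_kernel_grp p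
  haveI : Mono i := Over.mono_of_mono_left i
  obtain ⟨v, hv, -⟩ := hker.exists_lift (i' ≫ h) (toUnit N') (by
    rw [Category.assoc, ← hpι, ← Category.assoc, hi'1, MonObj.one_comp, Hom.one_def])
  haveI : IsClosedImmersion (v.left ≫ i.left) := by rw [← Over.comp_left, hv, Over.comp_left]; infer_instance
  haveI : IsClosedImmersion v.left := IsClosedImmersion.of_comp v.left i.left
  haveI : IsAffine N'.left := isAffine_of_isAffineHom v.left
  have hnorm' : AlgGrp.IsNormalHom i' := fun T g n => by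
    obtain ⟨n', hn'⟩ := hi'l (g * (n ≫ i') * g⁻¹) (by
      rw [MonObj.mul_comp, MonObj.mul_comp, Category.assoc, hi'1, MonObj.comp_one, _root_.mul_one, GrpObj.inv_comp,
        mul_inv_cancel])
    exact ⟨n', hn'.symm⟩
  have hker' : AlgGrp.IsKernel i' p := by
    refine IsPullback.of_isLimit' ⟨hi'1.trans Hom.one_def⟩ (PullbackCone.IsLimit.mk _
      (fun c => (hi'l c.fst (by rw [c.condition, toUnit_unique c.snd (toUnit _), Hom.one_def])).choose)
      (fun c => ?_) (fun c => toUnit_unique _ _) (fun c w h₁ h₂ => ?_))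
    · exact (hi'l c.fst (by rw [c.condition, toUnit_unique c.snd (toUnit _), Hom.one_def])).choose_spec
    · rw [← cancel_mono i', h₁]
      exact (hi'l c.fst (by rw [c.condition, toUnit_unique c.snd (toUnit _), Hom.one_def])).choose_spec.symm
  -- the anti-affine subgroup of `H`
  obtain ⟨MH, hMH, jH, hjH, hjHc, hpb, hMHc⟩ := exists_antiAffine_kernel H
  haveI : LocallyOfFiniteType MH.hom := by rw [← Over.w jH]; infer_instance
  haveI : QuasiCompact MH.hom := by rw [← Over.w jH]; infer_instance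
  have hliftH : ∀ {T : Over Sk} (z : T ⟶ H), z ≫ toHull H = 1 → ∃ m : T ⟶ MH, m ≫ jH = z := fun {T} z hz =>
    ⟨Over.homMk (hpb.lift z.left (toUnit T).left ((killed_toHull_iff z).1 hz))
      (by rw [← Over.w jH, ← Category.assoc, hpb.lift_fst, Over.w]), Over.OverMorphism.ext (hpb.lift_fst _ _ _)⟩
  haveI : IsClosedImmersion (jH ≫ h).left := by rw [Over.comp_left]; infer_instance
  obtain ⟨ρ, hρ⟩ := hMmax MH (jH ≫ h) ((GrpScheme.AntiAffine.bijective_iff_isIso MH).mpr hMHc)
  haveI : Mono j := Over.mono_of_mono_left j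
  haveI : IsMonHom ρ := WittLib.Basic.isMonHom_of_points _ fun T x y => by
    rw [← cancel_mono j, Category.assoc, hρ, MonObj.mul_comp x y (jH ≫ h), MonObj.mul_comp (x ≫ ρ) (y ≫ ρ) j, Category.assoc x ρ, Category.assoc y ρ, hρ]
  haveI : IsClosedImmersion (ρ.left ≫ j.left) := by rw [← Over.comp_left, hρ]; infer_instance
  haveI : IsClosedImmersion ρ.left := IsClosedImmersion.of_comp ρ.left j.left
  haveI : Mono ρ := Over.mono_of_mono_left ρ
  haveI : IsCommMonObj M := (Groth.Agent.S3293.result k M hM).2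
  have hρn : AlgGrp.IsNormalHom ρ := fun T g n => ⟨n, by rw [mul_comm g, mul_inv_cancel_right]⟩
  -- the quotient of `M` by the anti-affine subgroup of `H`
  obtain ⟨X, π, hπf, hπs, hπlfp, sq⟩ := GrpQuot19.Field.exists_quotient_of_closedSubgroup (G := M) (F := MH) ρ
  have hmul : (M ◁ ρ) ≫ μ[M] = fst M MH * (snd M MH ≫ ρ) := by
    rw [MonObj.mul_eq_mul, MonObj.comp_mul, whiskerLeft_fst, whiskerLeft_snd]
  have hrel : ∀ {T : Over Sk} (x y : T ⟶ M), x ≫ π = y ≫ π ↔ ∃ z : T ⟶ MH, z ≫ ρ = x⁻¹ * y := by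
    intro T x y
    refine ⟨fun he => ⟨sq.lift y x he.symm ≫ snd M MH, ?_⟩, fun ⟨z, hz⟩ => ?_⟩
    · have h1 := sq.lift_snd y x he.symm
      have h2 := sq.lift_fst y x he.symm
      have h2 : sq.lift y x he.symm ≫ (fst M MH * (snd M MH ≫ ρ)) = y :=
        (congrArg (sq.lift y x he.symm ≫ ·) hmul.symm).trans h2
      rw [MonObj.comp_mul, h1] at h2
      rw [Category.assoc]
      exact eq_inv_mul_iff_mul_eq.2 h2
    · have h := congrArg (lift x z ≫ ·) sq.w
      simp only [← Category.assoc, hmul, MonObj.comp_mul, lift_fst] at h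
      rw [lift_snd, hz, mul_inv_cancel_left] at h
      exact h.symm
  obtain ⟨_, hπm, hπk⟩ := GrpdLib.AffNormalQuot.exists_quotGroup ρ π hrel hρn
  haveI : LocallyOfFiniteType (π.left ≫ X.hom) := by rw [Over.w π]; infer_instance
  haveI : LocallyOfFiniteType X.hom :=
    GrpdLib.FppfSourceDescent.locallyOfFiniteType_of_comp_fppf π.left X.hom
  haveI : CompactSpace M.left := (quasiCompact_iff_compactSpace M.hom).1 inferInstance
  haveI : CompactSpace X.left := ⟨by
    rw [← Set.image_univ_of_surjective hπs.surj]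
    exact isCompact_univ.image π.left.continuous⟩
  haveI : QuasiCompact X.hom := (quasiCompact_iff_compactSpace X.hom).2 inferInstance
  haveI : IsSeparated X.hom := GrpdLib.GrpOver.isSeparated_hom X
  have hπc : Cover π := by
    haveI : QuasiCompact (π.left ≫ X.hom) := by rw [Over.w π]; infer_instance
    exact ⟨hπf, hπs, QuasiCompact.of_comp π.left X.hom⟩
  haveI : IsIso M.hom.appTop := (GrpScheme.AntiAffine.bijective_iff_isIso M).mp hM
  haveI := antiAffine_of_cover π hπc
  -- it is the image of the affine group `M ∩ N`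
  obtain ⟨F, hF, iF, hiF, hiFm, hiFc, hiF1, hiFl⟩ := UnipLib.exists_kernel_grp (j ≫ q)
  obtain ⟨w, hw, -⟩ := hker.exists_lift (iF ≫ j) (toUnit F) (by
    rw [Category.assoc, hiF1, Hom.one_def])
  haveI : IsClosedImmersion (w.left ≫ i.left) := by rw [← Over.comp_left, hw, Over.comp_left]; infer_instance
  haveI : IsClosedImmersion w.left := IsClosedImmersion.of_comp w.left i.left
  haveI : IsAffine F.left := isAffine_of_isAffineHom w.left
  haveI : LocallyOfFiniteType F.hom := by rw [← Over.w iF]; infer_instance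
  haveI : QuasiCompact F.hom := by rw [← Over.w iF]; infer_instance
  obtain ⟨QX, hQX, pX, ιX, hpX, hιX, hpXc, hιXc, hQXl, hQXq, hpXι⟩ := exists_image (iF ≫ π)
  haveI : Surjective ιX.left := by
    refine ⟨fun x => ?_⟩
    obtain ⟨m₀, rfl⟩ := hπs.surj x
    let g := ptOf m₀
    let s : (Over.mk (M.left.fromSpecResidueField m₀ ≫ M.hom)).left :=
      (IsLocalRing.closedPoint (M.left.residueField m₀) :)
    let T₁ := pullback (h ≫ q) (g ≫ j ≫ q)
    let r₁ : T₁ ⟶ _ := pullback.snd _ _
    haveI : Surjective r₁.left := MorphismProperty.of_isPullback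
      ((IsPullback.of_hasPullback (h ≫ q) (g ≫ j ≫ q)).map (Over.forget Sk)) ‹Surjective (h ≫ q).left›
    obtain ⟨T₂, r₂, n', m', hr₂, he⟩ := exists_decomp i' hnorm' p hpc hker'
      (fun P _ _ f hc => noAffineQuotient_of_proper QA P f hc) jH hliftH (pullback.fst (h ≫ q) (g ≫ j ≫ q))
    have hx : pullback.fst (h ≫ q) (g ≫ j ≫ q) ≫ h ≫ q = r₁ ≫ g ≫ j ≫ q := pullback.condition
    obtain ⟨f, hf⟩ := hiFl ((r₂ ≫ r₁ ≫ g) * (m' ≫ ρ)⁻¹) (by
      have e : (r₂ ≫ pullback.fst (h ≫ q) (g ≫ j ≫ q)) ≫ h ≫ q = (m' ≫ jH) ≫ h ≫ q := by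
        rw [he, MonObj.mul_comp, show (n' ≫ i') ≫ h ≫ q = 1 by
          rw [← hpι, Category.assoc, reassoc_of% hi'1, MonObj.one_comp, MonObj.comp_one], _root_.one_mul]
      rw [Category.assoc, hx] at e
      rw [MonObj.mul_comp, GrpObj.inv_comp, mul_inv_eq_one]
      simp only [Category.assoc] at e ⊢
      rw [e, reassoc_of% hρ])
    obtain ⟨t₁, ht₁⟩ := (inferInstance : Surjective r₁.left).surj s
    obtain ⟨t₂, ht₂⟩ := hr₂.surj t₁
    refine ⟨(f ≫ pX).left t₂, ?_⟩
    have e : (f ≫ pX) ≫ ιX = r₂ ≫ r₁ ≫ g ≫ π := by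
      rw [Category.assoc, hpXι, ← Category.assoc, hf, MonObj.mul_comp, GrpObj.inv_comp, Category.assoc m',
        show ρ ≫ π = toUnit MH ≫ η[X] from hπk.w, ← Category.assoc m', toUnit_unique (m' ≫ toUnit MH) (toUnit _),
        ← Hom.one_def, _root_.inv_one, _root_.mul_one]
      simp only [Category.assoc]
    calc ιX.left ((f ≫ pX).left t₂) = ((f ≫ pX) ≫ ιX).left t₂ := by
          simp only [Over.comp_left, Scheme.Hom.comp_apply]
      _ = (r₂ ≫ r₁ ≫ g ≫ π).left t₂ := by rw [e]
      _ = π.left m₀ := by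
        simp only [Over.comp_left, Scheme.Hom.comp_apply]
        rw [ht₂, ht₁]
        exact congrArg π.left (Scheme.fromSpecResidueField_apply m₀ s)
  haveI : Smooth X.hom := smooth_of_antiAffine X inferInstance
  haveI : IsReduced X.left := HomFlat.isReduced_of_smooth X.hom
  haveI : IsAffine QX.left := isAffine_of_cover pX hpXc
  haveI : IsIso ιX.left := isIso_of_isClosedImmersion_of_surjective ιX.left
  haveI : IsAffine X.left := IsAffine.of_isIso (inv ιX.left)
  haveI := isIso_hom_of_isAffine X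
  obtain ⟨u, hu, -⟩ := hπk.exists_lift (𝟙 M) (toUnit M)
    (Over.OverMorphism.ext ((cancel_mono X.hom).1 (by rw [Over.w, Over.w])))
  exact ⟨u ≫ jH, by rw [Category.assoc, ← hρ, ← Category.assoc, hu, Category.id_comp]⟩

end Groth.Agent.GrpScheme.AntiAffineProd
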