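import Mathlib.AlgebraicGeometry.Morphisms.SchemeTheoreticallyDominant
import Mathlib.AlgebraicGeometry.Morphisms.Separated
import Mathlib.AlgebraicGeometry.Group.Abelian
import Mathlib.CategoryTheory.Monoidal.Cartesian.Over

/-!
# Morphisms to separated schemes are determined on schematically dominant maps
-/

set_option autoImplicit false

universe u

open CategoryTheory Limits AlgebraicGeometry MonoidalCategory CartesianMonoidalCategory MonObj GrpObj

namespace Groth.Agent.GrpScheme.Ext

/-- Two morphisms to a separated `S`-scheme agreeing on a schematically dominant morphism agree. -/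
theorem ext_of_schematicallyDominant {W X Y S : Scheme.{u}} (i : W ⟶ X)
    [IsSchemeTheoreticallyDominant i] (p : Y ⟶ S) [IsSeparated p] {a b : X ⟶ Y}
    (hp : a ≫ p = b ≫ p) (h : i ≫ a = i ≫ b) : a = b := by
  let a' : Over.mk (a ≫ p) ⟶ Over.mk p := Over.homMk a rfl
  let b' : Over.mk (a ≫ p) ⟶ Over.mk p := Over.homMk b hp.symm
  let j : Over.mk (i ≫ a ≫ p) ⟶ Over.mk (a ≫ p) := Over.homMk i rfl
  have hj : j ≫ a' = j ≫ b' := Over.OverMorphism.ext h
  have : IsSeparated (Over.mk p).hom := inferInstanceAs (IsSeparated p)
  have hfac : (equalizer.lift j hj).left ≫ (equalizer.ι a' b').left = i :=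
    congr($(equalizer.lift_ι j hj).left)
  have hker : (equalizer.ι a' b').left.ker = ⊥ := by
    rw [← le_bot_iff, ← IsSchemeTheoreticallyDominant.ker_eq_bot i, ← hfac]
    exact Scheme.Hom.le_ker_comp _ _
  have : IsIso (equalizer.ι a' b').left := IsClosedImmersion.isIso_iff_ker_eq_bot.mpr hker
  exact (cancel_epi (equalizer.ι a' b').left).mp congr($(equalizer.condition a' b').left)

/-- A separated group scheme, whose square is flat, is commutative if it becomes commutative
after a quasi-compact schematically dominant base change. -/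
theorem isCommMonObj_of_baseChange {S S' : Scheme.{u}} (f : S' ⟶ S)
    [IsSchemeTheoreticallyDominant f] [QuasiCompact f] (G : Over S) [GrpObj G] [Flat G.hom]
    [IsSeparated G.hom] (h : letI : GrpObj ((Over.pullback f).obj G) := Functor.grpObjObj
      IsCommMonObj ((Over.pullback f).obj G)) : IsCommMonObj G := by
  let : GrpObj ((Over.pullback f).obj G) := Functor.grpObjObj
  rw [isCommMonObj_iff_commutator_eq_toUnit_η] at h ⊢
  have key : (Over.pullback f).map (GrpObj.commutator G) =
      (Over.pullback f).map (toUnit (G ⊗ G) ≫ η) := by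
    rw [← cancel_epi (Functor.Monoidal.μIso (Over.pullback f) G G).hom]
    dsimp [GrpObj.commutator] at h ⊢
    simpa only [Functor.map_mul, one_eq_one, MonObj.comp_one, Functor.map_one, Functor.map_inv', Functor.Monoidal.μIso_hom,
      MonObj.comp_mul, GrpObj.comp_inv, Functor.Monoidal.μ_fst, Functor.Monoidal.μ_snd] using h
  have : Flat (G ⊗ G).hom := by
    dsimp
    infer_instance
  refine Over.OverMorphism.ext (ext_of_schematicallyDominant (pullback.fst (G ⊗ G).hom f) G.hom
    (by rw [Over.w, Over.w]) ?_)
  have e : ∀ g : G ⊗ G ⟶ G, ((Over.pullback f).map g).left ≫ pullback.fst G.hom f =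
      pullback.fst (G ⊗ G).hom f ≫ g.left := fun g => pullback.lift_fst _ _ _
  rw [← e, ← e, key]

end Groth.Agent.GrpScheme.Ext
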