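import Mathlib

/-!
# Rational points of smooth schemes over separably closed fields
-/

set_option autoImplicit false

universe u

open CategoryTheory AlgebraicGeometry Limits
open scoped TensorProduct

namespace Groth.Agent.GrpScheme.SepPoint

lemma infinite_of_isSepClosed (k : Type u) [Field k] [IsSepClosed k] : Infinite k := by
  by_contra h
  have : Finite k := not_infinite_iff_finite.mp h
  exact not_finite k

/-- A nontrivial standard smooth algebra over a separably closed field has a rational point. -/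
theorem exists_algHom (k A : Type u) [Field k] [IsSepClosed k] [CommRing A] [Algebra k A]
    [Nontrivial A] (hA : (algebraMap k A).IsStandardSmooth) : Nonempty (A →ₐ[k] k) := by
  obtain ⟨n, g, hg, het⟩ := hA.exists_etale_mvPolynomial
  let := g.toAlgebra
  have : Algebra.Etale (MvPolynomial (Fin n) k) A := het
  have : IsScalarTower k (MvPolynomial (Fin n) k) A := .of_algebraMap_eq' hg.symm
  have := infinite_of_isSepClosed k
  -- a rational point of affine space in the image
  obtain ⟨q⟩ := (inferInstance : Nonempty (PrimeSpectrum A))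
  obtain ⟨_, ⟨h, rfl⟩, hq, hsub⟩ :=
    PrimeSpectrum.isTopologicalBasis_basic_opens.exists_subset_of_mem_open
      (Set.mem_range_self (f := PrimeSpectrum.comap (algebraMap (MvPolynomial (Fin n) k) A)) q)
      (PrimeSpectrum.isOpenMap_comap_of_hasGoingDown_of_finitePresentation.isOpen_range)
  have hh : h ≠ 0 := by
    rintro rfl
    exact hq (zero_mem _)
  obtain ⟨c, hc⟩ : ∃ c, MvPolynomial.eval c h ≠ 0 := by
    by_contra! h'
    exact hh (MvPolynomial.funext fun x => by rw [h' x, map_zero])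
  let := (MvPolynomial.eval c).toAlgebra
  have : IsScalarTower k (MvPolynomial (Fin n) k) k :=
    .of_algebraMap_eq fun r => (MvPolynomial.eval_C r).symm
  let p : PrimeSpectrum (MvPolynomial (Fin n) k) := PrimeSpectrum.comap (MvPolynomial.eval c) ⊥
  obtain ⟨Q, hQ⟩ := hsub (show p ∈ (PrimeSpectrum.basicOpen h : Set _) from hc)
  have hker : Ideal.map (algebraMap (MvPolynomial (Fin n) k) A) p.asIdeal ≤ Q.asIdeal := by
    rw [Ideal.map_le_iff_le_comap, ← PrimeSpectrum.comap_asIdeal, hQ]
  -- the fibre is a nontrivial étale algebra over `k`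
  have : IsScalarTower (MvPolynomial (Fin n) k) k (A ⧸ Q.asIdeal) := .of_algebraMap_eq fun x => by
    have hx : x - MvPolynomial.C (MvPolynomial.eval c x) ∈ p.asIdeal := by
      show MvPolynomial.eval c (x - MvPolynomial.C (MvPolynomial.eval c x)) ∈ (⊥ : Ideal k)
      simp
    have h0 := Ideal.Quotient.eq_zero_iff_mem.mpr (hker (Ideal.mem_map_of_mem _ hx))
    rw [map_sub, map_sub, sub_eq_zero] at h0
    refine h0.trans ?_
    show Ideal.Quotient.mk Q.asIdeal (g (MvPolynomial.C (MvPolynomial.eval c x))) = _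
    rw [← RingHom.comp_apply g, hg]
    rfl
  let Φ : k ⊗[MvPolynomial (Fin n) k] A →ₐ[MvPolynomial (Fin n) k] A ⧸ Q.asIdeal :=
    Algebra.TensorProduct.lift (IsScalarTower.toAlgHom _ k _) (IsScalarTower.toAlgHom _ A _)
      fun _ _ => .all _ _
  have : Nontrivial (k ⊗[MvPolynomial (Fin n) k] A) := RingHom.domain_nontrivial Φ.toRingHom
  obtain ⟨I, _, Ai, _, _, e, hAi⟩ :=
    (Algebra.Etale.iff_exists_algEquiv_prod (K := k) (A := k ⊗[MvPolynomial (Fin n) k] A)).mp
      inferInstance
  obtain ⟨i⟩ : Nonempty I := by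
    by_contra h
    rw [not_nonempty_iff] at h
    exact not_subsingleton (k ⊗[MvPolynomial (Fin n) k] A) e.toEquiv.subsingleton
  have : Algebra.IsSeparable k (Ai i) := (hAi i).2
  let ei : k ≃ₐ[k] Ai i := AlgEquiv.ofBijective (Algebra.ofId k (Ai i))
    ⟨(algebraMap k (Ai i)).injective, IsSepClosed.algebraMap_surjective k (Ai i)⟩
  exact ⟨(ei.symm.toAlgHom.comp ((Pi.evalAlgHom k Ai i).comp e.toAlgHom)).comp
    ((Algebra.TensorProduct.includeRight :
      A →ₐ[MvPolynomial (Fin n) k] k ⊗[MvPolynomial (Fin n) k] A).restrictScalars k)⟩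

/-- A nonempty smooth scheme over a separably closed field has a rational point. -/
theorem exists_point {k : Type u} [Field k] [IsSepClosed k] {X : Scheme.{u}}
    (f : X ⟶ Spec (CommRingCat.of k)) [Smooth f] [Nonempty X] :
    ∃ s : Spec (CommRingCat.of k) ⟶ X, s ≫ f = 𝟙 _ := by
  obtain ⟨x⟩ := ‹Nonempty X›
  obtain ⟨U, hU, V, hV, hxV, e, hst⟩ := Smooth.exists_isStandardSmooth f x
  obtain rfl : U = ⊤ := by
    ext t
    simp only [TopologicalSpace.Opens.coe_top, Set.mem_univ, iff_true]
    rw [Subsingleton.elim t (f x)]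
    exact e hxV
  let φ : k →+* Γ(X, V) :=
    (f.appLE ⊤ V e).hom.comp (Scheme.ΓSpecIso (CommRingCat.of k)).inv.hom
  let := φ.toAlgebra
  have hφ : φ.IsStandardSmooth :=
    RingHom.isStandardSmooth_respectsIso.2 (f.appLE ⊤ V e).hom
      (Scheme.ΓSpecIso (CommRingCat.of k)).commRingCatIsoToRingEquiv.symm hst
  have : Nontrivial Γ(X, V) := by
    have : Nonempty V.toScheme := ⟨⟨x, hxV⟩⟩
    exact (PrimeSpectrum.nonempty_iff_nontrivial).mp ⟨hV.primeIdealOf ⟨x, hxV⟩⟩
  obtain ⟨ψ⟩ := exists_algHom k Γ(X, V) hφ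
  refine ⟨Spec.map (CommRingCat.ofHom ψ.toRingHom) ≫ hV.fromSpec, ?_⟩
  have hψ : CommRingCat.ofHom φ ≫ CommRingCat.ofHom ψ.toRingHom = 𝟙 _ := by
    ext r
    exact ψ.commutes r
  rw [Category.assoc, ← IsAffineOpen.SpecMap_appLE_fromSpec f (isAffineOpen_top _) hV e,
    ← Category.assoc, ← Spec.map_comp]
  have key : f.appLE ⊤ V e ≫ CommRingCat.ofHom ψ.toRingHom = (Scheme.ΓSpecIso (CommRingCat.of k)).hom := by
    rw [← Iso.inv_comp_eq_id, ← Category.assoc]
    exact hψ
  rw [key, IsAffineOpen.fromSpec_top, Scheme.isoSpec_Spec_inv, ← Spec.map_comp, Iso.inv_hom_id,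
    Spec.map_id]

end Groth.Agent.GrpScheme.SepPoint
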