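import Groth.Agent.GrpScheme.HomFlat
import Groth.Agent.AlgSpCov.Instances
import Groth.Agent.FieldSep.MacLane
import Groth.Agent.S9407
import Groth.Prelude.Def_AlgGrp

/-!
# Orbits of smooth group schemes

A reduced homogeneous space of a smooth group scheme over a field is smooth.
-/

set_option autoImplicit false

universe u

open CategoryTheory MonoidalCategory CartesianMonoidalCategory MonObj GrpObj AlgebraicGeometry

namespace Groth.Agent.GrpScheme.Homogeneous

/-- Schemes smooth over a reduced scheme are reduced. -/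
lemma isReduced_of_smooth {X Y : Scheme.{u}} (f : X ⟶ Y) [Smooth f] [IsReduced Y] : IsReduced X := by
  have hU : ∀ x : X, _root_.IsReduced (X.presheaf.stalk x) := by
    intro x
    obtain ⟨_, ⟨(V : Y.Opens), hV, rfl⟩, hxV, -⟩ := Y.isBasis_affineOpens.exists_subset_of_mem_open
      (Set.mem_univ (f x)) isOpen_univ
    obtain ⟨_, ⟨(U : X.Opens), hU, rfl⟩, hxU, hUV⟩ :=
      X.isBasis_affineOpens.exists_subset_of_mem_open (show x ∈ f ⁻¹ᵁ V from hxV) (f ⁻¹ᵁ V).2
    let := (f.appLE V U hUV).hom.toAlgebra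
    have : Algebra.Smooth Γ(Y, V) Γ(X, U) := f.smooth_appLE hV hU hUV
    have hred := Groth.Agent.S9407.result Γ(Y, V) Γ(X, U)
    let := TopCat.Presheaf.algebra_section_stalk X.presheaf ⟨x, hxU⟩
    have := hU.isLocalization_stalk ⟨x, hxU⟩
    exact isReduced_localizationPreserves (R := Γ(X, U))
      (hU.primeIdealOf ⟨x, hxU⟩).asIdeal.primeCompl (X.presheaf.stalk x) hred
  exact isReduced_of_isReduced_stalk X

/-- A morphism from a reduced scheme with image in the image of an immersion factors through it. -/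
lemma exists_lift {W O X : Scheme.{u}} [IsReduced W] (h : W ⟶ X) (i : O ⟶ X) [IsImmersion i]
    (hr : Set.range h ⊆ Set.range i) : ∃ l : W ⟶ O, l ≫ i = h := by
  let p := Limits.pullback.fst h i
  have hs : Function.Surjective p := by
    rw [← Set.range_eq_univ, Scheme.Pullback.range_fst]
    exact Set.eq_univ_of_forall fun w => hr ⟨w, rfl⟩
  have : Surjective p := ⟨hs⟩
  have : IsClosedImmersion p := .of_isPreimmersion _ (by rw [hs.range_eq]; exact isClosed_univ)
  have : IsIso p := isIso_of_isClosedImmersion_of_surjective p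
  exact ⟨inv p ≫ Limits.pullback.snd h i, by
    rw [Category.assoc, ← Limits.pullback.condition, IsIso.inv_hom_id_assoc]⟩

variable {K : Type u} [Field K]

/-- A reduced scheme is smooth at a maximal point which is dominated by a smooth scheme. -/
lemma mem_smoothLocus_of_isMaxGen {G O : Scheme.{u}} (g : G ⟶ O)
    (f : O ⟶ Spec (CommRingCat.of K)) [LocallyOfFinitePresentation f] [IsReduced O]
    [Smooth (g ≫ f)] {ξ : G} (hη : Component.IsMaxGen (g ξ)) : g ξ ∈ f.smoothLocus := by
  obtain ⟨ξ', hξ', hs⟩ := Component.exists_isMaxGen ξ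
  have he : g ξ' = g ξ := hη _ (hs.map g.continuous)
  have : IsReduced G := HomFlat.isReduced_of_smooth (g ≫ f)
  rw [← he] at hη ⊢
  let K' := (Spec (CommRingCat.of K)).presheaf.stalk (f (g ξ'))
  let L := O.presheaf.stalk (g ξ')
  let M := G.presheaf.stalk ξ'
  have hK : IsField K' := HomFlat.isField_stalk (X := Spec (CommRingCat.of K))
    (fun w _ => Subsingleton.elim _ _)
  letI := hK.toField
  letI : Field L := (HomFlat.isField_stalk hη).toField
  letI : Field M := (HomFlat.isField_stalk hξ').toField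
  letI : Algebra K' L := (f.stalkMap (g ξ')).hom.toAlgebra
  letI : Algebra K' M := (f.stalkMap (g ξ') ≫ g.stalkMap ξ').hom.toAlgebra
  let ιL : L →ₐ[K'] M := { (g.stalkMap ξ').hom with commutes' := fun _ => rfl }
  have h1 : ((g ≫ f).stalkMap ξ').hom.FormallySmooth := by
    have : ξ' ∈ (g ≫ f).smoothLocus := by rw [(g ≫ f).smoothLocus_eq_top]; trivial
    exact this
  rw [Scheme.Hom.stalkMap_comp] at h1
  have hM : Algebra.FormallySmooth K' M := h1
  rw [FieldSep.MacLane.formallySmooth_iff] at hM
  have := hM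
  have hL : Algebra.IsGeometricallyReduced K' L :=
    Algebra.IsGeometricallyReduced.of_injective ιL ιL.toRingHom.injective
  rw [Scheme.Hom.mem_smoothLocus]
  exact (FieldSep.MacLane.formallySmooth_iff (k := K') (K := L)).mpr hL

variable {G X : Over (Spec (CommRingCat.of K))} [GrpObj G]

/-- An orbit of a smooth group scheme, with its reduced structure, is smooth. -/
theorem smooth_orbit [Smooth G.hom] [LocallyOfFiniteType X.hom] (a : AlgGrp.Action G X)
    (x : 𝟙_ (Over (Spec (CommRingCat.of K))) ⟶ X) (O : Scheme.{u}) (i : O ⟶ X.left) [IsImmersion i]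
    [IsReduced O] (hO : Set.range i = Set.range (a.orbitMap x).left) :
    Smooth (i ≫ X.hom) := by
  let O' : Over (Spec (CommRingCat.of K)) := Over.mk (i ≫ X.hom)
  let i' : O' ⟶ X := Over.homMk i rfl
  have : Mono i'.left := inferInstanceAs (Mono i)
  have : Mono i' := Over.mono_of_mono_left _
  have : IsReduced G.left := HomFlat.isReduced_of_smooth G.hom
  have : IsReduced O'.left := ‹IsReduced O›
  have : IsLocallyNoetherian X.left := LocallyOfFiniteType.isLocallyNoetherian X.hom
  have : LocallyOfFinitePresentation X.hom :=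
    LocallyOfFinitePresentation.iff_locallyOfFiniteType.mpr inferInstance
  have : LocallyOfFiniteType O'.hom := inferInstanceAs (LocallyOfFiniteType (i ≫ X.hom))
  have : LocallyOfFinitePresentation O'.hom :=
    LocallyOfFinitePresentation.iff_locallyOfFiniteType.mpr inferInstance
  -- the orbit map to `O`
  obtain ⟨g₀, hg₀⟩ := exists_lift (a.orbitMap x).left i (by rw [hO])
  let g : G ⟶ O' := Over.homMk g₀ (by
    show g₀ ≫ i ≫ X.hom = G.hom
    rw [reassoc_of% hg₀, Over.w])
  have hg : g ≫ i' = a.orbitMap x := Over.OverMorphism.ext hg₀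
  have hgs : Function.Surjective g.left := fun o => by
    obtain ⟨z, hz⟩ : i o ∈ Set.range (a.orbitMap x).left := hO ▸ ⟨o, rfl⟩
    refine ⟨z, i.isEmbedding.injective ?_⟩
    show i (g₀ z) = i o
    rw [← Scheme.Hom.comp_apply, hg₀, hz]
  -- the action on `O`
  have : Smooth (snd G O').left := Basic.snd_left_mem @Smooth ‹_›
  have : IsReduced (G ⊗ O').left := isReduced_of_smooth (snd G O').left
  have horb : ∀ {T : Over (Spec (CommRingCat.of K))} (b h : T ⟶ G),
      lift b (h ≫ a.orbitMap x) ≫ a.act = (b * h) ≫ a.orbitMap x := by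
    intro T b h
    have hh : ∀ c : T ⟶ G, c ≫ a.orbitMap x = lift c (toUnit T ≫ x) ≫ a.act := fun c => by
      rw [AlgGrp.Action.orbitMap, comp_lift_assoc, Category.comp_id, ← Category.assoc c,
        toUnit_unique (c ≫ toUnit G) (toUnit T)]
    rw [hh, hh]
    have := congr(lift (lift b h) (toUnit T ≫ x) ≫ $(a.mul_act))
    rw [← Category.assoc, lift_whiskerRight, ← Hom.mul_def, lift_lift_associator_hom_assoc,
      lift_whiskerLeft_assoc] at this
    exact this.symm
  obtain ⟨b₀, hb₀⟩ := exists_lift ((G ◁ i') ≫ a.act).left i (by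
    rintro _ ⟨p, rfl⟩
    rw [hO]
    obtain ⟨T', ⟨t⟩, π, h, e⟩ := Points.exists_lift g (Points.pointHom (G ⊗ O') p ≫ snd G O')
      (fun t => hgs _)
    refine ⟨((π ≫ Points.pointHom (G ⊗ O') p ≫ fst G O') * h).left t, ?_⟩
    rw [← Points.comp_apply, ← horb, ← hg, reassoc_of% e]
    have : lift (π ≫ Points.pointHom (G ⊗ O') p ≫ fst G O')
        (π ≫ Points.pointHom (G ⊗ O') p ≫ snd G O' ≫ i') ≫ a.act =
        π ≫ Points.pointHom (G ⊗ O') p ≫ (G ◁ i') ≫ a.act := by
      simp only [← Category.assoc]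
      congr 1
      ext <;> simp
    rw [this, Points.comp_apply, Points.comp_apply, Points.pointHom_apply])
  let b : G ⊗ O' ⟶ O' := Over.homMk b₀ (by
    show b₀ ≫ i ≫ X.hom = (G ⊗ O').hom
    rw [reassoc_of% hb₀, Over.w])
  have hb : b ≫ i' = (G ◁ i') ≫ a.act := Over.OverMorphism.ext hb₀
  have hbg : ∀ {T : Over (Spec (CommRingCat.of K))} (c h : T ⟶ G),
      lift c (h ≫ g) ≫ b = (c * h) ≫ g := by
    intro T c h
    rw [← cancel_mono i', Category.assoc, Category.assoc, hb, lift_whiskerLeft_assoc, Category.assoc,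
      hg, horb]
  let τ : G ⊗ O' ⟶ O' := b
  -- a smooth point
  obtain ⟨o, hoM, -⟩ := Component.exists_isMaxGen (g.left (η[G].left (IsLocalRing.closedPoint K)))
  obtain ⟨ξ, rfl⟩ := hgs o
  have hgf : Smooth (g.left ≫ O'.hom) := by rw [Over.w]; infer_instance
  have hsm := mem_smoothLocus_of_isMaxGen g.left O'.hom hoM
  -- translate it everywhere
  let P : O'.left.Opens := O'.hom.smoothLocus
  let W : (G ⊗ O').left.Opens := τ.left ⁻¹ᵁ P
  have hsurj : Surjective (W.ι ≫ (snd G O').left) := by
    refine ⟨fun y => ?_⟩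
    obtain ⟨v, rfl⟩ := hgs y
    let Tz := Points.pointObj G ξ
    let Tx := Points.pointObj G v
    let gz : Tz ⊗ Tx ⟶ G := fst Tz Tx ≫ Points.pointHom G ξ
    let gx : Tz ⊗ Tx ⟶ G := snd Tz Tx ≫ Points.pointHom G v
    obtain ⟨tz⟩ := (inferInstance : Nonempty Tz.left)
    obtain ⟨tx⟩ := (inferInstance : Nonempty Tx.left)
    obtain ⟨t, -, -⟩ := Scheme.Pullback.exists_preimage_pullback (f := Tz.hom) (g := Tx.hom) tz tx
      (Subsingleton.elim (α := Spec (CommRingCat.of K)) _ _)
    let p := (lift (gz * gx⁻¹) (gx ≫ g)).left t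
    have hp : p ∈ W := by
      show τ.left ((lift (gz * gx⁻¹) (gx ≫ g)).left t) ∈ P
      rw [← Points.comp_apply, hbg, inv_mul_cancel_right, Points.comp_apply, Points.comp_apply,
        Points.pointHom_apply]
      exact hsm
    refine ⟨⟨p, hp⟩, ?_⟩
    refine (Scheme.Hom.comp_apply _ _ _).trans ?_
    show (snd G O').left ((lift (gz * gx⁻¹) (gx ≫ g)).left t) = _
    rw [← Points.comp_apply, lift_snd, Points.comp_apply, Points.comp_apply, Points.pointHom_apply]
  have hτ : Smooth τ.left := by
    -- `b` is the projection twisted by an automorphism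
    let σ : G ⊗ O' ⟶ G ⊗ O' := lift (fst G O') b
    have hσ : σ ≫ snd G O' = τ := lift_snd _ _
    have : IsIso σ := by
      refine ⟨lift (fst G O') (lift ((fst G O')⁻¹) (snd G O') ≫ b), ?_, ?_⟩
      all_goals
        refine CartesianMonoidalCategory.hom_ext _ _ (by simp [σ]) ?_
        rw [← cancel_mono i']
        simp only [σ, Category.assoc, lift_snd_assoc, comp_lift_assoc, lift_fst, lift_snd,
          GrpObj.comp_inv, hb, lift_whiskerLeft_assoc, Category.id_comp]
      · have hbb : (G ◁ i') ≫ a.act = lift (fst G O') (snd G O' ≫ i') ≫ a.act := by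
          congr 1
        rw [hbb]
        have := congr(lift (lift (fst G O')⁻¹ (fst G O')) (snd G O' ≫ i') ≫ $(a.mul_act))
        rw [← Category.assoc, lift_whiskerRight, ← Hom.mul_def, lift_lift_associator_hom_assoc,
          lift_whiskerLeft_assoc, inv_mul_cancel] at this
        rw [← this, Hom.one_def]
        have h1 := congr(lift (toUnit (G ⊗ O')) (snd G O' ≫ i') ≫ $(a.one_act))
        rw [← Category.assoc, lift_whiskerRight, lift_leftUnitor_hom] at h1
        exact h1
      · have := congr(lift (lift (fst G O') (fst G O')⁻¹) (snd G O' ≫ i') ≫ $(a.mul_act))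
        rw [← Category.assoc, lift_whiskerRight, ← Hom.mul_def, lift_lift_associator_hom_assoc,
          lift_whiskerLeft_assoc, mul_inv_cancel] at this
        rw [← this, Hom.one_def]
        have h1 := congr(lift (toUnit (G ⊗ O')) (snd G O' ≫ i') ≫ $(a.one_act))
        rw [← Category.assoc, lift_whiskerRight, lift_leftUnitor_hom] at h1
        exact h1
    have : IsIso σ.left := Basic.isIso_left σ
    rw [← hσ, Over.comp_left]
    infer_instance
  have hP : Smooth (P.ι ≫ O'.hom) := by
    rw [← Scheme.Hom.smoothLocus_eq_top_iff, ← Scheme.Hom.preimage_smoothLocus_eq]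
    exact P.ι_preimage_self
  refine AlgSpCov.smooth_of_comp_smooth (W.ι ≫ (snd G O').left) (i ≫ X.hom) ?_
  have e : (W.ι ≫ (snd G O').left) ≫ i ≫ X.hom = (τ.left ∣_ P) ≫ P.ι ≫ O'.hom := by
    rw [← Category.assoc (τ.left ∣_ P), morphismRestrict_ι, Category.assoc, Category.assoc, Over.w τ]
    congr 1
    exact Over.w (snd G O')
  rw [e]
  infer_instance

end Groth.Agent.GrpScheme.Homogeneous
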