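import Groth.Agent.S7984
import Groth.Agent.FibBound.Basic
import Groth.Agent.ConsPairLib.DimCons
import Groth.Agent.SchPoints.Basic

/-!
# Dimensions of locally closed subsets and of orbits
-/

set_option autoImplicit false

universe u

open CategoryTheory MonoidalCategory CartesianMonoidalCategory MonObj GrpObj AlgebraicGeometry Limits
  TopologicalSpace

namespace Groth.Agent.GrpScheme.OrbitDim

lemma quasiSober_of_isLocallyClosed {X : Type*} [TopologicalSpace X] [QuasiSober X] {s : Set X}
    (hs : IsLocallyClosed s) : QuasiSober s := by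
  have hc : QuasiSober ↥(closure s) := isClosed_closure.isClosedEmbedding_subtypeVal.quasiSober
  have h : Topology.IsOpenEmbedding (Set.inclusion (subset_closure (s := s))) := by
    refine ⟨Topology.IsEmbedding.inclusion _, ?_⟩
    rw [Set.range_inclusion]
    have : IsOpen ((Subtype.val : ↥(closure s) → X) ⁻¹' s) := hs.isOpen_preimage_val_closure
    exact this
  exact h.quasiSober

lemma topDim_eq_krullDim {X : Scheme.{u}} {s : Set X} (hs : IsLocallyClosed s) :
    topologicalKrullDim s = Order.krullDim s := by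
  have := quasiSober_of_isLocallyClosed hs
  refine (DimLift.topDim_eq_krullDim_points (X := s)).trans ?_
  congr 1
  exact Preorder.ext fun a b => subtype_specializes_iff b a

section Bounds

variable (k : Type u) [Field k] {X : Scheme.{u}} [X.Over (Spec (CommRingCat.of k))]
  [LocallyOfFiniteType (X ↘ Spec (CommRingCat.of k))]

lemma le_topDim {s : Set X} (hs : IsLocallyClosed s) {x : X} (hx : x ∈ s) :
    (VarDim.dimPt k X x : WithBot ℕ∞) ≤ topologicalKrullDim s := by
  rw [topDim_eq_krullDim hs]
  obtain ⟨W, C, hW, hC, rfl⟩ := hs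
  obtain ⟨y, hyx, hyW, hy⟩ := VarDim.exists_le_dimPt_eq_zero k x ⟨W, hW⟩ hx.1
  obtain ⟨-, l, hl1, hl2, hl3⟩ := VarDim.exists_ltSeries_of_le k hyx
  have hmem : ∀ i, l i ∈ W ∩ C := fun i =>
    ⟨(hl1 ▸ l.head_le i : y ≤ l i).mem_open hW hyW,
      ((l.monotone (Fin.le_last i)).trans hl2 : l i ≤ x).mem_closed hC hx.2⟩
  let L : LTSeries ↥(W ∩ C) := LTSeries.mk l.length (fun i => ⟨l i, hmem i⟩) fun i j hij => l.strictMono hij
  calc (VarDim.dimPt k X x : WithBot ℕ∞) = ((L.length : ℕ) : WithBot ℕ∞) := by
        rw [← hl3, hy, zero_add]; rfl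
    _ ≤ Order.krullDim ↥(W ∩ C) := Order.LTSeries.length_le_krullDim L

lemma topDim_le {s : Set X} (hs : IsLocallyClosed s) {n : ℕ} (h : ∀ x ∈ s, VarDim.dimPt k X x ≤ n) :
    topologicalKrullDim s ≤ n := by
  rw [topDim_eq_krullDim hs, Order.krullDim]
  refine iSup_le fun l => ?_
  have h1 := VarDim.dimPt_add_length_le k (l.map Subtype.val (Subtype.strictMono_coe _))
  have h2 : VarDim.dimPt k X (l.map Subtype.val (Subtype.strictMono_coe _)).last ≤ n := h _ l.last.2
  have h3 : (l.map Subtype.val (Subtype.strictMono_coe _)).length = l.length := rfl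
  exact_mod_cast (by omega : l.length ≤ n)

end Bounds

section Orbit

variable {k : Type u} [Field k] {G X : Over (Spec (CommRingCat.of k))} [GrpObj G]
  (a : AlgGrp.Action G X) (o : 𝟙_ (Over (Spec (CommRingCat.of k))) ⟶ X)

/-- The closure of an orbit is stable. -/
lemma orbit_subset_closure (y : 𝟙_ (Over (Spec (CommRingCat.of k))) ⟶ X)
    (hy : y.left (IsLocalRing.closedPoint k) ∈ closure (Set.range (a.orbitMap o).left)) :
    Set.range (a.orbitMap y).left ⊆ closure (Set.range (a.orbitMap o).left) := by
  rintro _ ⟨h, rfl⟩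
  let T := Points.pointObj G h
  let g : T ⟶ G := Points.pointHom G h
  obtain ⟨t⟩ := (inferInstance : Nonempty T.left)
  have hop : IsOpenMap (snd T X).left :=
    have : UniversallyOpen (snd T X).left := Basic.snd_left_mem @UniversallyOpen inferInstance
    Scheme.Hom.isOpenMap _
  let e := (Basic.shear a g).hom ≫ snd T X
  have hq : (lift (𝟙 T) (toUnit T ≫ y)).left t ∈
      (snd T X).left ⁻¹' closure (Set.range (a.orbitMap o).left) := by
    rw [Set.mem_preimage, ← Points.comp_apply, lift_snd, Points.comp_apply,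
      show (toUnit T).left t = IsLocalRing.closedPoint k from Subsingleton.elim (α := PrimeSpectrum k) _ _]
    exact hy
  rw [hop.preimage_closure_eq_closure_preimage (snd T X).left.continuous] at hq
  have := map_mem_closure (f := e.left) e.left.continuous hq (t := Set.range (a.orbitMap o).left)
    (fun r hr => by
      refine S7984.smul_mem_range a o (Points.pointHom (T ⊗ X) r ≫ fst T X ≫ g)
        (Points.pointHom (T ⊗ X) r ≫ snd T X) (fun s => ?_) _ (fun s => ?_)
      · rw [Points.comp_apply, Points.pointHom_apply]; exact hr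
      · rw [show Basic.smul a (Points.pointHom (T ⊗ X) r ≫ fst T X ≫ g) (Points.pointHom (T ⊗ X) r ≫ snd T X)
          = Points.pointHom (T ⊗ X) r ≫ e by simp [e, Basic.shear, Basic.comp_smul],
          Points.comp_apply, Points.pointHom_apply])
  rwa [← Points.comp_apply, show lift (𝟙 T) (toUnit T ≫ y) ≫ e = g ≫ a.orbitMap y by
    rw [S7984.orbit_apply]; simp [e, Basic.shear, Basic.comp_smul],
    Points.comp_apply, Points.pointHom_apply] at this

/-- An orbit meeting another is contained in it. -/
lemma orbit_subset (y : 𝟙_ (Over (Spec (CommRingCat.of k))) ⟶ X)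
    {w : X.left} (hw : w ∈ Set.range (a.orbitMap y).left) (hw' : w ∈ Set.range (a.orbitMap o).left) :
    y.left (IsLocalRing.closedPoint k) ∈ Set.range (a.orbitMap o).left := by
  obtain ⟨h, rfl⟩ := hw
  let T := Points.pointObj G h
  let g : T ⟶ G := Points.pointHom G h
  refine S7984.smul_mem_range a o g⁻¹ (g ≫ a.orbitMap y) (fun s => ?_) _ (fun s => ?_)
  · rw [Points.comp_apply, Points.pointHom_apply]; exact hw'
  · rw [S7984.orbit_apply, Basic.inv_smul_smul', Points.comp_apply]
    exact congrArg y.left (Subsingleton.elim (α := PrimeSpectrum k) _ _)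

variable [LocallyOfFiniteType G.hom] [QuasiCompact G.hom] [LocallyOfFiniteType X.hom]

omit [GrpObj G] [QuasiCompact G.hom] in
lemma dimPt_map_le (f : G ⟶ X) (g : G.left) :
    @VarDim.dimPt k _ X.left ⟨X.hom⟩ (f.left g) ≤ @VarDim.dimPt k _ G.left ⟨G.hom⟩ g := by
  let : X.left.Over (Spec (CommRingCat.of k)) := ⟨X.hom⟩
  let : G.left.Over (Spec (CommRingCat.of k)) := ⟨G.hom⟩
  have : LocallyOfFiniteType (X.left ↘ Spec (CommRingCat.of k)) := ‹LocallyOfFiniteType X.hom›
  have : LocallyOfFiniteType (G.left ↘ Spec (CommRingCat.of k)) := ‹LocallyOfFiniteType G.hom›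
  have : LocallyOfFiniteType (f.left ≫ X.hom) := by rw [Over.w]; infer_instance
  have : LocallyOfFiniteType f.left := locallyOfFiniteType_of_comp f.left X.hom
  obtain ⟨e, -, he⟩ := FibBound.dimPt_eq_add f.left k (Over.w f) g
  omega

lemma exists_dimPt_le_range : ∃ N, ∀ x ∈ Set.range (a.orbitMap o).left,
    @VarDim.dimPt k _ X.left ⟨X.hom⟩ x ≤ N := by
  let : G.left.Over (Spec (CommRingCat.of k)) := ⟨G.hom⟩
  have : LocallyOfFiniteType (G.left ↘ Spec (CommRingCat.of k)) := ‹LocallyOfFiniteType G.hom›
  have : IsLocallyNoetherian G.left := LocallyOfFiniteType.isLocallyNoetherian G.hom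
  have : CompactSpace G.left := QuasiCompact.compactSpace_of_compactSpace G.hom
  have : IsNoetherian G.left := { }
  have hfin : (irreducibleComponents G.left).Finite := NoetherianSpace.finite_irreducibleComponents
  have : Finite (irreducibleComponents G.left) := hfin.to_subtype
  have hgen : ∀ Z : irreducibleComponents G.left, ∃ ξ : G.left, IsGenericPoint ξ (Z : Set G.left) :=
    fun Z => QuasiSober.sober Z.2.1 (isClosed_of_mem_irreducibleComponents _ Z.2)
  choose ξ hξ using hgen
  obtain ⟨N, hN⟩ := (Set.finite_range fun Z => VarDim.dimPt k G.left (ξ Z)).bddAbove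
  refine ⟨N, ?_⟩
  rintro _ ⟨g, rfl⟩
  refine (dimPt_map_le (a.orbitMap o) g).trans ?_
  have hg := (hξ ⟨_, irreducibleComponent_mem_irreducibleComponents g⟩).specializes mem_irreducibleComponent
  exact (VarDim.exists_ltSeries_of_le k (hg : g ≤ _)).1.trans (hN ⟨_, rfl⟩)

/-- The boundary of an orbit has smaller dimension. -/
theorem boundary_lt : topologicalKrullDim
      ↥(closure (Set.range (a.orbitMap o).left) \ Set.range (a.orbitMap o).left) <
    topologicalKrullDim ↥(Set.range (a.orbitMap o).left) := by
  let : X.left.Over (Spec (CommRingCat.of k)) := ⟨X.hom⟩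
  have : LocallyOfFiniteType (X.left ↘ Spec (CommRingCat.of k)) := ‹LocallyOfFiniteType X.hom›
  set O := Set.range (a.orbitMap o).left
  have hO : IsLocallyClosed O := S7984.isLocallyClosed_orbit a o
  have hB : IsClosed (closure O \ O) := by
    have : closure O \ O = (coborder O)ᶜ := (compl_compl (closure O \ O)).symm
    rw [this]
    exact hO.isOpen_coborder.isClosed_compl
  have hne : O.Nonempty := ⟨_, η[G].left (IsLocalRing.closedPoint k), rfl⟩
  obtain ⟨x₀, hx₀⟩ := hne
  have h0 : (0 : WithBot ℕ∞) ≤ topologicalKrullDim O :=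
    le_trans (by exact_mod_cast Nat.zero_le _) (le_topDim k hO hx₀)
  have := QuasiCompact.compactSpace_of_compactSpace G.hom
  have : IsLocallyNoetherian G.left := LocallyOfFiniteType.isLocallyNoetherian G.hom
  have : IsNoetherian G.left := { }
  have : QuasiCompact (a.orbitMap o).left := ⟨fun U _ _ => NoetherianSpace.isCompact _⟩
  have key : ∀ z ∈ closure O \ O, ∃ ξ ∈ O, VarDim.dimPt k X.left z < VarDim.dimPt k X.left ξ := by
    rintro z ⟨hz, hzO⟩
    obtain ⟨q, hq⟩ := SchPoints.exists_specializes_of_mem_closure_range (a.orbitMap o).left hz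
    refine ⟨_, ⟨q, rfl⟩, VarDim.dimPt_lt_of_lt k (lt_iff_le_not_ge.mpr ⟨hq, fun h => hzO ⟨q, (hq.antisymm h).eq⟩⟩)⟩
  rcases (closure O \ O).eq_empty_or_nonempty with he | ⟨z₀, hz₀⟩
  · rw [he, show topologicalKrullDim (∅ : Set X.left) = ⊥ from ?_]
    · exact lt_of_lt_of_le (WithBot.bot_lt_coe _) h0
    · have : IsEmpty (IrreducibleCloseds ↥(∅ : Set X.left)) :=
        ⟨fun C => IsEmpty.false C.isIrreducible.1.some⟩
      exact Order.krullDim_eq_bot
  have htop : topologicalKrullDim O ≠ ⊤ := by
    obtain ⟨N, hN⟩ := exists_dimPt_le_range a o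
    refine ne_top_of_le_ne_top ?_ (topDim_le k hO hN)
    exact fun h => ENat.coe_ne_top N (WithBot.coe_injective h)
  obtain ⟨D, hD⟩ : ∃ D : ℕ, topologicalKrullDim O = D := by
    generalize topologicalKrullDim O = d at htop h0
    induction d with
    | bot => simp at h0
    | coe d =>
      induction d with
      | top => simp at htop
      | coe n => exact ⟨n, rfl⟩
  have hle : ∀ ξ ∈ O, VarDim.dimPt k X.left ξ ≤ D := fun ξ hξ => by
    have := le_topDim k hO hξ
    rw [hD] at this
    exact_mod_cast this
  have hpos : 1 ≤ D := by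
    obtain ⟨ξ, hξ, hlt⟩ := key z₀ hz₀
    have := hle ξ hξ
    omega
  refine lt_of_le_of_lt (topDim_le k hB.isLocallyClosed (n := D - 1) fun z hz => ?_) ?_
  · obtain ⟨ξ, hξ, hlt⟩ := key z hz
    have := hle ξ hξ
    omega
  · rw [hD]
    exact_mod_cast (by omega : D - 1 < D)

lemma topDim_eq_fiber (f : G ⟶ X) (w : X.left) :
    topologicalKrullDim (f.left.fiber w) = Order.krullDim {z : G.left | f.left z = w} := by
  rw [show topologicalKrullDim (f.left.fiber w) = topologicalKrullDim (f.left ⁻¹' {w} : Set G.left) from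
    IsHomeomorph.topologicalKrullDim_eq (f.left.fiberHomeo w) (f.left.fiberHomeo w).isHomeomorph]
  have hc : QuasiSober ↥(f.left ⁻¹' {w}) :=
    (f.left.fiberHomeo w).symm.isOpenEmbedding.quasiSober
  refine (DimLift.topDim_eq_krullDim_points (X := ↥(f.left ⁻¹' {w}))).trans ?_
  congr 1
  exact Preorder.ext fun a b => subtype_specializes_iff b a

/-- The fibres of an orbit map have the dimension of the stabiliser. -/
theorem topDim_fiber (g₀ : G.left) :
    topologicalKrullDim ((a.orbitMap o).left.fiber ((a.orbitMap o).left g₀)) =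
      topologicalKrullDim ↥(pullback (a.orbitMap o).left o.left) := by
  let f := a.orbitMap o
  let H : Over (Spec (CommRingCat.of k)) := Over.mk (pullback.fst f.left o.left ≫ G.hom)
  let iH : H ⟶ G := Over.homMk (pullback.fst f.left o.left) rfl
  have hiH : iH ≫ f = toUnit H ≫ o := by
    apply Over.OverMorphism.ext
    show pullback.fst f.left o.left ≫ f.left = (toUnit H).left ≫ o.left
    rw [pullback.condition]
    congr 1
    show pullback.snd f.left o.left = pullback.fst f.left o.left ≫ G.hom
    rw [← Over.w f, ← Category.assoc, pullback.condition, Category.assoc, Over.w o]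
    exact (Category.comp_id _).symm
  let T := Points.pointObj G g₀
  let g : T ⟶ G := Points.pointHom G g₀
  have hy : ∀ {Z : Over (Spec (CommRingCat.of k))} (t : Z ⟶ T) (v : Z ⟶ G),
      v ≫ f = t ≫ g ≫ f → ((t ≫ g)⁻¹ * v) ≫ f = toUnit Z ≫ o := by
    intro Z t v e
    rw [S7984.orbit_apply, Basic.mul_smul', ← S7984.orbit_apply a o v, e, ← Category.assoc,
      S7984.orbit_apply, Basic.inv_smul_smul']
  have hlift : ∀ {Z : Over (Spec (CommRingCat.of k))} (v : Z ⟶ G), v ≫ f = toUnit Z ≫ o →
      ∃ h : Z ⟶ H, h ≫ iH = v := by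
    intro Z v e
    exact ⟨Over.homMk (pullback.lift v.left (toUnit Z).left (congrArg CommaMorphism.left e))
      (by show _ ≫ pullback.fst _ _ ≫ G.hom = _; rw [pullback.lift_fst_assoc, Over.w v]),
      Over.OverMorphism.ext (pullback.lift_fst _ _ _)⟩
  have hmono : ∀ {Z : Over (Spec (CommRingCat.of k))} (h₁ h₂ : Z ⟶ H), h₁ ≫ iH = h₂ ≫ iH → h₁ = h₂ := by
    intro Z h₁ h₂ e
    apply Over.OverMorphism.ext
    apply pullback.hom_ext
    · exact congrArg CommaMorphism.left e
    · have : ∀ h : Z ⟶ H, h.left ≫ pullback.snd f.left o.left = Z.hom := fun h => by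
        have hw := Over.w h
        rw [show H.hom = pullback.snd f.left o.left ≫ 𝟙 _ from ?_, Category.comp_id] at hw
        · exact hw
        · show pullback.fst f.left o.left ≫ G.hom = _
          rw [← Over.w f, ← Category.assoc, pullback.condition, Category.assoc, Over.w o]
          rfl
      rw [this, this]
  let m : T ⊗ H ⟶ G := (fst T H ≫ g) * (snd T H ≫ iH)
  have hm : m ≫ f = fst T H ≫ g ≫ f := by
    rw [S7984.orbit_apply, Basic.mul_smul', ← S7984.orbit_apply a o (snd T H ≫ iH), Category.assoc,
      hiH, comp_toUnit_assoc, ← S7984.orbit_apply, Category.assoc]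
  choose l hl using fun s : PullbackCone f (g ≫ f) => hlift ((s.snd ≫ g)⁻¹ * s.fst) (hy _ _ s.condition)
  have hsq : IsPullback m (fst T H) f (g ≫ f) :=
    { w := hm
      isLimit' := ⟨PullbackCone.IsLimit.mk hm (fun s => lift s.snd (l s))
        (fun s => by simp [m, MonObj.comp_mul, hl])
        (fun s => by simp)
        (fun s n h₁ h₂ => by
          refine CartesianMonoidalCategory.hom_ext _ _ (by rw [lift_fst]; exact h₂) ?_
          rw [lift_snd]
          refine hmono _ _ ?_
          rw [hl, ← h₁, ← h₂]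
          simp [m, MonObj.comp_mul])⟩ }
  set w := f.left g₀ with hw
  have hgw : (g ≫ f).left = Spec.map (f.left.residueFieldMap g₀) ≫ X.left.fromSpecResidueField w :=
    (Scheme.Hom.SpecMap_residueFieldMap_fromSpecResidueField f.left g₀).symm
  have hfib : IsPullback (f.left.fiberι w) (f.left.fiberToSpecResidueField w) f.left
      (X.left.fromSpecResidueField w) := IsPullback.of_hasPullback _ _
  have hsqL : IsPullback m.left (fst T H).left f.left
      (Spec.map (f.left.residueFieldMap g₀) ≫ X.left.fromSpecResidueField w) := by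
    rw [← hgw]; exact hsq.map (Over.forget _)
  let e := hfib.lift m.left ((fst T H).left ≫ Spec.map (f.left.residueFieldMap g₀))
    (by rw [hsqL.w, Category.assoc])
  have h1 : IsPullback e (fst T H).left (f.left.fiberToSpecResidueField w)
      (Spec.map (f.left.residueFieldMap g₀)) :=
    IsPullback.of_right (by rw [hfib.lift_fst]; exact hsqL) (hfib.lift_snd _ _ _) hfib
  have : LocallyOfFiniteType (f.left ≫ X.hom) := by rw [Over.w]; infer_instance
  have : LocallyOfFiniteType f.left := locallyOfFiniteType_of_comp f.left X.hom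
  have : IsLocallyNoetherian G.left := LocallyOfFiniteType.isLocallyNoetherian G.hom
  have : CompactSpace G.left := QuasiCompact.compactSpace_of_compactSpace G.hom
  have : IsNoetherian G.left := { }
  have : QuasiCompact f.left := ⟨fun U _ _ => NoetherianSpace.isCompact _⟩
  have : LocallyOfFiniteType (f.left.fiberToSpecResidueField w) :=
    inferInstanceAs (LocallyOfFiniteType (pullback.snd f.left (X.left.fromSpecResidueField w)))
  have : QuasiCompact (f.left.fiberToSpecResidueField w) :=
    inferInstanceAs (QuasiCompact (pullback.snd f.left (X.left.fromSpecResidueField w)))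
  have hT : IsIntegral T.left ∧ Subsingleton T.left :=
    ⟨inferInstanceAs (IsIntegral (Spec (G.left.residueField g₀))),
      inferInstanceAs (Subsingleton (Spec (G.left.residueField g₀)))⟩
  have := hT.1
  have := hT.2
  have : Subsingleton (Spec (X.left.residueField w)) := inferInstance
  refine (ConsPairLib.topDim_baseChange _ h1).symm.trans ?_
  have h2 : IsPullback (snd T H).left (fst T H).left H.hom T.hom := (IsPullback.of_hasPullback _ _).flip
  have : LocallyOfFiniteType H.hom :=
    have : LocallyOfFiniteType (o.left ≫ X.hom) := by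
      rw [Over.w o]; exact inferInstanceAs (LocallyOfFiniteType (𝟙 _))
    have : LocallyOfFiniteType o.left := locallyOfFiniteType_of_comp o.left X.hom
    inferInstanceAs (LocallyOfFiniteType (pullback.fst f.left o.left ≫ G.hom))
  have : QuasiCompact H.hom := by
    have : IsLocallyNoetherian H.left := LocallyOfFiniteType.isLocallyNoetherian H.hom
    have : CompactSpace H.left := by
      refine ⟨?_⟩
      have : Topology.IsInducing (pullback.fst f.left o.left) := ?_
      · exact this.isCompact_iff.mpr (NoetherianSpace.isCompact _)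
      · have : IsImmersion o.left := by
          have : IsImmersion (o.left ≫ X.hom) := by
            rw [Over.w o]; exact inferInstanceAs (IsImmersion (𝟙 _))
          exact IsImmersion.of_comp o.left X.hom
        exact (pullback.fst f.left o.left).isEmbedding.isInducing
    exact (quasiCompact_iff_compactSpace _).mpr inferInstance
  have : IsIntegral (Spec (CommRingCat.of k)) := inferInstance
  have : Subsingleton (Spec (CommRingCat.of k)) := inferInstanceAs (Subsingleton (PrimeSpectrum k))
  exact ConsPairLib.topDim_baseChange H.hom h2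

/-- `dim G = dim (orbit) + dim (stabiliser)`. -/
theorem dim_eq_add : topologicalKrullDim G.left =
    topologicalKrullDim ↥(Set.range (a.orbitMap o).left) +
      topologicalKrullDim ↥(pullback (a.orbitMap o).left o.left) := by
  let : X.left.Over (Spec (CommRingCat.of k)) := ⟨X.hom⟩
  let : G.left.Over (Spec (CommRingCat.of k)) := ⟨G.hom⟩
  have : LocallyOfFiniteType (X.left ↘ Spec (CommRingCat.of k)) := ‹LocallyOfFiniteType X.hom›
  have : LocallyOfFiniteType (G.left ↘ Spec (CommRingCat.of k)) := ‹LocallyOfFiniteType G.hom›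
  let f := a.orbitMap o
  have : LocallyOfFiniteType (f.left ≫ X.hom) := by rw [Over.w]; infer_instance
  have : LocallyOfFiniteType f.left := locallyOfFiniteType_of_comp f.left X.hom
  have hO : IsLocallyClosed (Set.range f.left) := S7984.isLocallyClosed_orbit a o
  set dH := topologicalKrullDim ↥(pullback (a.orbitMap o).left o.left)
  have hF : ∀ g : G.left, Order.krullDim {z : G.left | f.left z = f.left g} = dH := fun g => by
    rw [← topDim_eq_fiber, topDim_fiber]
  -- the points of a fibre
  have hup : ∀ g : G.left, (VarDim.dimPt k G.left g : WithBot ℕ∞) ≤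
      topologicalKrullDim ↥(Set.range f.left) + dH := by
    intro g
    obtain ⟨e, he, hdim⟩ := FibBound.dimPt_eq_add f.left k (Over.w f) g
    rw [hdim, Nat.cast_add]
    refine add_le_add (le_topDim k hO ⟨g, rfl⟩) ?_
    rw [← he, ← hF g]
    exact Order.krullDim_le_of_strictMono (fun z => ⟨z.1, z.2.1⟩) fun a b h => h
  have hub : topologicalKrullDim G.left ≤ topologicalKrullDim ↥(Set.range f.left) + dH := by
    rw [VarDim.topologicalKrullDim_eq_iSup k]
    exact iSup_le hup
  refine le_antisymm hub ?_
  obtain ⟨N, hN⟩ := exists_dimPt_le_range a o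
  have hne : (Set.range f.left).Nonempty := ⟨_, η[G].left (IsLocalRing.closedPoint k), rfl⟩
  obtain ⟨_, ⟨g₁, rfl⟩, hmax⟩ : ∃ x ∈ Set.range f.left, ∀ y ∈ Set.range f.left,
      VarDim.dimPt k X.left y ≤ VarDim.dimPt k X.left x := by
    classical
    obtain ⟨x, hx, hxmax⟩ := Nat.findGreatest_spec (P := fun n => ∃ x ∈ Set.range f.left,
      VarDim.dimPt k X.left x = n) (hN _ hne.some_mem) ⟨_, hne.some_mem, rfl⟩
    refine ⟨x, hx, fun y hy => ?_⟩
    rw [hxmax]
    exact Nat.le_findGreatest (hN y hy) ⟨y, hy, rfl⟩
  have hdO : topologicalKrullDim ↥(Set.range f.left) = VarDim.dimPt k X.left (f.left g₁) :=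
    le_antisymm (topDim_le k hO hmax) (le_topDim k hO ⟨g₁, rfl⟩)
  rw [hdO, ← hF g₁, Order.krullDim_eq_iSup_height,
    show topologicalKrullDim G.left = _ from VarDim.topologicalKrullDim_eq_iSup k]
  have : Nonempty {z : G.left | f.left z = f.left g₁} := ⟨⟨g₁, rfl⟩⟩
  rw [add_comm, ← WithBot.coe_iSup (OrderTop.bddAbove _), ← WithBot.coe_natCast,
    ← WithBot.coe_add, ENat.iSup_add, WithBot.coe_iSup (OrderTop.bddAbove _)]
  refine iSup_le fun z => ?_
  refine le_iSup_of_le (z : G.left) ?_
  obtain ⟨e, he, hdim⟩ := FibBound.dimPt_eq_add f.left k (Over.w f) (z : G.left)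
  have hz : f.left (z : G.left) = f.left g₁ := z.2
  have hh : (Order.height z : WithBot ℕ∞) ≤ (e : WithBot ℕ∞) := by
    rw [Order.height_eq_krullDim_Iic, ← he]
    refine Order.krullDim_le_of_strictMono (fun y => ⟨y.1.1, y.1.2.trans hz.symm, y.2⟩) fun a b h => h
  rw [hdim, hz, Nat.cast_add, add_comm ((VarDim.dimPt k X.left (f.left g₁) : ℕ) : WithBot ℕ∞)]
  rw [WithBot.coe_add]
  exact add_le_add hh le_rfl

end Orbit

end Groth.Agent.GrpScheme.OrbitDim
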