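import Groth.Agent.GrpScheme.ClosedRep

/-!
# Closed subschemes over which a closed subscheme of a product is everything

For `X`, `Y` over `S` with `Y` locally free over `S` (as algebras on affine pieces) and a closed
immersion `e : E ⟶ X ×_S Y`, the functor of `T ⟶ X` with `T ×_S Y ⊆ E` is represented by a closed
subscheme of `X`.
-/

set_option autoImplicit false

universe u

open CategoryTheory AlgebraicGeometry Limits MonoidalCategory CartesianMonoidalCategory
open scoped TensorProduct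

namespace Groth.Agent.GrpScheme.ClosedRepProd

/-- The coefficient ideal: kernels of base change maps detecting a subset of a free algebra. -/
lemma exists_coeff_ideal (R A B : Type u) [CommRing R] [CommRing A] [CommRing B] [Algebra R A]
    [Algebra R B] [Module.Free R B] (J : Set (A ⊗[R] B)) :
    ∃ I : Ideal A, ∀ (C : Type u) [CommRing C] [Algebra R C] (f : A →ₐ[R] C),
      (∀ z ∈ J, Algebra.TensorProduct.map f (AlgHom.id R B) z = 0) ↔ I ≤ RingHom.ker f := by
  classical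
  let b := Module.Free.chooseBasis R B
  let bA := Algebra.TensorProduct.basis A b
  refine ⟨Ideal.span {a | ∃ z ∈ J, ∃ i, bA.repr z i = a}, fun C _ _ f => ?_⟩
  let bC := Algebra.TensorProduct.basis C b
  have key : ∀ z i, bC.repr (Algebra.TensorProduct.map f (AlgHom.id R B) z) i = f (bA.repr z i) := by
    intro z i
    induction z using TensorProduct.induction_on with
    | zero => simp
    | tmul x y => simp [bC, bA, Algebra.TensorProduct.basis_repr_tmul]
    | add x y hx hy => simp [map_add, hx, hy]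
  rw [Ideal.span_le]
  refine ⟨?_, fun h z hz => ?_⟩
  · rintro h _ ⟨z, hz, i, rfl⟩
    show f _ = 0
    rw [← key, h z hz, map_zero, Finsupp.zero_apply]
  · refine (LinearEquiv.map_eq_zero_iff bC.repr).mp (Finsupp.ext fun i => ?_)
    rw [key]
    exact h ⟨z, hz, i, rfl⟩

/-- A closed immersion pulled back to an affine scheme is cut out by an ideal. -/
lemma exists_ideal_factor {E P : Scheme.{u}} (e : E ⟶ P) [IsClosedImmersion e]
    (R : CommRingCat.{u}) (j : Spec R ⟶ P) :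
    ∃ J : Ideal R, ∀ (D : CommRingCat.{u}) (ψ : R ⟶ D),
      (∃ l, l ≫ e = Spec.map ψ ≫ j) ↔ J ≤ RingHom.ker ψ.hom := by
  obtain ⟨J, iso, hiso⟩ := IsClosedImmersion.Spec_iff.mp
    (inferInstance : IsClosedImmersion (pullback.fst j e))
  refine ⟨J, fun D ψ => ⟨fun ⟨l, hl⟩ => ?_, fun h => ?_⟩⟩
  · let m := pullback.lift (Spec.map ψ) l hl.symm ≫ iso.hom
    have hm : m ≫ Spec.map (CommRingCat.ofHom (Ideal.Quotient.mk J)) = Spec.map ψ := by
      rw [Category.assoc, ← hiso, pullback.lift_fst]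
    rw [← Spec.map_preimage m, ← Spec.map_comp] at hm
    intro a ha
    have := congr(($(Spec.map_injective hm)).hom a)
    rw [RingHom.mem_ker, ← this, CommRingCat.hom_comp, RingHom.comp_apply]
    show (Spec.preimage m).hom (Ideal.Quotient.mk J a) = 0
    rw [Ideal.Quotient.eq_zero_iff_mem.mpr ha, map_zero]
  · let g : CommRingCat.of (R ⧸ J) ⟶ D :=
      CommRingCat.ofHom (Ideal.Quotient.lift J ψ.hom fun a ha => h ha)
    have hg : CommRingCat.ofHom (Ideal.Quotient.mk J) ≫ g = ψ := rfl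
    refine ⟨Spec.map g ≫ iso.inv ≫ pullback.snd j e, ?_⟩
    rw [Category.assoc, Category.assoc, ← pullback.condition, hiso, Category.assoc,
      Iso.inv_hom_id_assoc, ← Category.assoc, ← Spec.map_comp, hg]

/-- `Y` is, locally on `S`, covered by affines free over the base. -/
def LocallyFree {S Y : Scheme.{u}} (pY : Y ⟶ S) : Prop :=
  ∀ s : S, ∃ W : S.affineOpens, s ∈ W.1 ∧ ∀ y : Y, pY y ∈ W.1 →
    ∃ (V : Y.affineOpens) (h : V.1 ≤ pY ⁻¹ᵁ W.1), y ∈ V.1 ∧
      @Module.Free Γ(S, W) Γ(Y, V) _ _ (pY.appLE W.1 V.1 h).hom.toAlgebra.toModule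

lemma locallyFree_of_field {K : Type u} [Field K] {Y : Scheme.{u}}
    (pY : Y ⟶ Spec (CommRingCat.of K)) : LocallyFree pY := by
  intro s
  refine ⟨⟨⊤, isAffineOpen_top _⟩, trivial, fun y _ => ?_⟩
  obtain ⟨_, ⟨V, hV, rfl⟩, hy, -⟩ := Y.isBasis_affineOpens.exists_subset_of_mem_open
    (Set.mem_univ y) isOpen_univ
  refine ⟨⟨V, hV⟩, le_top, hy, ?_⟩
  let k : Γ(Spec (CommRingCat.of K), ⊤) ≅ CommRingCat.of K := Scheme.ΓSpecIso _
  have : IsField Γ(Spec (CommRingCat.of K), ⊤) :=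
    MulEquiv.isField (Field.toIsField K) k.commRingCatIsoToRingEquiv.toMulEquiv
  letI := this.toField
  letI : Module Γ(Spec (CommRingCat.of K), ⊤) Γ(Y, V) :=
    (pY.appLE ⊤ V le_top).hom.toAlgebra.toModule
  exact Module.Free.of_divisionRing _ _

variable {S X Y : Scheme.{u}} (pX : X ⟶ S) (pY : Y ⟶ S) {E : Scheme.{u}} (e : E ⟶ pullback pX pY)

/-- The condition that everything over `x : T ⟶ X` lies in `E`. -/
def Cond ⦃T : Scheme.{u}⦄ (x : T ⟶ X) : Prop :=
  ∀ ⦃Q : Scheme.{u}⦄ (q : Q ⟶ pullback pX pY) (q' : Q ⟶ T),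
    q ≫ pullback.fst pX pY = q' ≫ x → ∃ l, l ≫ e = q

lemma exists_factor_of_cover [Mono e] {Q : Scheme.{u}} (𝒰 : Scheme.OpenCover.{u} Q)
    (q : Q ⟶ pullback pX pY) (h : ∀ i, ∃ l, l ≫ e = 𝒰.f i ≫ q) : ∃ l, l ≫ e = q := by
  choose l hl using h
  refine ⟨Scheme.Cover.glueMorphisms 𝒰 l fun i j => ?_, Scheme.Cover.hom_ext 𝒰 _ _ fun i => ?_⟩
  · rw [← cancel_mono e, Category.assoc, Category.assoc, hl, hl, pullback.condition_assoc]
  · rw [Scheme.Cover.ι_glueMorphisms_assoc, hl]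

lemma isGood [IsClosedImmersion e] : ClosedRep.IsGood (Cond pX pY e) where
  comp g x hx Q q q' hq := hx q (q' ≫ g) (by rw [Category.assoc]; exact hq)
  glue 𝒰 x hx Q q q' hq := by
    refine exists_factor_of_cover pX pY e (𝒰.pullback₁ q') q fun i => ?_
    refine hx i _ (pullback.snd q' (𝒰.f i)) ?_
    show (pullback.fst q' (𝒰.f i) ≫ q) ≫ pullback.fst pX pY = _
    rw [Category.assoc, hq, pullback.condition_assoc]
    rfl

lemma isRep [IsClosedImmersion e] (U : X.affineOpens) (W : S.affineOpens)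
    (hUW : U.1 ≤ pX ⁻¹ᵁ W.1)
    (hW : ∀ y : Y, pY y ∈ W.1 → ∃ (V : Y.affineOpens) (h : V.1 ≤ pY ⁻¹ᵁ W.1), y ∈ V.1 ∧
      @Module.Free Γ(S, W) Γ(Y, V) _ _ (pY.appLE W.1 V.1 h).hom.toAlgebra.toModule) :
    ClosedRep.IsRep (Cond pX pY e) U := by
  letI : Algebra Γ(S, W) Γ(X, U) := (pX.appLE W.1 U.1 hUW).hom.toAlgebra
  let ι := {V : Y.affineOpens // ∃ h : V.1 ≤ pY ⁻¹ᵁ W.1,
      @Module.Free Γ(S, W) Γ(Y, V) _ _ (pY.appLE W.1 V.1 h).hom.toAlgebra.toModule}
  letI alg (V : ι) : Algebra Γ(S, W) Γ(Y, V.1) := (pY.appLE W.1 V.1.1 V.2.fst).hom.toAlgebra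
  have free (V : ι) : Module.Free Γ(S, W) Γ(Y, V.1) := V.2.snd
  have e₁ : Spec.map (CommRingCat.ofHom (algebraMap Γ(S, W) Γ(X, U))) ≫ W.2.fromSpec =
      U.2.fromSpec ≫ pX :=
    W.2.SpecMap_appLE_fromSpec pX U.2 hUW
  have e₂ (V : ι) : Spec.map (CommRingCat.ofHom (algebraMap Γ(S, W) Γ(Y, V.1))) ≫ W.2.fromSpec =
      V.1.2.fromSpec ≫ pY :=
    W.2.SpecMap_appLE_fromSpec pY V.1.2 V.2.fst
  have : IsOpenImmersion W.2.fromSpec := IsAffineOpen.isOpenImmersion_fromSpec _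
  have : IsOpenImmersion U.2.fromSpec := IsAffineOpen.isOpenImmersion_fromSpec _
  let j (V : ι) : Spec (CommRingCat.of (Γ(X, U) ⊗[Γ(S, W)] Γ(Y, V.1))) ⟶ pullback pX pY :=
    (pullbackSpecIso Γ(S, W) Γ(X, U) Γ(Y, V.1)).inv ≫
      pullback.map _ _ pX pY U.2.fromSpec V.1.2.fromSpec W.2.fromSpec e₁ (e₂ V)
  have hjfst (V : ι) : j V ≫ pullback.fst pX pY =
      Spec.map (CommRingCat.ofHom Algebra.TensorProduct.includeLeftRingHom) ≫ U.2.fromSpec := by
    rw [Category.assoc, pullback.lift_fst, pullbackSpecIso_inv_fst_assoc]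
  have hjrange (V : ι) : Set.range (j V) = pullback.fst pX pY ⁻¹' (U.1 : Set X) ∩
      pullback.snd pX pY ⁻¹' (V.1.1 : Set Y) := by
    rw [Scheme.Hom.comp_base, TopCat.coe_comp, Set.range_comp,
      (Set.range_eq_univ.mpr (Scheme.Hom.surjective _)), Set.image_univ, Scheme.Pullback.range_map,
      U.2.range_fromSpec, V.1.2.range_fromSpec]
  choose J hJ using fun V : ι => exists_ideal_factor e _ (j V)
  choose I hI using fun V : ι =>
    exists_coeff_ideal Γ(S, W) Γ(X, U) Γ(Y, V.1) (J V : Set (Γ(X, U) ⊗[Γ(S, W)] Γ(Y, V.1)))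
  refine ⟨⨆ V, I V, fun C φ => ?_⟩
  letI : Algebra Γ(S, W) C := (φ.hom.comp (algebraMap Γ(S, W) Γ(X, U))).toAlgebra
  let f : Γ(X, U) →ₐ[Γ(S, W)] C := { φ.hom with commutes' := fun _ => rfl }
  rw [iSup_le_iff]
  refine ⟨fun hc V => (hI V C f).mp fun z hz => ?_, fun hle => ?_⟩
  · obtain ⟨l, hl⟩ := hc
      (Spec.map (CommRingCat.ofHom (Algebra.TensorProduct.map f
        (AlgHom.id Γ(S, W) Γ(Y, V.1))).toRingHom) ≫ j V)
      (Spec.map (CommRingCat.ofHom Algebra.TensorProduct.includeLeftRingHom)) (by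
        rw [Category.assoc, hjfst, ← Spec.map_comp_assoc, ← Spec.map_comp_assoc]
        congr 2)
    exact (hJ V _ _).mp ⟨l, hl⟩ hz
  intro Q q q' hq
  have hcov : ∀ z : Q, ∃ (V : ι) (D : CommRingCat.{u}) (o : Spec D ⟶ Q),
      IsOpenImmersion o ∧ z ∈ Set.range o ∧ Set.range (o ≫ q) ⊆ Set.range (j V) := by
    intro z
    have hU : pullback.fst pX pY (q z) ∈ U.1 := by
      rw [← Scheme.Hom.comp_apply, hq, ← Category.assoc, Scheme.Hom.comp_apply,
        ← SetLike.mem_coe, ← U.2.range_fromSpec]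
      exact ⟨_, rfl⟩
    obtain ⟨V, hV, hzV, hfree⟩ := hW (pullback.snd pX pY (q z)) (by
      have : pX (pullback.fst pX pY (q z)) ∈ W.1 := hUW hU
      rwa [← Scheme.Hom.comp_apply, pullback.condition, Scheme.Hom.comp_apply] at this)
    let O : (pullback pX pY).Opens :=
      pullback.fst pX pY ⁻¹ᵁ U.1 ⊓ pullback.snd pX pY ⁻¹ᵁ V.1
    obtain ⟨_, ⟨O', hO', rfl⟩, hz, hsub⟩ := Q.isBasis_affineOpens.exists_subset_of_mem_open
      (show z ∈ q ⁻¹ᵁ O from ⟨hU, hzV⟩) (q ⁻¹ᵁ O).2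
    refine ⟨⟨V, hV, hfree⟩, _, IsAffineOpen.fromSpec hO', IsAffineOpen.isOpenImmersion_fromSpec _,
      by rw [hO'.range_fromSpec]; exact hz, ?_⟩
    rintro _ ⟨w, rfl⟩
    rw [hjrange, Scheme.Hom.comp_apply]
    exact hsub (hO'.range_fromSpec.subset ⟨w, rfl⟩)
  choose V D o ho hzo hrange using hcov
  refine exists_factor_of_cover pX pY e
    { I₀ := Q, X := fun z => Spec (D z), f := o,
      mem₀ := (Scheme.presieve₀_mem_precoverage_iff _).mpr
        ⟨fun z => ⟨z, hzo z⟩, fun z => ho z⟩ } q fun (z : Q) => ?_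
  show ∃ l, l ≫ e = o z ≫ q
  have : IsOpenImmersion (V z).1.2.fromSpec := IsAffineOpen.isOpenImmersion_fromSpec _
  have hjimm : IsOpenImmersion (j (V z)) :=
    MorphismProperty.comp_mem @IsOpenImmersion _ _ inferInstance inferInstance
  let ψ := Spec.preimage (IsOpenImmersion.lift (j (V z)) (o z ≫ q) (hrange z))
  have hψ : Spec.map ψ ≫ j (V z) = o z ≫ q := by
    rw [Spec.map_preimage, IsOpenImmersion.lift_fac]
  let c := Spec.preimage (o z ≫ q')
  have hc : CommRingCat.ofHom Algebra.TensorProduct.includeLeftRingHom ≫ ψ = φ ≫ c := by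
    refine Spec.map_injective ?_
    rw [← cancel_mono U.2.fromSpec, Spec.map_comp, Spec.map_comp, Category.assoc, ← hjfst,
      reassoc_of% hψ, hq, Spec.map_preimage, Category.assoc, Category.assoc]
  rw [← hψ, hJ]
  intro t ht
  have h0 := (hI (V z) C f).mpr (hle (V z)) t ht
  letI : Algebra Γ(S, W) (D z) := (c.hom.comp (algebraMap Γ(S, W) C)).toAlgebra
  let cA : C →ₐ[Γ(S, W)] D z := { c.hom with commutes' := fun _ => rfl }
  have hcomm : ∀ a, ψ.hom (a ⊗ₜ[Γ(S, W)] (1 : Γ(Y, (V z).1))) = c.hom (φ.hom a) :=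
    fun a => congr(($hc).hom a)
  let bA : Γ(Y, (V z).1) →ₐ[Γ(S, W)] D z :=
    { ψ.hom.comp Algebra.TensorProduct.includeRight.toRingHom with
      commutes' := fun r => by
        show ψ.hom (1 ⊗ₜ algebraMap Γ(S, W) Γ(Y, (V z).1) r) = _
        rw [← Algebra.TensorProduct.includeRight_apply, AlgHom.commutes]
        exact hcomm _ }
  have hfac : ∀ w, ψ.hom w = Algebra.TensorProduct.lift cA bA (fun _ _ => .all _ _)
      (Algebra.TensorProduct.map f (AlgHom.id Γ(S, W) Γ(Y, (V z).1)) w) := by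
    intro w
    induction w using TensorProduct.induction_on with
    | zero => simp
    | add x y hx hy => simp [map_add, hx, hy]
    | tmul x y =>
      rw [Algebra.TensorProduct.map_tmul, Algebra.TensorProduct.lift_tmul]
      show ψ.hom (x ⊗ₜ y) = c.hom (φ.hom x) * ψ.hom (1 ⊗ₜ y)
      rw [← hcomm, ← map_mul, Algebra.TensorProduct.tmul_mul_tmul, mul_one, one_mul]
  rw [RingHom.mem_ker, hfac, h0, map_zero]

/-- The locus of `X` over which `E` is everything is a closed subscheme. -/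
theorem exists_closed [IsClosedImmersion e] (hY : LocallyFree pY) :
    ∃ (Z : Scheme.{u}) (i : Z ⟶ X), IsClosedImmersion i ∧
      ∀ (T : Scheme.{u}) (x : T ⟶ X), Cond pX pY e x ↔ ∃ z : T ⟶ Z, z ≫ i = x := by
  refine ClosedRep.exists_closed (isGood pX pY e) fun U x hx => ?_
  obtain ⟨W, hxW, hW⟩ := hY (pX x)
  obtain ⟨g, hg, hxg⟩ := U.2.exists_basicOpen_le (V := pX ⁻¹ᵁ W.1) ⟨x, hxW⟩ hx
  exact ⟨g, hxg, isRep pX pY e _ W hg hW⟩

/-- Version in `Over S`: points `x` with `f = g` on `T ⊗ Y` form a closed subscheme. -/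
theorem exists_equalizer_rep {S : Scheme.{u}} {X Y W : Over S} (f g : X ⊗ Y ⟶ W)
    (hY : LocallyFree Y.hom) [IsClosedImmersion (equalizer.ι f g).left] :
    ∃ (Z : Over S) (i : Z ⟶ X), IsClosedImmersion i.left ∧
      ∀ (T : Over S) (x : T ⟶ X), (x ▷ Y) ≫ f = (x ▷ Y) ≫ g ↔ ∃ z : T ⟶ Z, z ≫ i = x := by
  obtain ⟨Z, i, hi, hZ⟩ := exists_closed X.hom Y.hom (equalizer.ι f g).left hY
  refine ⟨Over.mk (i ≫ X.hom), Over.homMk i rfl, hi, fun T x => ⟨fun h => ?_, ?_⟩⟩
  · have hc : Cond X.hom Y.hom (equalizer.ι f g).left x.left := by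
      intro Q q q' hq
      let l := equalizer.lift (x ▷ Y) h
      refine ⟨pullback.lift q' (q ≫ pullback.snd X.hom Y.hom) ?_ ≫ l.left, ?_⟩
      · rw [Category.assoc, ← pullback.condition, reassoc_of% hq, Over.w]
      · rw [Category.assoc, ← Over.comp_left, equalizer.lift_ι]
        refine pullback.hom_ext ?_ ?_
        · erw [Category.assoc, Over.whiskerRight_left_fst, pullback.lift_fst_assoc]
          exact hq.symm
        · erw [Category.assoc, Over.whiskerRight_left_snd, pullback.lift_snd]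
    obtain ⟨z, hz⟩ := (hZ T.left x.left).mp hc
    exact ⟨Over.homMk z (by
      show z ≫ i ≫ X.hom = T.hom
      rw [reassoc_of% hz, Over.w]), Over.OverMorphism.ext hz⟩
  · rintro ⟨z, rfl⟩
    have hc : Cond X.hom Y.hom (equalizer.ι f g).left (z.left ≫ i) := (hZ _ _).mpr ⟨_, rfl⟩
    set w := z ≫ (Over.homMk i rfl : Over.mk (i ≫ X.hom) ⟶ X)
    obtain ⟨l, hl⟩ := hc (w ▷ Y).left (pullback.fst T.hom Y.hom) (Over.whiskerRight_left_fst _)
    let l' : T ⊗ Y ⟶ equalizer f g := Over.homMk l (by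
      rw [← Over.w (equalizer.ι f g), reassoc_of% hl, Over.w])
    have : l' ≫ equalizer.ι f g = w ▷ Y := Over.OverMorphism.ext hl
    rw [← this, Category.assoc, Category.assoc, equalizer.condition]

end Groth.Agent.GrpScheme.ClosedRepProd
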