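import Mathlib

/-!
# A criterion for representability of a condition by a closed subscheme

A condition on morphisms into `X` which is Zariski local and, on small affine opens of `X`,
described by an ideal, is represented by a closed subscheme of `X`.
-/

set_option autoImplicit false

universe u

open CategoryTheory AlgebraicGeometry Limits Opposite

namespace Groth.Agent.GrpScheme.ClosedRep

variable {X : Scheme.{u}} {Φ : ∀ ⦃T : Scheme.{u}⦄, (T ⟶ X) → Prop}

/-- A condition on morphisms to `X` stable under precomposition and local on the source. -/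
structure IsGood (Φ : ∀ ⦃T : Scheme.{u}⦄, (T ⟶ X) → Prop) : Prop where
  comp : ∀ {T T' : Scheme.{u}} (g : T' ⟶ T) (x : T ⟶ X), Φ x → Φ (g ≫ x)
  glue : ∀ {T : Scheme.{u}} (𝒰 : Scheme.OpenCover.{u} T) (x : T ⟶ X), (∀ i, Φ (𝒰.f i ≫ x)) → Φ x

/-- The condition is given by an ideal on the affine open `U`. -/
def IsRep (Φ : ∀ ⦃T : Scheme.{u}⦄, (T ⟶ X) → Prop) (U : X.affineOpens) : Prop :=
  ∃ I : Ideal Γ(X, U), ∀ (C : CommRingCat.{u}) (φ : Γ(X, U) ⟶ C),
    Φ (Spec.map φ ≫ U.2.fromSpec) ↔ I ≤ RingHom.ker φ.hom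

lemma exists_lift_basicOpen {U : X.affineOpens} (g : Γ(X, U)) {C : CommRingCat.{u}}
    (ψ : Γ(X, U) ⟶ C) (hg : IsUnit (ψ.hom g)) :
    ∃ ψ' : Γ(X, X.affineBasicOpen g) ⟶ C,
      X.presheaf.map (homOfLE (X.basicOpen_le g)).op ≫ ψ' = ψ ∧
      Spec.map ψ' ≫ (X.affineBasicOpen g).2.fromSpec = Spec.map ψ ≫ U.2.fromSpec := by
  have := U.2.isLocalization_basicOpen g
  let l : Γ(X, X.basicOpen g) →+* C :=
    IsLocalization.Away.lift g hg
  have hl : X.presheaf.map (homOfLE (X.basicOpen_le g)).op ≫ CommRingCat.ofHom l = ψ := by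
    ext a
    exact IsLocalization.Away.lift_eq g hg a
  refine ⟨CommRingCat.ofHom l, hl, ?_⟩
  rw [← U.2.map_fromSpec (X.affineBasicOpen g).2 (homOfLE (X.basicOpen_le g)).op,
    ← Spec.map_comp_assoc]
  exact congr(Spec.map $hl ≫ _)

lemma eq_zero_of_span_eq_top {C : Type*} [CommRing C] {s : Set C} (hs : Ideal.span s = ⊤) {c : C}
    (h : ∀ f ∈ s, algebraMap C (Localization.Away f) c = 0) : c = 0 := by
  have key : Ideal.span s ≤ (Submodule.annihilator (Ideal.span {c})).radical := by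
    refine Ideal.span_le.mpr fun f hf => ?_
    obtain ⟨⟨_, n, rfl⟩, hn⟩ := (IsLocalization.map_eq_zero_iff (Submonoid.powers f) _ c).mp (h f hf)
    exact ⟨n, by rw [Submodule.mem_annihilator_span_singleton]; simpa using hn⟩
  rw [hs, top_le_iff, Ideal.radical_eq_top, Ideal.eq_top_iff_one,
    Submodule.mem_annihilator_span_singleton, one_smul] at key
  exact key

lemma isRep_of_basicOpen (h : IsGood Φ) (U : X.affineOpens) (s : Set Γ(X, U))
    (hs : Ideal.span s = ⊤) (hrep : ∀ g ∈ s, IsRep Φ (X.affineBasicOpen g)) : IsRep Φ U := by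
  obtain ⟨t, hts, ht⟩ := (Ideal.span_eq_top_iff_finite s).mp hs
  choose I hI using fun g : t => hrep g.1 (hts g.2)
  let r (g : t) : Γ(X, U) →+* Γ(X, X.affineBasicOpen g.1) :=
    (X.presheaf.map (homOfLE (X.basicOpen_le g.1)).op).hom
  refine ⟨⨅ g, (I g).comap (r g), fun C φ => ⟨fun hφ a ha => ?_, fun hle => ?_⟩⟩
  · refine eq_zero_of_span_eq_top (s := φ.hom '' (t : Set _))
      (by rw [← Ideal.map_span, ht, Ideal.map_top]) ?_
    rintro _ ⟨g, hg, rfl⟩
    let ψ := φ ≫ CommRingCat.ofHom (algebraMap C (Localization.Away (φ.hom g)))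
    obtain ⟨ψ', hres, hfac⟩ := exists_lift_basicOpen g ψ
      (IsLocalization.Away.algebraMap_isUnit (φ.hom g))
    have : Φ (Spec.map ψ' ≫ (X.affineBasicOpen g).2.fromSpec) := by
      rw [hfac, Spec.map_comp, Category.assoc]
      exact h.comp _ _ hφ
    have h0 := (hI ⟨g, hg⟩ _ ψ').mp this ((Submodule.mem_iInf _).mp ha ⟨g, hg⟩)
    exact (congr(($hres).hom a)).symm.trans h0
  · refine h.glue (Scheme.affineOpenCoverOfSpanRangeEqTop (R := C)
      (fun g : t => φ.hom g.1) ?_).openCover _ fun g => ?_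
    · rw [eq_top_iff, ← Ideal.map_top φ.hom, ← ht, Ideal.map_span]
      exact Ideal.span_mono (by rintro _ ⟨a, ha, rfl⟩; exact ⟨⟨a, ha⟩, rfl⟩)
    let ψ := φ ≫ CommRingCat.ofHom (algebraMap C (Localization.Away (φ.hom g.1)))
    have hu : IsUnit (ψ.hom g.1) := IsLocalization.Away.algebraMap_isUnit (φ.hom g.1)
    obtain ⟨ψ', hres, hfac⟩ := exists_lift_basicOpen g.1 ψ hu
    show Φ (Spec.map _ ≫ Spec.map φ ≫ _)
    rw [← Spec.map_comp_assoc]
    show Φ (Spec.map ψ ≫ _)
    rw [← hfac, hI g]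
    intro b hb
    have := U.2.isLocalization_basicOpen g.1
    obtain ⟨⟨a, ⟨_, n, rfl⟩⟩, hab⟩ := IsLocalization.surj (Submonoid.powers g.1)
      (show Γ(X, X.basicOpen g.1) from b)
    have ha : r g a ∈ I g := by
      have : r g a = b * r g (g.1 ^ n) := hab.symm
      rw [this]; exact Ideal.mul_mem_right _ _ hb
    suffices ψ.hom a = 0 by
      have hzero : ψ'.hom b * ψ.hom (g.1 ^ n) = ψ.hom a := by
        rw [← congr(($hres).hom (g.1 ^ n)), ← congr(($hres).hom a)]
        exact (map_mul ψ'.hom _ _).symm.trans congr(ψ'.hom $hab)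
      rw [this, map_pow] at hzero
      exact (hu.pow n).mul_left_eq_zero.mp hzero
    -- a power of `g` times `a` lies in the intersection
    have hm : ∀ k : t, ∃ m : ℕ, r k (g.1 ^ m * a) ∈ I k := by
      intro k
      let Q := CommRingCat.of (Γ(X, X.affineBasicOpen k.1) ⧸ I k)
      let χ : Γ(X, U) ⟶ Q := CommRingCat.ofHom ((Ideal.Quotient.mk (I k)).comp (r k))
      let L := Localization.Away (χ.hom g.1)
      obtain ⟨χ', hres', hfac'⟩ := exists_lift_basicOpen g.1
        (χ ≫ CommRingCat.ofHom (algebraMap Q L)) (IsLocalization.Away.algebraMap_isUnit (χ.hom g.1))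
      have hΦ : Φ (Spec.map χ' ≫ (X.affineBasicOpen g.1).2.fromSpec) := by
        rw [hfac', Spec.map_comp, Category.assoc]
        refine h.comp _ _ ?_
        show Φ (Spec.map (X.presheaf.map (homOfLE (X.basicOpen_le k.1)).op ≫
          CommRingCat.ofHom (Ideal.Quotient.mk (I k))) ≫ _)
        rw [Spec.map_comp, Category.assoc]
        erw [U.2.map_fromSpec (X.affineBasicOpen k.1).2, hI k]
        intro x hx
        exact Ideal.Quotient.eq_zero_iff_mem.mpr hx
      have h0 : algebraMap Q L (χ.hom a) = 0 :=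
        (congr(($hres').hom a)).symm.trans ((hI g _ χ').mp hΦ ha)
      obtain ⟨⟨_, m, rfl⟩, hm⟩ :=
        (IsLocalization.map_eq_zero_iff (Submonoid.powers (χ.hom g.1)) _ (χ.hom a)).mp h0
      refine ⟨m, Ideal.Quotient.eq_zero_iff_mem.mp ?_⟩
      show (Ideal.Quotient.mk (I k)).comp (r k) (g.1 ^ m * a) = 0
      rw [map_mul, map_pow]
      exact hm
    choose m hm using hm
    let M := ∑ k, m k
    have hM : g.1 ^ M * a ∈ ⨅ k, (I k).comap (r k) := by
      refine (Submodule.mem_iInf _).mpr fun k => ?_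
      obtain ⟨d, hd⟩ := Nat.exists_eq_add_of_le
        (Finset.single_le_sum (f := m) (fun _ _ => Nat.zero_le _) (Finset.mem_univ k))
      show r k (g.1 ^ M * a) ∈ I k
      rw [show M = m k + d from hd, pow_add, mul_right_comm, map_mul]
      exact Ideal.mul_mem_right _ _ (hm k)
    have := congr((CommRingCat.ofHom (algebraMap C (Localization.Away (φ.hom g.1)))).hom
      $(RingHom.mem_ker.mp (hle hM)))
    rw [map_zero, map_mul, map_mul, map_pow, map_pow] at this
    exact (hu.pow M).mul_right_eq_zero.mp this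

lemma eq_of_forall_ker {A : CommRingCat.{u}} {I J : Ideal A}
    (h : ∀ (C : CommRingCat.{u}) (φ : A ⟶ C),
      I ≤ RingHom.ker φ.hom ↔ J ≤ RingHom.ker φ.hom) : I = J := by
  refine le_antisymm ?_ ?_
  · have := (h (.of (A ⧸ J)) (CommRingCat.ofHom (Ideal.Quotient.mk J))).mpr
      (by simp [Ideal.mk_ker])
    simpa [Ideal.mk_ker] using this
  · have := (h (.of (A ⧸ I)) (CommRingCat.ofHom (Ideal.Quotient.mk I))).mp
      (by simp [Ideal.mk_ker])
    simpa [Ideal.mk_ker] using this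

/-- A Zariski local condition which is affine locally given by ideals is represented by a closed
subscheme. -/
theorem exists_closed (h : IsGood Φ)
    (hrep : ∀ (U : X.affineOpens), ∀ x ∈ U.1, ∃ g : Γ(X, U), x ∈ X.basicOpen g ∧
      IsRep Φ (X.affineBasicOpen g)) :
    ∃ (Z : Scheme.{u}) (i : Z ⟶ X), IsClosedImmersion i ∧
      ∀ (T : Scheme.{u}) (x : T ⟶ X), Φ x ↔ ∃ z : T ⟶ Z, z ≫ i = x := by
  have hall : ∀ U, IsRep Φ U := by
    intro U
    refine isRep_of_basicOpen h U {g | IsRep Φ (X.affineBasicOpen g)} ?_ fun g hg => hg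
    rw [← U.2.self_le_iSup_basicOpen_iff]
    intro x hx
    obtain ⟨g, hxg, hg⟩ := hrep U x hx
    exact TopologicalSpace.Opens.mem_iSup.mpr ⟨⟨g, hg⟩, hxg⟩
  choose I hI using hall
  let 𝓘 : X.IdealSheafData :=
    { ideal := I
      map_ideal_basicOpen := fun U f => eq_of_forall_ker fun C φ => by
        let res := X.presheaf.map (homOfLE (X.basicOpen_le f)).op
        have e : Spec.map (res ≫ φ) ≫ U.2.fromSpec =
            Spec.map φ ≫ (X.affineBasicOpen f).2.fromSpec :=
          (Spec.map_comp_assoc _ _ _).trans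
            congr(_ ≫ $(U.2.map_fromSpec (X.affineBasicOpen f).2 (homOfLE (X.basicOpen_le f)).op))
        refine Iff.trans ?_ (hI (X.affineBasicOpen f) C φ)
        refine (Ideal.map_le_iff_le_comap.trans ?_).trans (Iff.of_eq (congrArg (@Φ _) e))
        exact (hI U C (res ≫ φ)).symm }
  have hι : Φ 𝓘.subschemeι := by
    refine h.glue 𝓘.subschemeCover.openCover _ fun (U : X.affineOpens) => ?_
    show Φ (𝓘.subschemeCover.f U ≫ 𝓘.subschemeι)
    erw [Scheme.IdealSheafData.subschemeCover_map_subschemeι]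
    erw [Category.assoc, IsAffineOpen.isoSpec_inv_ι]
    erw [hI U]
    intro a ha
    exact Ideal.Quotient.eq_zero_iff_mem.mpr ha
  refine ⟨𝓘.subscheme, 𝓘.subschemeι, inferInstance, fun T x => ⟨fun hx => ?_, ?_⟩⟩
  · have hle : 𝓘.subschemeι.ker ≤ x.ker := by
      rw [Scheme.IdealSheafData.ker_subschemeι]
      refine Scheme.IdealSheafData.le_ofIdeals_iff.mpr fun U a ha => ?_
      show (x.app U.1).hom a = 0
      refine T.sheaf.eq_of_locally_eq' (fun W : {W : T.affineOpens // W.1 ≤ x ⁻¹ᵁ U.1} => W.1.1)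
        (x ⁻¹ᵁ U.1) (fun W => homOfLE W.2) (fun t ht => ?_) _ _ fun W => ?_
      · obtain ⟨_, ⟨W, hW, rfl⟩, htW, hWU⟩ :=
          (T.isBasis_affineOpens).exists_subset_of_mem_open ht (x ⁻¹ᵁ U.1).2
        exact TopologicalSpace.Opens.mem_iSup.mpr ⟨⟨⟨W, hW⟩, hWU⟩, htW⟩
      have hW : Φ (Spec.map (x.appLE U.1 W.1.1 W.2) ≫ U.2.fromSpec) := by
        rw [U.2.SpecMap_appLE_fromSpec x W.1.2 W.2]
        exact h.comp _ _ hx
      exact ((hI U _ _).mp hW ha).trans (map_zero _).symm
    exact ⟨IsClosedImmersion.lift 𝓘.subschemeι x hle, IsClosedImmersion.lift_fac _ _ hle⟩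
  · rintro ⟨z, rfl⟩
    exact h.comp _ _ hι

end Groth.Agent.GrpScheme.ClosedRep
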