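import Groth.Agent.Omega.Retraction
import Groth.Agent.Omega.Exists
import Groth.Agent.Omega.DiagUniv

/-!
# The conormal sheaf of a section is the restriction of the differentials
-/

set_option autoImplicit false

universe u

open CategoryTheory CategoryTheory.Limits AlgebraicGeometry TopologicalSpace Opposite

noncomputable section

namespace Groth.Agent.GrpScheme.SectionConormal

open OmegaSh Groth.Agent.Omega.Basic Groth.Agent.Omega.Stalks

variable {Z X Y : Scheme.{u}} {f : X ⟶ Y} (i : Z ⟶ X) [QuasiCompact i] {Ω : X.Modules} (d : Der f Ω)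

/-- `s ↦ i^* d s` on sections of the ideal. -/
def sect (U : X.Opens) (s : Γ(ClSub.idealMod i.ker, U)) :
    Γ((Scheme.Modules.pullback i).obj Ω, i ⁻¹ᵁ U) :=
  pullSect i Ω U (d.app U (idealSect i.ker U s))

omit [QuasiCompact i] in
theorem sect_add (U : X.Opens) (a b : Γ(ClSub.idealMod i.ker, U)) :
    sect i d U (a + b) = sect i d U a + sect i d U b := by
  rw [sect, map_add, map_add, map_add]
  rfl

theorem sect_smul (U : X.Opens) (r : Γ(X, U)) (s : Γ(ClSub.idealMod i.ker, U)) :
    sect i d U (r • s) = i.app U r • sect i d U s := by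
  rw [sect, idealSect_smul, der_mul, map_add, pullSect_smul, pullSect_smul, app_idealSect]
  simp [sect]

theorem sect_map {U V : X.Opens} (e : V ≤ U) (s : Γ(ClSub.idealMod i.ker, U)) :
    sect i d V ((ClSub.idealMod i.ker).presheaf.map (homOfLE e).op s) =
      ((Scheme.Modules.pullback i).obj Ω).presheaf.map (homOfLE (i.preimage_mono e)).op
        (sect i d U s) := by
  rw [sect, idealSect_map, der_map, pullSect_map]
  rfl

/-- The differential restricted to the ideal, as a morphism. -/
def hom : ClSub.idealMod i.ker ⟶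
    (Scheme.Modules.pushforward i).obj ((Scheme.Modules.pullback i).obj Ω) :=
  ⟨PresheafOfModules.homMk
    { app := fun U => AddCommGrpCat.ofHom (AddMonoidHom.mk'
        (G := Γ((Scheme.Modules.pullback i).obj Ω, i ⁻¹ᵁ U.unop)) (sect i d U.unop)
          (sect_add i d U.unop))
      naturality := fun {U V} e => by
        ext m
        exact sect_map i d e.unop.le m }
    (fun U r m => sect_smul i d U.unop r m)⟩

/-- The conormal differential exists. -/
theorem exists_conormalDiff :
    ∃ φ : Omega.conormal i ⟶ (Scheme.Modules.pullback i).obj Ω, IsConormalDiff i d φ := by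
  let A := Scheme.Modules.pullbackPushforwardAdjunction i
  refine ⟨(A.homEquiv _ _).symm (hom i d), fun U s => ?_⟩
  refine (homEquiv_app i ((A.homEquiv (ClSub.idealMod i.ker) _).symm (hom i d)) U s).symm.trans ?_
  rw [Equiv.apply_symm_apply]
  rfl

/-- Derivations relative to an isomorphism vanish. -/
theorem isZero_of_isIso {X Y : Scheme.{u}} (f : X ⟶ Y) [IsIso f] {Ω : X.Modules} {d : Der f Ω}
    (hd : IsUniversal d) : Limits.IsZero Ω := by
  rw [IsZero.iff_id_eq_zero]
  refine hom_ext_of_universal hd fun U s => ?_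
  have h : d.app U s = 0 := by
    obtain ⟨V, rfl⟩ : ∃ V, f ⁻¹ᵁ V = U := ⟨inv f ⁻¹ᵁ U, by
      rw [← Scheme.Hom.comp_preimage, IsIso.hom_inv_id]; rfl⟩
    obtain ⟨c, rfl⟩ := (ConcreteCategory.bijective_of_isIso (f.app V)).surjective s
    exact der_app d V c
  rw [h, map_zero, map_zero]

/-- The conormal sheaf of a section of `f` is the restriction of the sheaf of differentials. -/
theorem nonempty_iso [IsImmersion i] (hi : IsIso (i ≫ f)) (hd : IsUniversal d) :
    Nonempty (Omega.conormal i ≅ (Scheme.Modules.pullback i).obj Ω) := by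
  obtain ⟨φ, hφ⟩ := exists_conormalDiff i d
  obtain ⟨ΩZ, dZ, hZ⟩ := Groth.Agent.Omega.Exists.exists_isUniversal (i ≫ f)
  obtain ⟨c, hc, -⟩ := existsUnique_diffCompat (h := i) (b := 𝟙 Y) (f' := i ≫ f) (f := f)
    (Category.comp_id _) hd dZ
  obtain ⟨w, hex, ⟨r, hr⟩, -⟩ := Groth.Agent.Omega.Retraction.splitExact (f := f) (i := i)
    (g := f ≫ inv (i ≫ f)) hd hZ hφ hc
    (by rw [← Category.assoc, IsIso.hom_inv_id]) (by rw [Category.assoc, IsIso.inv_hom_id, Category.comp_id])
  have h0 : Limits.IsZero ΩZ := isZero_of_isIso (i ≫ f) hZ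
  have : Epi φ := hex.epi_f (h0.eq_of_tgt _ _)
  have : IsSplitMono φ := ⟨⟨r, hr⟩⟩
  have : IsIso φ := isIso_of_epi_of_isSplitMono φ
  exact ⟨asIso φ⟩

end Groth.Agent.GrpScheme.SectionConormal
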