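import Groth.Agent.GrpScheme.DiagRep
import Groth.Agent.GrpScheme.EtaleEndo
import Groth.Agent.GrpScheme.ClosedImage
import Groth.Agent.GrpScheme.Rosenlicht.Group
import Groth.Agent.GrpScheme.Rosenlicht.Axes
import Mathlib.LinearAlgebra.Eigenspace.Pi
import Mathlib.LinearAlgebra.Eigenspace.Semisimple
import Mathlib.LinearAlgebra.Eigenspace.Triangularizable
import Mathlib.FieldTheory.Separable
import Mathlib.RingTheory.RootsOfUnity.PrimitiveRoots

/-!
# Characters of connected groups over an algebraically closed field; split tori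

Torsion points of order prime to the characteristic, the map to a split torus given by a basis of
the characters, and commutative affine groups with dense torsion are split tori.
-/

set_option autoImplicit false
set_option backward.isDefEq.respectTransparency false

universe u

open CategoryTheory MonoidalCategory CartesianMonoidalCategory MonObj GrpObj AlgebraicGeometry Limits
open Groth.Agent.SekLib Groth.Agent.RedPts

noncomputable section

namespace Groth.Agent.GrpScheme.CharSplit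

open DiagRep Tangent RegularRep
open Rosenlicht (pb pb_comp pb_cst cst)

attribute [local instance] secAlgebra

variable {k : Type u} [Field k] [IsAlgClosed k]

/-- Rational points. -/
abbrev Pt (G : Over (Spec (CommRingCat.of k))) := 𝟙_ (Over (Spec (CommRingCat.of k))) ⟶ G

/-- The closed point under a rational point. -/
def cpt {G : Over (Spec (CommRingCat.of k))} (x : Pt G) : G.left := x.left (IsLocalRing.closedPoint k)

/-- Evaluation at a rational point. -/
def evk {G : Over (Spec (CommRingCat.of k))} (x : Pt G) : Γ(G.left, ⊤) →+* k :=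
  ((Scheme.ΓSpecIso (CommRingCat.of k)).hom.hom).comp (pb x)

variable {G H E : Over (Spec (CommRingCat.of k))}

lemma evk_comp (x : Pt G) (f : G ⟶ H) (a : Γ(H.left, ⊤)) : evk (x ≫ f) a = evk x (pb f a) :=
  congrArg (Scheme.ΓSpecIso (CommRingCat.of k)).hom.hom (pb_comp x f a)

lemma evk_cst (x : Pt G) (c : k) : evk x (cst G c) = c := by
  change (Scheme.ΓSpecIso (CommRingCat.of k)).hom (pb x (cst G c)) = c
  rw [pb_cst]
  change (Scheme.ΓSpecIso (CommRingCat.of k)).hom
    (((Scheme.ΓSpecIso (CommRingCat.of k)).inv ≫ (𝟙 _ : Spec (CommRingCat.of k) ⟶ _).appTop) c) = c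
  simp

lemma evk_injective (x : Pt G) {a : Γ(G.left, ⊤)} (h : evk x a = 0) : pb x a = 0 :=
  (ConcreteCategory.bijective_of_isIso (Scheme.ΓSpecIso (CommRingCat.of k)).hom).1 (h.trans (map_zero _).symm)

lemma evk_eq_zero_iff (x : Pt G) (a : Γ(G.left, ⊤)) : evk x a = 0 ↔ cpt x ∉ G.left.basicOpen a := by
  change _ ↔ (IsLocalRing.closedPoint k : Spec (CommRingCat.of k)) ∉ x.left ⁻¹ᵁ G.left.basicOpen a
  rw [Scheme.preimage_basicOpen_top]
  constructor
  · intro h
    rw [show x.left.appTop a = 0 from evk_injective x h, Scheme.basicOpen_zero]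
    exact id
  · intro h
    by_contra h0
    have h1 : IsUnit ((Scheme.ΓSpecIso (CommRingCat.of k)).hom (pb x a)) := isUnit_iff_ne_zero.2 h0
    have hu : IsUnit (x.left.appTop a) := by
      have := h1.map (Scheme.ΓSpecIso (CommRingCat.of k)).inv.hom
      rwa [Iso.hom_inv_id_apply] at this
    refine h ?_
    erw [Scheme.basicOpen_of_isUnit _ hu]
    trivial

lemma exists_pt_mem [LocallyOfFiniteType G.hom] {U : Set G.left} (hU : IsLocallyClosed U) (hne : U.Nonempty) :
    ∃ x : Pt G, cpt x ∈ U := by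
  have := LocallyOfFiniteType.jacobsonSpace G.hom
  obtain ⟨z, hz, hzc⟩ := nonempty_inter_closedPoints hne hU
  refine ⟨Over.homMk _ ((pointEquivClosedPoint G.hom).symm ⟨z, hzc⟩).2, ?_⟩
  have h : ((pointEquivClosedPoint G.hom) ((pointEquivClosedPoint G.hom).symm ⟨z, hzc⟩)).1 = z := by
    rw [Equiv.apply_symm_apply]
  rw [← h] at hz
  exact hz

lemma pt_ext [LocallyOfFiniteType G.hom] {x y : Pt G} (h : cpt x = cpt y) : x = y := by
  have := (pointEquivClosedPoint G.hom).injective (a₁ := ⟨x.left, Over.w x⟩) (a₂ := ⟨y.left, Over.w y⟩)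
    (Subtype.ext h)
  exact Over.OverMorphism.ext (congrArg Subtype.val this)

lemma isClosed_cpt [LocallyOfFiniteType G.hom] (x : Pt G) : IsClosed ({cpt x} : Set G.left) :=
  ((pointEquivClosedPoint G.hom) ⟨x.left, Over.w x⟩).2

/-- A set of rational points meeting every nonempty open. -/
def DenseSet (D : Set (Pt G)) : Prop := ∀ U : G.left.Opens, (U : Set G.left).Nonempty → ∃ x ∈ D, cpt x ∈ U

lemma denseSet_univ [LocallyOfFiniteType G.hom] : DenseSet (Set.univ : Set (Pt G)) := fun U hU => by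
  obtain ⟨x, hx⟩ := exists_pt_mem U.2.isLocallyClosed hU
  exact ⟨x, trivial, hx⟩

lemma eq_zero_of_dense [IsReduced G.left] {D : Set (Pt G)} (hD : DenseSet D) {a : Γ(G.left, ⊤)}
    (h : ∀ x ∈ D, evk x a = 0) : a = 0 := by
  rw [← basicOpen_eq_bot_iff]
  by_contra hne
  obtain ⟨x, hxD, hx⟩ := hD (G.left.basicOpen a) (Set.nonempty_iff_ne_empty.2 fun e => hne (TopologicalSpace.Opens.ext e))
  exact (evk_eq_zero_iff x a).1 (h x hxD) hx

lemma eq_of_dense [IsReduced G.left] {D : Set (Pt G)} (hD : DenseSet D) {a b : Γ(G.left, ⊤)}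
    (h : ∀ x ∈ D, evk x a = evk x b) : a = b :=
  sub_eq_zero.1 (eq_zero_of_dense hD fun x hx => by rw [map_sub, h x hx, sub_self])

lemma ext_of_dense [IsReduced G.left] [IsAffine H.left] {D : Set (Pt G)} (hD : DenseSet D) {f g : G ⟶ H}
    (h : ∀ x ∈ D, x ≫ f = x ≫ g) : f = g := by
  refine Over.OverMorphism.ext (ext_of_isAffine (CommRingCat.hom_ext (RingHom.ext fun a => ?_)))
  exact eq_of_dense hD fun x hx => by
    change evk x (pb f a) = evk x (pb g a)
    rw [← evk_comp, h x hx, evk_comp]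

variable [GrpObj G]

/-- Points of finite order prime to the characteristic. -/
def Tor (G : Over (Spec (CommRingCat.of k))) [GrpObj G] : Set (Pt G) :=
  {x | ∃ n : ℕ, (n : k) ≠ 0 ∧ x ^ n = 1}

/-- A character function. -/
def IsCharFn (a : Γ(G.left, ⊤)) : Prop := pb μ[G] a = pb (fst G G) a * pb (snd G G) a

lemma evk_mul {a : Γ(G.left, ⊤)} (ha : IsCharFn a) (x y : Pt G) : evk (x * y) a = evk x a * evk y a := by
  rw [Hom.mul_def, evk_comp, ha, map_mul, ← evk_comp, ← evk_comp, lift_fst, lift_snd]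

/-! ### Roots of unity -/

/-- Tuples of roots of unity of order prime to the characteristic. -/
def muTup (k : Type u) [Field k] (r : ℕ) : Submonoid (Fin r → kˣ) where
  carrier := {ζ | ∃ n : ℕ, (n : k) ≠ 0 ∧ ζ ^ n = 1}
  one_mem' := ⟨1, by simp, one_pow 1⟩
  mul_mem' := by
    rintro a b ⟨n, hn, ha⟩ ⟨m, hm, hb⟩
    exact ⟨n * m, by rw [Nat.cast_mul]; exact mul_ne_zero hn hm, by
      rw [mul_pow, pow_mul, ha, one_pow, _root_.one_mul, mul_comm, pow_mul, hb, one_pow]⟩

/-- The character of a tuple given by an exponent. -/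
def tupChar {r : ℕ} (m : Multiplicative (Fin r → ℤ)) : muTup k r →* k where
  toFun ζ := ((∏ i, (ζ.1 i) ^ (m.toAdd i) : kˣ) : k)
  map_one' := by simp
  map_mul' a b := by simp [mul_zpow, Finset.prod_mul_distrib]

lemma tupChar_injective {r : ℕ} : Function.Injective (tupChar (k := k) (r := r)) := by
  intro m m' h
  by_contra hne
  obtain ⟨i, hi⟩ : ∃ i, m.toAdd i ≠ m'.toAdd i := by
    by_contra h'
    push Not at h'
    exact hne (Multiplicative.toAdd.injective (funext h'))
  let p := ringChar k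
  obtain ⟨ℓ, hℓ, hℓp⟩ := Nat.exists_infinite_primes ((m.toAdd i - m'.toAdd i).natAbs + p + 1)
  have hℓk : (ℓ : k) ≠ 0 := by
    rw [Ne, ringChar.spec]
    intro hd
    rcases (Nat.dvd_prime hℓp).1 hd with h1 | h1
    · exact CharP.ringChar_ne_one h1
    · omega
  have : NeZero (ℓ : k) := ⟨hℓk⟩
  obtain ⟨ζ, hζ⟩ := HasEnoughRootsOfUnity.exists_primitiveRoot k ℓ
  have hu := hζ.isUnit hℓp.ne_zero
  let z : Fin r → kˣ := Pi.mulSingle i hu.unit
  have hz : z ∈ muTup k r := ⟨ℓ, hℓk, by
    rw [← Pi.mulSingle_pow]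
    have : hu.unit ^ ℓ = 1 := Units.ext (by simp [hζ.pow_eq_one])
    rw [this, Pi.mulSingle_one]⟩
  have hval : ∀ n : Multiplicative (Fin r → ℤ), (∏ j, z j ^ (n.toAdd j) : kˣ) = hu.unit ^ (n.toAdd i) := fun n => by
    rw [Finset.prod_eq_single i (fun j _ hj => by simp [z, Pi.mulSingle_eq_of_ne hj]) (by simp)]
    simp [z]
  have h1 : hu.unit ^ (m.toAdd i) = hu.unit ^ (m'.toAdd i) := by
    rw [← hval, ← hval]
    have h5 := DFunLike.congr_fun h (⟨z, hz⟩ : muTup k r)
    exact Units.ext h5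
  have h2 : hu.unit ^ (m.toAdd i - m'.toAdd i) = 1 := by rw [zpow_sub, h1, mul_inv_cancel]
  have h3 := (hζ.isUnit_unit hℓp.ne_zero).zpow_eq_one_iff_dvd _ |>.1 h2
  have h4 := Nat.le_of_dvd (Int.natAbs_pos.2 (sub_ne_zero.2 hi)) (Int.natCast_dvd.1 h3)
  omega

lemma lift_eq_sum {M : Type*} [CommMonoid M] {A : Type u} [CommSemiring A] [Algebra k A] (φ : M →* A)
    (g : MonoidAlgebra k M) : MonoidAlgebra.lift k A M φ g = g.coeff.sum fun a b => b • φ a := by
  rw [MonoidAlgebra.lift_apply]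

lemma eq_zero_of_lift_eq_zero {r : ℕ} {N : Type u} [Monoid N]
    (φ : Multiplicative (Fin r → ℤ) → (N →* k)) (hφ : Function.Injective φ)
    (g : MonoidAlgebra k (Multiplicative (Fin r → ℤ)))
    (h : ∀ x, (g.coeff.sum fun a b => b * φ a x) = 0) : g = 0 := by
  have hli : LinearIndependent k fun m => (φ m : N → k) := (linearIndependent_monoidHom N k).comp φ hφ
  have h0 : Finsupp.linearCombination k (fun m => (φ m : N → k)) g.coeff = 0 := by
    funext x
    rw [Finsupp.linearCombination_apply, Finsupp.sum, Finset.sum_apply]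
    exact h x
  exact MonoidAlgebra.ext (linearIndependent_iff.1 hli _ h0)

section Torus

variable {r : ℕ} {T : Over (Spec (CommRingCat.of k))} [GrpObj T] (C : Chars T (Fin r → ℤ))

lemma θ_one (a : Fin r → ℤ) {Y : Over (Spec (CommRingCat.of k))} : C.θ (1 : Y ⟶ T) a = 1 := by
  have hu : IsUnit (C.θ (1 : Y ⟶ T) a) :=
    IsUnit.of_mul_eq_one (C.θ 1 (-a)) (by rw [← C.θ_add, add_neg_cancel, C.θ_zero])
  exact hu.mul_left_cancel (by rw [← C.θ_mul, _root_.one_mul, _root_.mul_one])

lemma θ_pow {Y : Over (Spec (CommRingCat.of k))} (y : Y ⟶ T) (n : ℕ) (a : Fin r → ℤ) :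
    C.θ (y ^ n) a = C.θ y a ^ n := by
  induction n with
  | zero => rw [pow_zero, pow_zero, θ_one]
  | succ n ih => rw [pow_succ, pow_succ, C.θ_mul, ih]

/-- The universal point. -/
lemma exists_univC : ∃ τ : TSpec (K := k) (Laurent k (Fin r → ℤ)) ⟶ T, ∀ a, C.θ τ a = ev (F := k) _ (mon a) := by
  let f : Multiplicative (Fin r → ℤ) →* Γ((TSpec (K := k) (Laurent k (Fin r → ℤ))).left, ⊤) :=
    ((ev (F := k) (Laurent k (Fin r → ℤ))).toAlgHom : Laurent k (Fin r → ℤ) →* _).comp
      (MonoidAlgebra.of k (Multiplicative (Fin r → ℤ)))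
  obtain ⟨τ, hτ⟩ := C.θ_exists f
  exact ⟨τ, fun a => hτ a⟩

/-- The universal point. -/
def univC : TSpec (K := k) (Laurent k (Fin r → ℤ)) ⟶ T := (exists_univC C).choose

lemma θ_univC (a : Fin r → ℤ) : C.θ (univC C) a = ev (F := k) _ (mon a) := (exists_univC C).choose_spec a

lemma exists_facC {Y : Over (Spec (CommRingCat.of k))} (y : Y ⟶ T) :
    ∃ h : Y ⟶ TSpec (K := k) (Laurent k (Fin r → ℤ)), h ≫ univC C = y := by
  let f : Multiplicative (Fin r → ℤ) →* Γ(Y.left, ⊤) :=
    { toFun := fun a => C.θ y a.toAdd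
      map_one' := C.θ_zero y
      map_mul' := fun a b => C.θ_add y _ _ }
  obtain ⟨h, hh⟩ := exists_toTSpec (B := Laurent k (Fin r → ℤ)) Y
    (MonoidAlgebra.lift k Γ(Y.left, ⊤) (Multiplicative (Fin r → ℤ)) f)
  refine ⟨h, C.θ_ext fun a => ?_⟩
  rw [C.θ_comp, θ_univC]
  refine (hh (mon a)).trans ?_
  rw [MonoidAlgebra.lift_single, one_smul]
  rfl

/-- Maps into the universal object are determined by their composite. -/
lemma univ_mono {Y : Over (Spec (CommRingCat.of k))} {z z' : Y ⟶ TSpec (K := k) (Laurent k (Fin r → ℤ))}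
    (h : z ≫ univC C = z' ≫ univC C) : z = z' := by
  have : IsAffine (TSpec (K := k) (Laurent k (Fin r → ℤ))).left := inferInstanceAs (IsAffine (Spec _))
  have h1 : ((pull z).comp (ev (F := k) _).toAlgHom) = ((pull z').comp (ev (F := k) _).toAlgHom) := by
    refine MonoidAlgebra.algHom_ext (R := k) (A := k) (fun a => ?_) (Algebra.ext_id _ _ _)
    have := congrArg (fun w => C.θ w a.toAdd) h
    simp only [C.θ_comp, θ_univC] at this
    exact this
  refine Over.OverMorphism.ext (ext_of_isAffine (CommRingCat.hom_ext (RingHom.ext fun a => ?_)))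
  obtain ⟨b, rfl⟩ := (ev (F := k) _).surjective a
  exact AlgHom.congr_fun h1 b

/-- The split torus is the spectrum of the group algebra. -/
lemma exists_univ_iso : ∃ e : TSpec (K := k) (Laurent k (Fin r → ℤ)) ≅ T, e.hom = univC C := by
  obtain ⟨h, hh⟩ := exists_facC C (𝟙 T)
  exact ⟨⟨univC C, h, univ_mono C (by rw [Category.assoc, hh, Category.comp_id, Category.id_comp]), hh⟩, rfl⟩

lemma evk_θ_univ (y : Pt (TSpec (K := k) (Laurent k (Fin r → ℤ)))) (a : Fin r → ℤ) :
    evk y (ev (F := k) _ (mon a)) = (Scheme.ΓSpecIso (CommRingCat.of k)).hom (C.θ (y ≫ univC C) a) := by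
  rw [C.θ_comp, θ_univC]
  rfl

include C in
/-- Torsion points are dense in a split torus. -/
theorem denseSet_tor : DenseSet (Tor T) := by
  intro W hW
  obtain ⟨e, he⟩ := exists_univ_iso C
  have hne : (((e.hom.left ⁻¹ᵁ W) : (TSpec (K := k) (Laurent k (Fin r → ℤ))).left.Opens) :
      Set (TSpec (K := k) (Laurent k (Fin r → ℤ))).left).Nonempty := by
    obtain ⟨w, hw⟩ := hW
    refine ⟨e.inv.left w, ?_⟩
    change e.hom.left (e.inv.left w) ∈ W
    rwa [← Scheme.Hom.comp_apply, ← Over.comp_left, e.inv_hom_id, Over.id_left]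
  obtain ⟨w, hw⟩ := hne
  obtain ⟨_, ⟨g, rfl⟩, hwg, hgW⟩ := (PrimeSpectrum.isTopologicalBasis_basic_opens).exists_subset_of_mem_open hw
    (e.hom.left ⁻¹ᵁ W).2
  have hg : g ≠ 0 := by
    rintro rfl
    simp at hwg
  obtain ⟨z, hz⟩ : ∃ z : muTup k r, (g.coeff.sum fun a b => b * tupChar a z) ≠ 0 := by
    by_contra hall
    push Not at hall
    exact hg (eq_zero_of_lift_eq_zero (fun m => tupChar m) tupChar_injective g hall)
  let ψ : Laurent k (Fin r → ℤ) →ₐ[k] k := MonoidAlgebra.lift k k _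
    { toFun := fun a => tupChar a z
      map_one' := by simp [tupChar]
      map_mul' := fun a b => by simp [tupChar, zpow_add, Finset.prod_mul_distrib] }
  obtain ⟨y, hy⟩ := exists_toTSpec (B := Laurent k (Fin r → ℤ)) (𝟙_ (Over (Spec (CommRingCat.of k))))
    ((Algebra.ofId k Γ((𝟙_ (Over (Spec (CommRingCat.of k)))).left, ⊤)).comp ψ)
  have hval : ∀ b, evk y (ev (F := k) _ b) = ψ b := fun b => by
    change (Scheme.ΓSpecIso (CommRingCat.of k)).hom (pull y (ev (F := k) _ b)) = _
    rw [hy]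
    have h := evk_cst (𝟙 (𝟙_ (Over (Spec (CommRingCat.of k))))) (ψ b)
    change (Scheme.ΓSpecIso (CommRingCat.of k)).hom (pb (𝟙 (𝟙_ (Over (Spec (CommRingCat.of k))))) (cst _ (ψ b))) = _ at h
    rw [Rosenlicht.pb_id] at h
    exact h
  refine ⟨y ≫ univC C, ?_, ?_⟩
  · obtain ⟨n, hn, hzn⟩ := z.2
    refine ⟨n, hn, C.θ_ext fun a => ?_⟩
    rw [θ_pow, θ_one]
    have h1 : C.θ (y ≫ univC C) a = cst _ (tupChar (Multiplicative.ofAdd a) z) := by
      rw [C.θ_comp, θ_univC]
      refine (hy (mon a)).trans ?_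
      rw [AlgHom.comp_apply, MonoidAlgebra.lift_single, one_smul]
      rfl
    rw [h1, ← map_pow, ← map_pow, show z ^ n = 1 from Subtype.ext hzn, map_one, map_one]
  · rw [← he]
    change e.hom.left (cpt y) ∈ W
    refine hgW ?_
    have h1 : evk y (ev (F := k) _ g) ≠ 0 := by
      rw [hval, MonoidAlgebra.lift_apply]
      simpa using hz
    rw [Ne, evk_eq_zero_iff, not_not] at h1
    exact (basicOpen_eq_of_affine g).le h1

include C in
lemma isDivisible (t : Pt T) (n : ℕ) (hn : n ≠ 0) : ∃ d : Pt T, d ^ n = t := by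
  have hroot : ∀ a : Fin r → ℤ, ∃ s : Γ((𝟙_ (Over (Spec (CommRingCat.of k)))).left, ⊤), IsUnit s ∧ s ^ n = C.θ t a := by
    intro a
    obtain ⟨c, hc⟩ := Rosenlicht.exists_cst (C.θ t a)
    obtain ⟨s, hs⟩ := IsAlgClosed.exists_pow_nat_eq c hn.bot_lt
    have hu : IsUnit (C.θ t a) := IsUnit.of_mul_eq_one (C.θ t (-a)) (by rw [← C.θ_add, add_neg_cancel, C.θ_zero])
    refine ⟨cst _ s, ?_, by rw [← map_pow, hs, hc]⟩
    refine (isUnit_pow_iff hn).1 ?_
    rwa [← map_pow, hs, hc]
  choose s hs hsn using fun i : Fin r => hroot (Pi.single i 1)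
  let f : Multiplicative (Fin r → ℤ) →* Γ((𝟙_ (Over (Spec (CommRingCat.of k)))).left, ⊤) :=
    { toFun := fun a => ((∏ i, (hs i).unit ^ (a.toAdd i) : (Γ((𝟙_ (Over (Spec (CommRingCat.of k)))).left, ⊤))ˣ) : Γ((𝟙_ (Over (Spec (CommRingCat.of k)))).left, ⊤))
      map_one' := by simp
      map_mul' := fun a b => by simp [zpow_add, Finset.prod_mul_distrib] }
  obtain ⟨d, hd⟩ := C.θ_exists f
  let g1 : Multiplicative (Fin r → ℤ) →* Γ((𝟙_ (Over (Spec (CommRingCat.of k)))).left, ⊤) :=
    { toFun := fun a => C.θ t a.toAdd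
      map_one' := C.θ_zero t
      map_mul' := fun a b => C.θ_add t _ _ }
  have heq : (powMonoidHom n).comp f = g1 := by
    refine MonoidHom.toAdditiveRight.injective (AddMonoidHom.ext fun a => ?_)
    have hgen : ∀ i, (powMonoidHom n).comp f (Multiplicative.ofAdd (Pi.single i 1)) = g1 (Multiplicative.ofAdd (Pi.single i 1)) := by
      intro i
      change f _ ^ n = C.θ t (Pi.single i 1)
      rw [← hsn i]
      congr 1
      change ((∏ j, (hs j).unit ^ ((Pi.single i 1 : Fin r → ℤ) j) : _ˣ) : Γ((𝟙_ (Over (Spec (CommRingCat.of k)))).left, ⊤)) = s i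
      rw [Finset.prod_eq_single i (fun j _ hj => by simp [Pi.single_eq_of_ne hj]) (by simp)]
      simp
    have hu2 : ∀ (h1 : Multiplicative (Fin r → ℤ) →* Γ((𝟙_ (Over (Spec (CommRingCat.of k)))).left, ⊤)) (h2 : Multiplicative (Fin r → ℤ) →* Γ((𝟙_ (Over (Spec (CommRingCat.of k)))).left, ⊤)),
        (∀ i, h1 (Multiplicative.ofAdd (Pi.single i 1)) = h2 (Multiplicative.ofAdd (Pi.single i 1))) → h1.toHomUnits = h2.toHomUnits := by
      intro h1 h2 h
      refine MonoidHom.toAdditiveRight.injective (AddMonoidHom.functions_ext' _ _ _ fun i => AddMonoidHom.ext_int ?_)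
      exact congrArg Additive.ofMul (Units.ext (h i))
    have := congrArg (fun q : _ →* _ˣ => ((q (Multiplicative.ofAdd a) : _ˣ) : Γ((𝟙_ (Over (Spec (CommRingCat.of k)))).left, ⊤))) (hu2 _ _ hgen)
    exact congrArg Additive.ofMul this
  refine ⟨d, C.θ_ext fun a => ?_⟩
  rw [θ_pow, hd]
  exact DFunLike.congr_fun heq (Multiplicative.ofAdd a)

end Torus

section Basis

variable [LocallyOfFiniteType G.hom] [IsIntegral G.left]

/-- A basis of the characters gives a dominant map to a split torus through which all characters factor. -/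
theorem exists_basis_hom [QuasiCompact G.hom] :
    ∃ (r : ℕ) (q : G ⟶ Red.DS (Spec (CommRingCat.of k)) (Fin r → ℤ)), IsMonHom q ∧ Surjective q.left ∧
      (∀ a, IsUnit a → pb η[G] a = 1 → ∃ m, dFn q m = a) ∧
      ((∀ a, a ∈ Submodule.span k {b : Γ(G.left, ⊤) | IsUnit b}) → IsAffine G.left → IsIso q) := by
  classical
  obtain ⟨r, v, hv, hvk⟩ := Rosenlicht.exists_units_lattice G
  have hnorm : ∀ w : (Γ(G.left, ⊤))ˣ, ∃ w' : (Γ(G.left, ⊤))ˣ, ∃ c : k, c ≠ 0 ∧ (w : Γ(G.left, ⊤)) = cst G c * w' ∧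
      pb η[G] w' = 1 ∧ v w' = v w := by
    intro w
    obtain ⟨c, hc⟩ := Rosenlicht.exists_cst (pb η[G] (w : Γ(G.left, ⊤)))
    have hc0 : c ≠ 0 := by
      rintro rfl
      have h1 : evk η[G] (w : Γ(G.left, ⊤)) = 0 := by
        change (Scheme.ΓSpecIso (CommRingCat.of k)).hom (pb η[G] (w : Γ(G.left, ⊤))) = 0
        rw [← hc, map_zero, map_zero]
      exact (w.isUnit.map (evk η[G])).ne_zero h1
    let cu : (Γ(G.left, ⊤))ˣ := Units.map (cst G : k →* Γ(G.left, ⊤)) (Units.mk0 c hc0)
    refine ⟨cu⁻¹ * w, c, hc0, ?_, ?_, ?_⟩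
    · change _ = (cu : Γ(G.left, ⊤)) * ((cu⁻¹ * w : (Γ(G.left, ⊤))ˣ) : Γ(G.left, ⊤))
      rw [Units.val_mul, Units.mul_inv_cancel_left]
    · have hcu : pb η[G] (cu : Γ(G.left, ⊤)) = cst _ c := pb_cst _ c
      have h2 : pb η[G] (cu : Γ(G.left, ⊤)) * pb η[G] ((cu⁻¹ * w : (Γ(G.left, ⊤))ˣ) : Γ(G.left, ⊤)) =
          pb η[G] (cu : Γ(G.left, ⊤)) * 1 := by
        rw [← map_mul, Units.val_mul, Units.mul_inv_cancel_left, _root_.mul_one, hcu, hc]
      exact (cu.isUnit.map (pb η[G])).mul_left_cancel h2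
    · rw [map_mul, map_inv, show v cu = 1 from MonoidHom.mem_ker.1 (hvk ▸ ⟨_, rfl⟩), inv_one, _root_.one_mul]
  have huniq : ∀ w w' : (Γ(G.left, ⊤))ˣ, pb η[G] w = 1 → pb η[G] w' = 1 → v w = v w' → w = w' := by
    intro w w' h h' e
    have : w * w'⁻¹ ∈ v.ker := by rw [MonoidHom.mem_ker, map_mul, map_inv, e, mul_inv_cancel]
    rw [hvk] at this
    obtain ⟨c, hc⟩ := this
    have hval : (w : Γ(G.left, ⊤)) = cst G c * w' := by
      rw [show w = Units.map (cst G : k →* Γ(G.left, ⊤)) c * w' from by rw [hc, inv_mul_cancel_right]]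
      rfl
    have h1 : evk η[G] (w : Γ(G.left, ⊤)) = evk η[G] (w' : Γ(G.left, ⊤)) :=
      congrArg (Scheme.ΓSpecIso (CommRingCat.of k)).hom.hom (h.trans h'.symm)
    rw [hval, map_mul, evk_cst] at h1
    have h2 : (c : k) = 1 := (mul_eq_right₀ (w'.isUnit.map (evk η[G])).ne_zero).1 h1
    refine Units.ext ?_
    rw [hval, h2, map_one, _root_.one_mul]
  choose u₀ hu₀ using fun i : Fin r => hv (Multiplicative.ofAdd (Pi.single i 1))
  choose u c hc0 hcu hue huv using fun i => hnorm (u₀ i)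
  let U : Multiplicative (Fin r → ℤ) →* (Γ(G.left, ⊤))ˣ :=
    { toFun := fun a => ∏ i, u i ^ (a.toAdd i)
      map_one' := by simp
      map_mul' := fun a b => by simp [zpow_add, Finset.prod_mul_distrib] }
  have hUe : ∀ a, pb η[G] (U a : Γ(G.left, ⊤)) = 1 := by
    intro a
    have : Units.map ((pb η[G]).toMonoidHom) (U a) = 1 := by
      simp only [U, MonoidHom.coe_mk, OneHom.coe_mk, map_prod, map_zpow]
      refine Finset.prod_eq_one fun i _ => ?_
      rw [show Units.map ((pb η[G]).toMonoidHom) (u i) = 1 from Units.ext (hue i), one_zpow]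
    exact congrArg Units.val this
  have hUv : ∀ a, v (U a) = a := by
    intro a
    simp only [U, MonoidHom.coe_mk, OneHom.coe_mk, map_prod, map_zpow, huv, hu₀]
    apply Multiplicative.toAdd.injective
    rw [toAdd_prod]
    simp only [toAdd_zpow, toAdd_ofAdd]
    funext j
    simp [Finset.sum_apply, Pi.single_apply]
  let C : Chars (Red.DS (Spec (CommRingCat.of k)) (Fin r → ℤ)) (Fin r → ℤ) := Chars.ofIso (Iso.refl _)
  have hCθ : ∀ {Y : Over (Spec (CommRingCat.of k))} (y : Y ⟶ Red.DS (Spec (CommRingCat.of k)) (Fin r → ℤ)) (a : Fin r → ℤ),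
      C.θ y a = dFn y a := fun y a => congrArg (fun w => dFn w a) (Category.comp_id y)
  obtain ⟨q, hq⟩ := C.θ_exists (Y := G) ((Units.coeHom Γ(G.left, ⊤)).comp U)
  have hq' : ∀ a, dFn q a = (U (Multiplicative.ofAdd a) : Γ(G.left, ⊤)) := fun a => (hCθ q a).symm.trans (hq a)
  have hchar : ∀ a, IsCharFn (U a : Γ(G.left, ⊤)) := fun a =>
    Rosenlicht.mul_eq_of_unit G _ (U a).isUnit (hUe a)
  have hqm : IsMonHom q := by
    refine ⟨d_ext fun a => ?_, d_ext fun a => ?_⟩
    · rw [MonObj.one_eq_one (M := Red.DS (Spec (CommRingCat.of k)) (Fin r → ℤ)), ← hCθ, ← hCθ, θ_one, C.θ_comp]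
      change pb η[G] (C.θ q a) = 1
      rw [hq]
      exact hUe _
    · rw [MonObj.mul_eq_mul (Red.DS (Spec (CommRingCat.of k)) (Fin r → ℤ)), MonObj.comp_mul, d_mul,
        tensorHom_fst, tensorHom_snd, d_comp, d_comp, d_comp, hq']
      exact hchar _
  obtain ⟨h, hh⟩ := exists_facC C (𝟙 _)
  let q' := q ≫ h
  have hq'u : q' ≫ univC C = q := by rw [Category.assoc, hh, Category.comp_id]
  have hev : ∀ g, pull q' (ev (F := k) _ g) = MonoidAlgebra.lift k Γ(G.left, ⊤) _ ((Units.coeHom Γ(G.left, ⊤)).comp U) g := by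
    have : (pull q').comp (ev (F := k) (Laurent k (Fin r → ℤ))).toAlgHom = MonoidAlgebra.lift k Γ(G.left, ⊤) _ ((Units.coeHom Γ(G.left, ⊤)).comp U) := by
      refine MonoidAlgebra.algHom_ext (R := k) (A := k) (fun a => ?_) (Algebra.ext_id _ _ _)
      rw [MonoidAlgebra.lift_single, one_smul]
      have := C.θ_comp q' (univC C) a.toAdd
      rw [hq'u, hq, θ_univC] at this
      exact this.symm
    exact fun g => AlgHom.congr_fun this g
  have hinj : ∀ g, g ≠ 0 → ∃ x : Pt G, evk x (pull q' (ev (F := k) _ g)) ≠ 0 := by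
    intro g hg
    by_contra hall
    push Not at hall
    refine hg (eq_zero_of_lift_eq_zero (fun a => ({ toFun := fun x => evk x (U a : Γ(G.left, ⊤))
                                                    map_one' := by
                                                      have := evk_mul (hchar a) 1 1
                                                      rw [_root_.one_mul] at this
                                                      exact (mul_eq_left₀ ((U a).isUnit.map (evk 1)).ne_zero).1 this.symm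
                                                    map_mul' := evk_mul (hchar a) } : Pt G →* k))
      (fun a b hab => ?_) g fun x => ?_)
    · have : (U a : Γ(G.left, ⊤)) = U b := eq_of_dense (denseSet_univ (G := G)) fun x _ => DFunLike.congr_fun hab x
      rw [← hUv a, ← hUv b, Units.ext this]
    · have h1 := hall x
      rw [hev, MonoidAlgebra.lift_apply, map_finsuppSum] at h1
      refine Eq.trans (Finsupp.sum_congr fun a _ => ?_) h1
      rw [Algebra.smul_def, map_mul]
      exact congrArg (· * _) (evk_cst x _).symm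
  have hsurj : Surjective q.left := by
    have : IsSeparated (Red.DS (Spec (CommRingCat.of k)) (Fin r → ℤ)).hom := IdComponent.isSeparated _
    have : QuasiCompact (q.left ≫ (Red.DS (Spec (CommRingCat.of k)) (Fin r → ℤ)).hom) := by rw [Over.w q]; infer_instance
    have : QuasiCompact q.left := QuasiCompact.of_comp q.left (Red.DS (Spec (CommRingCat.of k)) (Fin r → ℤ)).hom
    obtain ⟨e, he⟩ := exists_univ_iso C
    have : LocallyOfFiniteType (Red.DS (Spec (CommRingCat.of k)) (Fin r → ℤ)).hom := by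
      rw [← Over.w e.inv]
      have : LocallyOfFiniteType (TSpec (K := k) (Laurent k (Fin r → ℤ))).hom := by
        refine (HasRingHomProperty.Spec_iff (P := @LocallyOfFiniteType)).mpr ?_
        exact RingHom.finiteType_algebraMap.2 inferInstance
      have : IsIso e.inv.left := ((Over.forget _).mapIso e).isIso_inv
      infer_instance
    refine ⟨Set.range_eq_univ.1 ?_⟩
    by_contra hne
    let W : (Red.DS (Spec (CommRingCat.of k)) (Fin r → ℤ)).left.Opens :=
      ⟨(Set.range q.left)ᶜ, (ClosedImage.isClosed_range q).isOpen_compl⟩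
    obtain ⟨w, hw⟩ := (Set.ne_univ_iff_exists_notMem _).1 hne
    have hw' : e.inv.left w ∈ e.hom.left ⁻¹ᵁ W := by
      change e.hom.left (e.inv.left w) ∈ W
      rw [← Scheme.Hom.comp_apply, ← Over.comp_left, e.inv_hom_id, Over.id_left]
      exact hw
    obtain ⟨_, ⟨g, rfl⟩, hwg, hgW⟩ := (PrimeSpectrum.isTopologicalBasis_basic_opens).exists_subset_of_mem_open hw'
      (e.hom.left ⁻¹ᵁ W).2
    obtain ⟨x, hx⟩ := hinj g (by rintro rfl; simp at hwg)
    change evk x (pb q' (ev (F := k) _ g)) ≠ 0 at hx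
    rw [← evk_comp, Ne, evk_eq_zero_iff, not_not] at hx
    have h1 := hgW ((basicOpen_eq_of_affine g).le hx)
    rw [he] at h1
    refine h1 ⟨cpt x, ?_⟩
    change (x.left ≫ q.left) _ = ((x ≫ q').left ≫ (univC C).left) _
    rw [← Over.comp_left, ← Over.comp_left, Category.assoc, hq'u]
  refine ⟨r, q, hqm, hsurj, fun a ha hae => ?_, fun hspan haff => ?_⟩
  · refine ⟨(v ha.unit).toAdd, (hq' _).trans ?_⟩
    rw [ofAdd_toAdd]
    exact congrArg Units.val (huniq _ ha.unit (hUe _) hae (hUv _))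
  · have hbij : Function.Bijective (pull q') := by
      refine ⟨?_, fun a => ?_⟩
      · rw [injective_iff_map_eq_zero]
        intro b hb
        obtain ⟨g, rfl⟩ := (ev (F := k) _).surjective b
        by_contra hb0
        obtain ⟨x, hx⟩ := hinj g (fun hg => hb0 (by rw [hg, map_zero]))
        exact hx (by rw [hb, map_zero])
      · have hle : Submodule.span k {b : Γ(G.left, ⊤) | IsUnit b} ≤ LinearMap.range (pull q').toLinearMap := by
          refine Submodule.span_le.2 fun b hb => ?_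
          obtain ⟨w', c', -, hw', hwe, -⟩ := hnorm hb.unit
          refine ⟨ev (F := k) _ (MonoidAlgebra.single (v w') c'), ?_⟩
          change pull q' _ = b
          rw [hev, MonoidAlgebra.lift_single, Algebra.smul_def, ← hb.unit_spec, hw']
          exact congrArg (cst G c' * ·) (congrArg Units.val (huniq _ w' (hUe _) hwe (hUv _)))
        exact hle (hspan a)
    have : IsIso q'.left := by
      have : IsAffine (TSpec (K := k) (Laurent k (Fin r → ℤ))).left := inferInstanceAs (IsAffine (Spec _))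
      have : IsIso q'.left.appTop := (ConcreteCategory.isIso_iff_bijective _).2 hbij
      rw [show q'.left = G.left.isoSpec.hom ≫ Spec.map q'.left.appTop ≫ (TSpec (K := k) (Laurent k (Fin r → ℤ))).left.isoSpec.inv by
        rw [Scheme.isoSpec_hom_naturality_assoc, Iso.hom_inv_id, Category.comp_id]]
      infer_instance
    have : IsIso q' := @isIso_of_reflects_iso _ _ _ _ _ _ q' (Over.forget _) this _
    obtain ⟨e, he⟩ := exists_univ_iso C
    rw [← hq'u, ← he]
    infer_instance

end Basis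

section Translation

variable [IsCommMonObj G]

/-- Translation. -/
def tr (t : Pt G) : G ⟶ G := 𝟙 G * (toUnit G ≫ t)

lemma comp_tr {Y : Over (Spec (CommRingCat.of k))} (y : Y ⟶ G) (t : Pt G) : y ≫ tr t = y * (toUnit Y ≫ t) := by
  rw [tr, MonObj.comp_mul, Category.comp_id, ← Category.assoc, toUnit_unique (y ≫ toUnit G) (toUnit Y)]

lemma tr_mul (s t : Pt G) : tr (t * s) = tr t ≫ tr s := by
  rw [comp_tr, tr, tr, MonObj.comp_mul, ← _root_.mul_assoc]

lemma tr_one : tr (1 : Pt G) = 𝟙 G := by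
  rw [tr, MonObj.comp_one, _root_.mul_one]

end Translation

section Commutative

variable [LocallyOfFiniteType G.hom] [IsIntegral G.left] [IsCommMonObj G]

/-- An affine commutative group with dense torsion points is spanned by units. -/
theorem span_units [IsAffine G.left] (hD : DenseSet (Tor G)) (f : Γ(G.left, ⊤)) :
    f ∈ Submodule.span k {b : Γ(G.left, ⊤) | IsUnit b} := by
  classical
  obtain ⟨n, e, M, c, hM, hf, -⟩ := RegularRep.exists_matrix G f
  let V : Submodule k Γ(G.left, ⊤) := Submodule.span k (Set.range e)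
  have : FiniteDimensional k V := FiniteDimensional.span_of_finite k (Set.finite_range e)
  let R : Tor G → Module.End k Γ(G.left, ⊤) := fun t => (pull (tr t.1)).toLinearMap
  have hRt : ∀ (t : Pt G) m, pull (tr t) (e m) = ∑ l, evk t (M l m) • e l := by
    intro t m
    have hts : tr t = lift (𝟙 G) (toUnit G ≫ t) ≫ μ[G] := by rw [tr, Hom.mul_def]
    rw [hts, ← pull_pull, hM, map_sum]
    refine Finset.sum_congr rfl fun l _ => ?_
    rw [map_mul, pull_pull, pull_pull, lift_fst, lift_snd, Algebra.smul_def, mul_comm]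
    congr 1
    · change pb (toUnit G ≫ t) (M l m) = cst G (evk t (M l m))
      rw [pb_comp]
      obtain ⟨d, hd⟩ := Rosenlicht.exists_cst (pb t (M l m))
      have hd' : evk t (M l m) = d := by
        change (Scheme.ΓSpecIso (CommRingCat.of k)).hom (pb t (M l m)) = d
        rw [← hd, ← pb_cst t d]
        exact evk_cst t d
      rw [hd', ← hd, pb_cst]
  have hmaps : ∀ t : Tor G, ∀ x ∈ V, R t x ∈ V := by
    intro t x hx
    refine Submodule.span_le.2 ?_ hx |> fun h => (h : x ∈ V.comap (R t))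
    rintro _ ⟨m, rfl⟩
    change pull (tr t.1) (e m) ∈ V
    rw [hRt]
    exact sum_mem fun l _ => Submodule.smul_mem _ _ (Submodule.subset_span ⟨l, rfl⟩)
  let F : Tor G → Module.End k V := fun t => (R t).restrict (hmaps t)
  have hcomm : ∀ s t : Tor G, Commute (F s) (F t) := fun s t => LinearMap.ext fun x => Subtype.ext (by
    change pull (tr s.1) (pull (tr t.1) (x : Γ(G.left, ⊤))) = pull (tr t.1) (pull (tr s.1) (x : Γ(G.left, ⊤)))
    rw [pull_pull, pull_pull, ← tr_mul, ← tr_mul, mul_comm])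
  have hpow : ∀ (t : Tor G) (j : ℕ) (x : V), ((F t ^ j) x : Γ(G.left, ⊤)) = pull (tr (t.1 ^ j)) (x : Γ(G.left, ⊤)) := by
    intro t j
    induction j with
    | zero =>
      intro x
      rw [pow_zero, pow_zero, tr_one]
      change (x : Γ(G.left, ⊤)) = pb (𝟙 G) (x : Γ(G.left, ⊤))
      rw [Rosenlicht.pb_id]
    | succ j ih =>
      intro x
      rw [pow_succ, pow_succ, Module.End.mul_apply, ih, tr_mul]
      exact pull_pull _ _ _
  have hss : ∀ t : Tor G, (F t).IsSemisimple := by
    intro t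
    obtain ⟨j, hj, htj⟩ := t.2
    refine Module.End.isSemisimple_of_squarefree_aeval_eq_zero
      (Polynomial.separable_X_pow_sub_C (1 : k) hj one_ne_zero).squarefree (LinearMap.ext fun x => Subtype.ext ?_)
    simp only [map_sub, map_pow, Polynomial.aeval_X, map_one, LinearMap.sub_apply, Module.End.one_apply,
      Submodule.coe_sub, LinearMap.zero_apply, Submodule.coe_zero]
    rw [hpow, htj, tr_one, sub_eq_zero]
    exact Rosenlicht.pb_id G _
  have htop := Module.End.iSup_iInf_maxGenEigenspace_eq_top_of_iSup_maxGenEigenspace_eq_top_of_commute F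
    (fun s t _ => hcomm s t) (fun t => Module.End.iSup_maxGenEigenspace_eq_top (F t))
  have hfV : f ∈ V := by
    rw [hf]
    exact sum_mem fun m _ => Submodule.smul_mem _ _ (Submodule.subset_span ⟨m, rfl⟩)
  suffices hall : (⊤ : Submodule k V) ≤ (Submodule.span k {b : Γ(G.left, ⊤) | IsUnit b}).comap V.subtype from
    hall (x := ⟨f, hfV⟩) trivial
  rw [← htop, iSup_le_iff]
  intro χ x hx
  rw [Submodule.mem_comap, Submodule.subtype_apply]
  have heig : ∀ t : Tor G, pull (tr t.1) (x : Γ(G.left, ⊤)) = χ t • (x : Γ(G.left, ⊤)) := by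
    intro t
    have h := (Submodule.mem_iInf _).1 hx t
    rw [((Module.End.isFinitelySemisimple_iff_isSemisimple).2 (hss t)).maxGenEigenspace_eq_eigenspace,
      Module.End.mem_eigenspace_iff] at h
    exact congrArg Subtype.val h
  set a : Γ(G.left, ⊤) := (x : Γ(G.left, ⊤))
  have hmul : ∀ (y : Pt G) (t : Tor G), evk (y * t.1) a = χ t * evk y a := by
    intro y t
    rw [show y * t.1 = y ≫ tr t.1 by rw [comp_tr, toUnit_unique (toUnit _) (𝟙 _), Category.id_comp], evk_comp,
      show pb (tr t.1) a = χ t • a from heig t, Algebra.smul_def, map_mul]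
    exact congrArg (· * _) (evk_cst y _)
  by_cases ha1 : evk (1 : Pt G) a = 0
  · have : a = 0 := eq_zero_of_dense hD fun t ht => by
      have := hmul 1 ⟨t, ht⟩
      rwa [_root_.one_mul, ha1, mul_zero] at this
    rw [this]
    exact zero_mem _
  set c₁ := evk (1 : Pt G) a
  let b := cst G c₁⁻¹ * a
  have hb : ∀ y t : Pt G, evk (y * t) b = evk y b * evk t b := by
    intro y
    suffices h : pb (lift (toUnit G ≫ y) (𝟙 G) ≫ μ[G]) b = cst G (evk y b) * b by
      intro t
      have := congrArg (evk t) h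
      rw [← evk_comp, map_mul, evk_cst, ← Category.assoc, comp_lift, Category.comp_id, ← Category.assoc,
        toUnit_unique (t ≫ toUnit G) (𝟙 _), Category.id_comp, ← Hom.mul_def] at this
      simp only [b, map_mul, evk_cst] at this ⊢
      exact this
    refine eq_of_dense hD fun t ht => ?_
    rw [← evk_comp, map_mul, evk_cst, ← Category.assoc, comp_lift, Category.comp_id, ← Category.assoc,
      toUnit_unique (t ≫ toUnit G) (𝟙 _), Category.id_comp, ← Hom.mul_def]
    have h1 := hmul y ⟨t, ht⟩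
    have h2 := hmul 1 ⟨t, ht⟩
    rw [_root_.one_mul] at h2
    simp only [b, map_mul, evk_cst] at h1 h2 ⊢
    rw [h1, h2]
    field_simp
    ring
  have hb1 : evk (1 : Pt G) b = 1 := by
    simp only [b, map_mul, evk_cst]
    exact inv_mul_cancel₀ ha1
  have hu : IsUnit b := IsUnit.of_mul_eq_one (pb ι[G] b) (eq_of_dense (denseSet_univ (G := G)) fun y _ => by
    rw [map_mul, map_one, ← evk_comp, ← Hom.inv_def, ← hb, mul_inv_cancel, hb1])
  have : a = c₁ • b := by
    rw [Algebra.smul_def]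
    change a = cst G c₁ * (cst G c₁⁻¹ * a)
    rw [← _root_.mul_assoc, ← map_mul, mul_inv_cancel₀ ha1, map_one, _root_.one_mul]
  rw [this]
  exact Submodule.smul_mem _ _ (Submodule.subset_span hu)

end Commutative

section Extension

variable [IsCommMonObj G] [LocallyOfFiniteType G.hom] {T : Over (Spec (CommRingCat.of k))} [GrpObj T]
  [LocallyOfFiniteType T.hom] (q : G ⟶ T) [IsMonHom q] [Flat q.left] [LocallyOfFinitePresentation q.left]

/-- Points over torsion points are dense. -/
lemma exists_pt_over (hT : DenseSet (Tor T)) {U : G.left.Opens} (hU : (U : Set G.left).Nonempty) :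
    ∃ (x : Pt G) (n : ℕ), cpt x ∈ U ∧ (n : k) ≠ 0 ∧ (x ^ n) ≫ q = 1 := by
  obtain ⟨w, hw⟩ := hU
  let V : T.left.Opens := ⟨q.left '' U, q.left.isOpenMap _ U.2⟩
  obtain ⟨t, ⟨n, hn, htn⟩, ht⟩ := hT V ⟨q.left w, w, hw, rfl⟩
  obtain ⟨z, hzU, hz⟩ := ht
  obtain ⟨x, hxU, hx⟩ := exists_pt_mem (U := (U : Set G.left) ∩ q.left ⁻¹' {cpt t})
    (U.2.isLocallyClosed.inter ((isClosed_cpt t).preimage q.left.continuous).isLocallyClosed) ⟨z, hzU, hz⟩
  have hxt : x ≫ q = t := pt_ext (by
    rw [cpt, Over.comp_left, Scheme.Hom.comp_apply]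
    exact hx)
  refine ⟨x, n, hxU, hn, ?_⟩
  have : ∀ m : ℕ, (x ^ m) ≫ q = t ^ m := by
    intro m
    induction m with
    | zero => rw [pow_zero, pow_zero, MonObj.one_comp]
    | succ m ih => rw [pow_succ, pow_succ, MonObj.mul_comp (x ^ m) x q, ih, hxt]
  rw [this, htn]

/-- Torsion is dense in an extension by a group with dense and divisible points. -/
theorem denseSet_tor_of_kernel (hT : DenseSet (Tor T)) {N : Over (Spec (CommRingCat.of k))} [GrpObj N]
    (i : N ⟶ G) [IsMonHom i] (hker : AlgGrp.IsKernel i q) (hN : DenseSet (Tor N))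
    (hdiv : ∀ (c : Pt N) (n : ℕ), n ≠ 0 → ∃ d, d ^ n = c) : DenseSet (Tor G) := by
  intro U hU
  obtain ⟨x, n, hxU, hn, hxn⟩ := exists_pt_over q hT hU
  obtain ⟨c, hc⟩ := GrpdLib.GrpOver.kernel_factor hker (x ^ n) hxn
  obtain ⟨d, hd⟩ := hdiv c n (fun h => hn (by rw [h, Nat.cast_zero]))
  have hpow : ∀ (y : Pt N) (m : ℕ), (y ≫ i) ^ m = (y ^ m) ≫ i := by
    intro y m
    induction m with
    | zero => rw [pow_zero, pow_zero, MonObj.one_comp]
    | succ m ih => rw [pow_succ, pow_succ, MonObj.mul_comp (y ^ m) y i, ih]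
  let x' : Pt G := x * (d ≫ i)⁻¹
  have hx' : x' ^ n = 1 := by rw [mul_pow, inv_pow, hpow, hd, hc, mul_inv_cancel]
  let f : N ⟶ G := (toUnit N ≫ x') * i
  have hf : ∀ z : Pt N, z ≫ f = x' * (z ≫ i) := fun z => by
    rw [MonObj.comp_mul, ← Category.assoc, toUnit_unique (z ≫ toUnit N) (𝟙 _), Category.id_comp]
  obtain ⟨z, ⟨m, hm, hzm⟩, hz⟩ := hN (f.left ⁻¹ᵁ U) ⟨cpt d, by
    change f.left (d.left _) ∈ U
    rw [← Scheme.Hom.comp_apply, ← Over.comp_left, hf, show x' * (d ≫ i) = x from inv_mul_cancel_right x _]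
    exact hxU⟩
  refine ⟨x' * (z ≫ i), ⟨n * m, by rw [Nat.cast_mul]; exact mul_ne_zero hn hm, ?_⟩, ?_⟩
  · rw [mul_pow, pow_mul, hx', one_pow, _root_.one_mul, mul_comm n m, hpow, pow_mul, hzm, one_pow, MonObj.one_comp]
  · rw [← hf, cpt, Over.comp_left, Scheme.Hom.comp_apply]
    exact hz

/-- Torsion is dense in an isogeny over a group with dense divisible points. -/
theorem denseSet_tor_of_finite [Surjective q.left] [QuasiCompact G.hom] [IrreducibleSpace G.left]
    (hT : DenseSet (Tor T)) (hdiv : ∀ (c : Pt T) (n : ℕ), n ≠ 0 → ∃ d, d ^ n = c)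
    (hfin : Finite {x : Pt G // x ≫ q = 1}) : DenseSet (Tor G) := by
  classical
  let K : Subgroup (Pt G) :=
    { carrier := {x | x ≫ q = 1}
      one_mem' := MonObj.one_comp q
      mul_mem' := fun {a b} ha hb => by
        change (a * b) ≫ q = 1
        rw [MonObj.mul_comp a b q, ha, hb, _root_.mul_one]
      inv_mem' := fun {a} ha => by
        change a⁻¹ ≫ q = 1
        rw [GrpObj.inv_comp, ha, inv_one] }
  have : Finite K := hfin
  have hcard : Nat.card K ≠ 0 := Nat.card_pos.ne'
  obtain ⟨m, n', hm, hn', hmn⟩ : ∃ m n' : ℕ, m ≠ 0 ∧ (n' : k) ≠ 0 ∧ Nat.card K = m * n' := by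
    obtain ⟨p, hp⟩ := CharP.exists k
    rcases CharP.char_is_prime_or_zero k p with hprime | rfl
    · obtain ⟨e, n', hndvd, he⟩ := Nat.exists_eq_pow_mul_and_not_dvd hcard p hprime.ne_one
      exact ⟨p ^ e, n', pow_ne_zero _ hprime.ne_zero, fun h => hndvd ((CharP.cast_eq_zero_iff k p n').1 h), he⟩
    · have : CharZero k := CharP.charP_to_charZero k
      exact ⟨1, _, one_ne_zero, Nat.cast_ne_zero.2 hcard, (_root_.one_mul _).symm⟩
  let φ : G ⟶ G := 𝟙 G ^ (m : ℤ)
  have : IsMonHom φ := EtaleEndo.isMonHom_zpow (G := G) (m : ℤ)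
  have hφ : ∀ y : Pt G, y ≫ φ = y ^ m := fun y => by
    simp only [φ]
    rw [GrpObj.comp_zpow, Category.comp_id, zpow_natCast]
  have hφs : Surjective φ.left := by
    have : Fintype K := Fintype.ofFinite _
    have : IsSeparated G.hom := IdComponent.isSeparated G
    have : QuasiCompact (φ.left ≫ G.hom) := by rw [Over.w φ]; infer_instance
    have : QuasiCompact φ.left := QuasiCompact.of_comp φ.left G.hom
    have hR := ClosedImage.isClosed_range φ
    let τ : K → (G ⟶ G) := fun x => tr x.1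
    have hcl : ∀ x : K, IsClosed ((τ x).left ⁻¹' Set.range φ.left) := fun x => hR.preimage (τ x).left.continuous
    have hcov : (⋃ x : K, (τ x).left ⁻¹' Set.range φ.left) = Set.univ := by
      by_contra hne
      obtain ⟨y, hy⟩ := exists_pt_mem (G := G) (isClosed_iUnion_of_finite hcl).isOpen_compl.isLocallyClosed
        (Set.nonempty_compl.2 hne)
      obtain ⟨t, ht⟩ := hdiv (y ≫ q) m hm
      obtain ⟨z, -, hz⟩ := exists_pt_mem (G := G) (U := Set.univ ∩ q.left ⁻¹' {cpt t})
        (isOpen_univ.isLocallyClosed.inter ((isClosed_cpt t).preimage q.left.continuous).isLocallyClosed)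
        ⟨(q.left.surjective (cpt t)).choose, trivial, (q.left.surjective (cpt t)).choose_spec⟩
      have hzt : z ≫ q = t := pt_ext (by rw [cpt, Over.comp_left, Scheme.Hom.comp_apply]; exact hz)
      have hpow : ∀ j : ℕ, (z ^ j) ≫ q = t ^ j := by
        intro j
        induction j with
        | zero => rw [pow_zero, pow_zero, MonObj.one_comp]
        | succ j ih => rw [pow_succ, pow_succ, MonObj.mul_comp (z ^ j) z q, ih, hzt]
      have hmem : y⁻¹ * z ^ m ∈ K := by
        change (y⁻¹ * z ^ m) ≫ q = 1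
        rw [MonObj.mul_comp y⁻¹ (z ^ m) q, GrpObj.inv_comp, hpow, ht, inv_mul_cancel]
      refine hy (Set.mem_iUnion.2 ⟨⟨_, hmem⟩, cpt z, ?_⟩)
      change φ.left (z.left _) = (tr (y⁻¹ * z ^ m)).left (y.left _)
      rw [← Scheme.Hom.comp_apply, ← Over.comp_left, hφ, ← Scheme.Hom.comp_apply, ← Over.comp_left, comp_tr,
        toUnit_unique (toUnit _) (𝟙 _), Category.id_comp, mul_inv_cancel_left]
    obtain ⟨x, hx⟩ : ∃ x : K, (τ x).left ⁻¹' Set.range φ.left = Set.univ := by
      obtain ⟨s, hs, hxs⟩ := ((isIrreducible_iff_sUnion_isClosed.1 (IrreducibleSpace.isIrreducible_univ G.left))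
        (Finset.univ.image fun x : K => (τ x).left ⁻¹' Set.range φ.left)
        (by intro z hz; obtain ⟨x, -, rfl⟩ := Finset.mem_image.1 hz; exact hcl x)
        (by
          intro z _
          obtain ⟨x, hx⟩ := Set.mem_iUnion.1 (hcov.ge (Set.mem_univ z))
          exact Set.mem_sUnion.2 ⟨_, Finset.mem_coe.2 (Finset.mem_image.2 ⟨x, Finset.mem_univ _, rfl⟩), hx⟩))
      obtain ⟨x', -, rfl⟩ := Finset.mem_image.1 hs
      exact ⟨x', top_unique hxs⟩
    refine ⟨fun y => ?_⟩
    have h1 : (tr (x.1⁻¹)).left y ∈ (τ x).left ⁻¹' Set.range φ.left := hx ▸ Set.mem_univ _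
    rw [Set.mem_preimage, ← Scheme.Hom.comp_apply, ← Over.comp_left, ← tr_mul, inv_mul_cancel, tr_one, Over.id_left] at h1
    exact h1
  intro U hU
  obtain ⟨w, hw⟩ := hU
  obtain ⟨v, hv⟩ := φ.left.surjective w
  obtain ⟨x, n, hxU, hn, hxn⟩ := exists_pt_over q hT (U := φ.left ⁻¹ᵁ U) ⟨v, by change φ.left v ∈ U; rwa [hv]⟩
  refine ⟨x ≫ φ, ⟨n * n', by rw [Nat.cast_mul]; exact mul_ne_zero hn hn', ?_⟩, ?_⟩
  · rw [hφ, ← pow_mul, show m * (n * n') = n * (m * n') by ring, ← hmn, pow_mul]
    have h2 := congrArg Subtype.val (pow_card_eq_one' (x := (⟨x ^ n, hxn⟩ : K)))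
    simpa only [SubgroupClass.coe_pow, OneMemClass.coe_one] using h2
  · rw [cpt, Over.comp_left, Scheme.Hom.comp_apply]
    exact hxU

end Extension

end Groth.Agent.GrpScheme.CharSplit
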