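import Groth.Agent.GrpScheme.AntiAffineProd
import Groth.Agent.FlatMor.GeomDescent

/-!
# Homomorphisms from affine groups to proper groups
-/

set_option autoImplicit false
set_option linter.style.haveILetI false
set_option backward.isDefEq.respectTransparency false

universe u

open CategoryTheory MonoidalCategory CartesianMonoidalCategory MonObj GrpObj AlgebraicGeometry Limits

noncomputable section

namespace Groth.Agent.GrpScheme.AffineToProper

open UnipLib (Cover)
open AntiAffineProd

variable {k : Type u} [Field k]

local notation "Sk" => Spec (CommRingCat.of k)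

/-- An affine scheme of finite type surjected by a proper one is finite. -/
theorem isFinite_of_proper {A P : Over Sk} [IsProper A.hom] [IsAffine P.left] [LocallyOfFiniteType P.hom]
    (h : A ⟶ P) (hs : Surjective h.left) : IsFinite P.hom := by
  haveI : UniversallyClosed (h.left ≫ P.hom) := by rw [Over.w h]; infer_instance
  haveI : UniversallyClosed P.hom := UniversallyClosed.of_comp_surjective h.left P.hom
  haveI : IsAffineHom P.hom := inferInstance
  haveI : IsProper P.hom := ⟨⟩
  exact IsFinite.iff_isProper_and_isAffineHom.mpr ⟨inferInstance, inferInstance⟩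

/-- A connected finite scheme over a field is a point. -/
theorem subsingleton_of_isFinite (P : Over Sk) [IsFinite P.hom] [PreconnectedSpace P.left] :
    Subsingleton P.left := by
  haveI : Finite P.left := by
    have := P.hom.finite_preimage Set.finite_univ
    simpa [Set.finite_univ_iff] using this
  haveI : JacobsonSpace P.left := LocallyOfFiniteType.jacobsonSpace P.hom
  haveI : DiscreteTopology P.left := inferInstance
  exact PreconnectedSpace.trivial_of_discrete

/-- The image of a preconnected space under a surjection is preconnected. -/
theorem preconnectedSpace_of_surjective {X Y : Scheme.{u}} [PreconnectedSpace X] (f : X ⟶ Y) [Surjective f] :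
    PreconnectedSpace Y :=
  ⟨(Set.range_eq_univ.mpr f.surjective) ▸ (isPreconnected_range f.continuous)⟩

/-- A homomorphism from a smooth connected affine group to a proper group is trivial. -/
theorem eq_one {N A : Over Sk} [GrpObj N] [GrpObj A] [IsAffine N.left] [Smooth N.hom] [PreconnectedSpace N.left]
    [IsProper A.hom] (f : N ⟶ A) [IsMonHom f] : f = 1 := by
  haveI : QuasiCompact N.hom := inferInstance
  obtain ⟨Q, hQ, p, ι', hp, hι, hpc, hιc, hQl, hQq, hpι⟩ := exists_image f
  haveI := isAffine_of_cover p hpc
  haveI := hpc.surj; haveI := hpc.flat
  haveI : IsProper Q.hom := by rw [← Over.w ι']; infer_instance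
  haveI : IsFinite Q.hom := IsFinite.iff_isProper_and_isAffineHom.mpr ⟨inferInstance, inferInstance⟩
  haveI : PreconnectedSpace Q.left := preconnectedSpace_of_surjective p.left
  haveI := subsingleton_of_isFinite Q
  haveI : IsReduced N.left := HomFlat.isReduced_of_smooth N.hom
  haveI : IsReduced Q.left := FlatMor.GeomDescent.isReduced_of_flat_surjective p.left
  haveI : IsSeparated Q.hom := inferInstance
  haveI : IsClosedImmersion η[Q].left := by
    haveI : IsClosedImmersion (η[Q].left ≫ Q.hom) := by
      rw [Over.w η[Q]]; exact inferInstanceAs (IsClosedImmersion (𝟙 _))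
    exact IsClosedImmersion.of_comp η[Q].left Q.hom
  haveI : Surjective η[Q].left := ⟨fun q => ⟨IsLocalRing.closedPoint k, Subsingleton.elim _ _⟩⟩
  haveI : IsIso η[Q].left := isIso_of_isClosedImmersion_of_surjective η[Q].left
  haveI : IsIso η[Q] := by
    haveI : IsIso ((Over.forget Sk).map η[Q]) := ‹IsIso η[Q].left›
    exact isIso_of_reflects_iso _ (Over.forget Sk)
  have hp1 : p = 1 := by
    rw [Hom.one_def, ← cancel_mono (inv η[Q]), Category.assoc, IsIso.hom_inv_id, Category.comp_id]
    exact toUnit_unique _ _
  rw [← hpι, hp1, MonObj.one_comp]

end Groth.Agent.GrpScheme.AffineToProper
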