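import Groth.Agent.GrpScheme.Basic
import Groth.Prelude.Def_W4bk4git07Quot
import Mathlib.AlgebraicGeometry.Morphisms.FlatDescent

/-!
# Associated bundles of principal bundles

If `π : G ⟶ B` and `q : G ⊗ X ⟶ Q` are principal bundles for compatible actions of `H`, then
`G ⊗ X` is the pullback of `Q ⟶ B` along `π`.
-/

set_option autoImplicit false

universe u

open CategoryTheory MonoidalCategory CartesianMonoidalCategory AlgebraicGeometry Limits

namespace Groth.Agent.GrpScheme.AssocBundle

/-- A square becomes cartesian if it is so after pasting with the kernel pair of a faithfully flat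
quasi-compact morphism. -/
theorem isPullback_of_kernelPair {W A Q G B : Scheme.{u}} (a s : W ⟶ A) (q : A ⟶ Q) (f : A ⟶ G)
    (p : Q ⟶ B) (π : G ⟶ B) [Surjective q] [Flat q] [QuasiCompact q] (hw : q ≫ p = f ≫ π)
    (hker : IsPullback a s q q) (hout : IsPullback (a ≫ f) s π (q ≫ p)) :
    IsPullback q f p π := by
  let φ : A ⟶ pullback p π := pullback.lift q f hw
  let pr := pullback.fst p π
  have h₁ : IsPullback (pullback.fst q pr) (pullback.snd q pr) q pr := IsPullback.of_hasPullback q pr
  have hP' : IsPullback (pullback.snd q pr ≫ pullback.snd p π) (pullback.fst q pr) π (q ≫ p) :=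
    h₁.flip.paste_horiz (IsPullback.of_hasPullback p π).flip
  let e := hout.isoIsPullback _ _ hP'
  have he₂ : e.hom ≫ pullback.fst q pr = s := hout.isoIsPullback_hom_snd _ _ hP'
  have he₁ : e.hom ≫ pullback.snd q pr = a ≫ φ := by
    apply pullback.hom_ext
    · rw [Category.assoc, ← pullback.condition, reassoc_of% he₂, Category.assoc, pullback.lift_fst]
      exact hker.w.symm
    · rw [Category.assoc, Category.assoc, pullback.lift_snd]
      exact hout.isoIsPullback_hom_fst _ _ hP'
  have hsq : IsPullback e.hom a (pullback.snd q pr) φ := by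
    refine IsPullback.of_right ?_ he₁ h₁
    rw [he₂, pullback.lift_fst]
    exact hker.flip
  have : IsIso φ := MorphismProperty.of_isPullback_of_descendsAlong
    (P := MorphismProperty.isomorphisms Scheme.{u}) (Q := @Surjective ⊓ @Flat ⊓ @QuasiCompact)
    hsq ⟨⟨inferInstance, inferInstance⟩, inferInstance⟩ (inferInstanceAs (IsIso e.hom))
  exact IsPullback.of_iso_pullback ⟨hw⟩ (asIso φ) (pullback.lift_fst _ _ _) (pullback.lift_snd _ _ _)

variable {S : Scheme.{u}} {G H X Y B Q : Over S} [GrpObj H]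

/-- A principal bundle has the action square as kernel pair. -/
theorem isPullback_of_isIso_psi (a : AlgGrp.Action H X) (φ : X ⟶ Q) (h : GIT.IsInvariant a φ)
    (hi : IsIso (GIT.PsiY a φ h)) : IsPullback a.act.left (snd H X).left φ.left φ.left :=
  IsPullback.of_iso_pullback ⟨h.left⟩ (asIso (GIT.PsiY a φ h)) (pullback.lift_fst _ _ _)
    (pullback.lift_snd _ _ _)

/-- The associated bundle is cartesian over the principal bundle. -/
theorem isPullback (r : AlgGrp.Action H G) (π : G ⟶ B) (hπ : GIT.IsInvariant r π)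
    (hπi : IsIso (GIT.PsiY r π hπ)) (b : AlgGrp.Action H (G ⊗ X))
    (hb : b.act ≫ fst G X = (H ◁ fst G X) ≫ r.act)
    (q : G ⊗ X ⟶ Q) (hq : GIT.IsInvariant b q) (hqi : IsIso (GIT.PsiY b q hq))
    [Surjective q.left] [Flat q.left] [QuasiCompact q.left]
    (p : Q ⟶ B) (hp : q ≫ p = fst G X ≫ π) :
    IsPullback q.left (fst G X).left p.left π.left := by
  refine isPullback_of_kernelPair b.act.left (snd H (G ⊗ X)).left q.left (fst G X).left p.left π.left
    (by rw [← Over.comp_left, hp, Over.comp_left]) (isPullback_of_isIso_psi b q hq hqi) ?_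
  rw [← Over.comp_left, ← Over.comp_left, hb, hp, Over.comp_left, Over.comp_left]
  exact ((Basic.isPullback_whiskerLeft (fst G X)).map (Over.forget S)).paste_horiz
    (isPullback_of_isIso_psi r π hπ hπi)

/-- A morphism of associated bundles over the base pulls back to the morphism of fibres. -/
theorem isPullback_map {π : G ⟶ B} {QX QY : Over S} {qX : G ⊗ X ⟶ QX} {qY : G ⊗ Y ⟶ QY}
    {pX : QX ⟶ B} {pY : QY ⟶ B} (hX : IsPullback qX.left (fst G X).left pX.left π.left)
    (hY : IsPullback qY.left (fst G Y).left pY.left π.left) (i : X ⟶ Y) (m : QX ⟶ QY)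
    (hm : qX ≫ m = (G ◁ i) ≫ qY) (hmp : m ≫ pY = pX) :
    IsPullback (G ◁ i).left qX.left qY.left m.left := by
  refine IsPullback.flip ?_
  refine IsPullback.of_bot (v₂₁ := (fst G Y).left) (v₂₂ := pY.left) (h₃₁ := π.left) ?_ ?_ hY
  · rw [← Over.comp_left, ← Over.comp_left, whiskerLeft_fst, hmp]
    exact hX
  · rw [← Over.comp_left, ← Over.comp_left, hm]

/-- Universal closedness descends along faithfully flat quasi-compact morphisms. -/
theorem universallyClosed_of_isPullback {A Q' G' B' : Scheme.{u}} {q : A ⟶ Q'} {f : A ⟶ G'}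
    {p : Q' ⟶ B'} {π : G' ⟶ B'} (h : IsPullback q f p π) [Surjective π] [Flat π] [QuasiCompact π]
    [UniversallyClosed f] : UniversallyClosed p :=
  MorphismProperty.of_isPullback_of_descendsAlong
    (P := @UniversallyClosed) (Q := @Surjective ⊓ @Flat ⊓ @QuasiCompact)
    h.flip ⟨⟨‹_›, ‹_›⟩, ‹_›⟩ ‹_›

end Groth.Agent.GrpScheme.AssocBundle

namespace Groth.Agent.GrpScheme.AssocBundle

open MonObj GrpObj

variable {S : Scheme.{u}} {G H X : Over S} [GrpObj G] [GrpObj H]

/-- The twisted action lifts the action by right translations. -/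
theorem act_fst (j : H ⟶ G) (r : AlgGrp.Action H G)
    (hr : ∀ (T : Over S) (h : T ⟶ H) (g : T ⟶ G), lift h g ≫ r.act = g * (h ≫ j)⁻¹)
    (aX : AlgGrp.Action H X) (b : AlgGrp.Action H (G ⊗ X))
    (hb : ∀ (T : Over S) (h : T ⟶ H) (g : T ⟶ G) (x : T ⟶ X),
      lift h (lift g x) ≫ b.act = lift (g * (h ≫ j)⁻¹) (lift h x ≫ aX.act)) :
    b.act ≫ fst G X = (H ◁ fst G X) ≫ r.act := by
  have h1 : 𝟙 (H ⊗ (G ⊗ X)) =
      lift (fst _ _) (lift (snd H (G ⊗ X) ≫ fst G X) (snd H (G ⊗ X) ≫ snd G X)) := by
    refine CartesianMonoidalCategory.hom_ext _ _ (by simp) ?_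
    refine CartesianMonoidalCategory.hom_ext _ _ (by simp) (by simp)
  rw [← Category.id_comp b.act, h1, hb, lift_fst,
    show H ◁ fst G X = lift (fst H (G ⊗ X)) (snd H (G ⊗ X) ≫ fst G X) from
      CartesianMonoidalCategory.hom_ext _ _ (by simp) (by simp), hr]

end Groth.Agent.GrpScheme.AssocBundle
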