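import Groth.Agent.GrpScheme.CharSplit
import Groth.Agent.GrpScheme.AffineHom
import Groth.Agent.GrpScheme.KernelPair
import Groth.Agent.GrpScheme.RedIdComponent
import Groth.Agent.GrpQuot19.Field
import Groth.Agent.GrpdLib.AffNormalQuot
import Groth.Agent.GrpdLib.FppfSourceDescent
import Groth.Agent.FlatMor.GeomDescent
import Groth.Agent.WittLib.Basic

/-!
# Quotients of connected groups by kernels of characters
-/

set_option autoImplicit false
set_option backward.isDefEq.respectTransparency false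

universe u

open CategoryTheory MonoidalCategory CartesianMonoidalCategory MonObj GrpObj AlgebraicGeometry Limits
open Groth.Agent.SekLib Groth.Agent.RedPts

noncomputable section

namespace Groth.Agent.GrpScheme.CharKernel

open DiagRep Tangent RegularRep CharSplit
open Rosenlicht (pb pb_comp pb_cst cst)

attribute [local instance] secAlgebra

variable {k : Type u} [Field k] [IsAlgClosed k]


/-- The characters of the split torus. -/
def dsChars (k : Type u) [Field k] (r : ℕ) : Chars (Red.DS (Spec (CommRingCat.of k)) (Fin r → ℤ)) (Fin r → ℤ) :=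
  Chars.ofIso (Iso.refl _)

lemma dsChars_θ {r : ℕ} {Y : Over (Spec (CommRingCat.of k))} (y : Y ⟶ Red.DS (Spec (CommRingCat.of k)) (Fin r → ℤ)) (a : Fin r → ℤ) : (dsChars k r).θ y a = dFn y a :=
  congrArg (fun w => dFn w a) (Category.comp_id y)

lemma ds_comm {r : ℕ} {Y : Over (Spec (CommRingCat.of k))} (x y : Y ⟶ Red.DS (Spec (CommRingCat.of k)) (Fin r → ℤ)) : x * y = y * x :=
  d_ext fun m => by rw [d_mul, d_mul, mul_comm]

lemma ds_props (r : ℕ) : IsReduced (Red.DS (Spec (CommRingCat.of k)) (Fin r → ℤ)).left ∧ IsAffine (Red.DS (Spec (CommRingCat.of k)) (Fin r → ℤ)).left ∧ LocallyOfFiniteType (Red.DS (Spec (CommRingCat.of k)) (Fin r → ℤ)).hom ∧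
    QuasiCompact (Red.DS (Spec (CommRingCat.of k)) (Fin r → ℤ)).hom := by
  obtain ⟨e, -⟩ := exists_univ_iso (dsChars k r)
  have : IsReduced (TSpec (K := k) (Laurent k (Fin r → ℤ))).left :=
    inferInstanceAs (IsReduced (Spec (CommRingCat.of (Laurent k (Fin r → ℤ)))))
  have : IsAffine (TSpec (K := k) (Laurent k (Fin r → ℤ))).left :=
    inferInstanceAs (IsAffine (Spec (CommRingCat.of (Laurent k (Fin r → ℤ)))))
  have hl : LocallyOfFiniteType (TSpec (K := k) (Laurent k (Fin r → ℤ))).hom := by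
    refine (HasRingHomProperty.Spec_iff (P := @LocallyOfFiniteType)).mpr ?_
    exact RingHom.finiteType_algebraMap.2 inferInstance
  have hq : QuasiCompact (TSpec (K := k) (Laurent k (Fin r → ℤ))).hom :=
    inferInstanceAs (QuasiCompact (Spec.map _))
  have : IsIso e.inv.left := ((Over.forget _).mapIso e).isIso_inv
  refine ⟨isReduced_of_isOpenImmersion e.inv.left, IsAffine.of_isIso e.inv.left, ?_, ?_⟩ <;>
    (rw [← Over.w e.inv]; infer_instance)

variable {G : Over (Spec (CommRingCat.of k))} [GrpObj G]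

lemma pb_eta_θ {T : Over (Spec (CommRingCat.of k))} [GrpObj T] {r : ℕ} (C : Chars T (Fin r → ℤ)) (φ : G ⟶ T) [IsMonHom φ]
    (a : Fin r → ℤ) : pb η[G] (C.θ φ a) = 1 :=
  (C.θ_comp η[G] φ a).symm.trans (by rw [IsMonHom.one_hom, MonObj.one_eq_one, θ_one])

/-- Rational points lift along surjections. -/
lemma exists_pt_lift {X Y : Over (Spec (CommRingCat.of k))} [LocallyOfFiniteType X.hom] [LocallyOfFiniteType Y.hom] (π : X ⟶ Y)
    [Surjective π.left] (y : Pt Y) : ∃ x : Pt X, x ≫ π = y := by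
  obtain ⟨z, hz⟩ := π.left.surjective (cpt y)
  obtain ⟨x, hx⟩ := exists_pt_mem (G := X) (U := π.left ⁻¹' {cpt y})
    ((isClosed_cpt y).preimage π.left.continuous).isLocallyClosed ⟨z, hz⟩
  exact ⟨x, pt_ext (by rw [cpt, Over.comp_left, Scheme.Hom.comp_apply]; exact hx)⟩

lemma pb_injective {X Y : Over (Spec (CommRingCat.of k))} [LocallyOfFiniteType X.hom] [LocallyOfFiniteType Y.hom] [IsReduced Y.left]
    (π : X ⟶ Y) [Surjective π.left] {a b : Γ(Y.left, ⊤)} (h : pb π a = pb π b) : a = b :=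
  eq_of_dense (denseSet_univ (G := Y)) fun y _ => by
    obtain ⟨x, rfl⟩ := exists_pt_lift π y
    rw [evk_comp, evk_comp, h]

/-- The quotient by a normal closed subgroup. -/
theorem exists_quot [LocallyOfFiniteType G.hom] [QuasiCompact G.hom] [IsIntegral G.left] {F : Over (Spec (CommRingCat.of k))} [GrpObj F]
    [LocallyOfFiniteType F.hom] [QuasiCompact F.hom] (j : F ⟶ G) [IsMonHom j] [IsClosedImmersion j.left]
    (hj : AlgGrp.IsNormalHom j) :
    ∃ (X : Over (Spec (CommRingCat.of k))) (_ : GrpObj X) (π : G ⟶ X), IsMonHom π ∧ AlgGrp.IsKernel j π ∧ Flat π.left ∧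
      Surjective π.left ∧ LocallyOfFiniteType X.hom ∧ QuasiCompact X.hom ∧ IsIntegral X.left ∧
      EffectiveEpi π.left ∧ EffectiveEpi (π ⊗ₘ π).left ∧
      ∀ (Q : Over (Spec (CommRingCat.of k))) [GrpObj Q] (φ : G ⟶ Q), IsMonHom φ → j ≫ φ = 1 → ∃ χ : X ⟶ Q, IsMonHom χ ∧ π ≫ χ = φ := by
  have : Mono j.left := inferInstance
  have : Mono j := Over.mono_of_mono_left j
  obtain ⟨X, π, hπf, hπs, hπlfp, sq⟩ := GrpQuot19.Field.exists_quotient_of_closedSubgroup (G := G) (F := F) j
  have hmul : (G ◁ j) ≫ μ[G] = fst G F * (snd G F ≫ j) := by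
    rw [MonObj.mul_eq_mul, MonObj.comp_mul, whiskerLeft_fst, whiskerLeft_snd]
  have hrel : ∀ {T : Over (Spec (CommRingCat.of k))} (x y : T ⟶ G), x ≫ π = y ≫ π ↔ ∃ z : T ⟶ F, z ≫ j = x⁻¹ * y := by
    intro T x y
    refine ⟨fun he => ?_, fun ⟨z, hz⟩ => ?_⟩
    · obtain ⟨l, hl1, hl2⟩ := sq.exists_lift y x he.symm
      refine ⟨l ≫ snd G F, ?_⟩
      rw [hmul, MonObj.comp_mul, hl2] at hl1
      rw [Category.assoc]
      exact eq_inv_mul_iff_mul_eq.2 hl1
    · have h := congrArg (lift x z ≫ ·) sq.w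
      simp only [← Category.assoc, hmul, MonObj.comp_mul, lift_fst] at h
      rw [lift_snd, hz, mul_inv_cancel_left] at h
      exact h.symm
  obtain ⟨gX, hπm, hπk⟩ := GrpdLib.AffNormalQuot.exists_quotGroup j π hrel hj
  have : LocallyOfFiniteType (π.left ≫ X.hom) := by rw [Over.w π]; infer_instance
  have : LocallyOfFiniteType X.hom :=
    GrpdLib.FppfSourceDescent.locallyOfFiniteType_of_comp_fppf π.left X.hom
  have : CompactSpace G.left := (quasiCompact_iff_compactSpace G.hom).1 inferInstance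
  have : CompactSpace X.left := ⟨by
    rw [← Set.image_univ_of_surjective hπs.surj]
    exact isCompact_univ.image π.left.continuous⟩
  have : QuasiCompact X.hom := (quasiCompact_iff_compactSpace X.hom).2 inferInstance
  have : IsReduced X.left := FlatMor.GeomDescent.isReduced_of_flat_surjective π.left
  have : IrreducibleSpace X.left :=
    { toPreirreducibleSpace := ⟨by
        rw [← Set.image_univ_of_surjective hπs.surj]
        exact (IrreducibleSpace.isIrreducible_univ G.left).2.image _ π.left.continuous.continuousOn⟩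
      toNonempty := (inferInstance : Nonempty G.left).map π.left }
  have hee : EffectiveEpi π.left := inferInstance
  have hee2 : EffectiveEpi (π ⊗ₘ π).left := by
    have hp : (@Surjective ⊓ @Flat ⊓ @LocallyOfFinitePresentation : MorphismProperty Scheme.{u}) π.left :=
      ⟨⟨hπs, hπf⟩, hπlfp⟩
    have h : (@Surjective ⊓ @Flat ⊓ @LocallyOfFinitePresentation : MorphismProperty Scheme.{u}) (π ⊗ₘ π).left := by
      rw [MonoidalCategory.tensorHom_def, Over.comp_left]
      exact MorphismProperty.comp_mem _ _ _ (Basic.whiskerRight_mem _ π _ hp) (Basic.whiskerLeft_mem _ π _ hp)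
    obtain ⟨⟨_, _⟩, _⟩ := h
    infer_instance
  refine ⟨X, gX, π, hπm, hπk, hπf, hπs, inferInstance, inferInstance, isIntegral_of_irreducibleSpace_of_isReduced _,
    hee, hee2, fun Q _ φ hφ hjφ => ?_⟩
  obtain ⟨χ, hχ, -⟩ := GrpdLib.GrpOver.existsUnique_desc π φ fun T a b hab => by
    obtain ⟨z, hz⟩ := (hrel a b).1 hab
    have := congrArg (· ≫ φ) hz
    rw [Category.assoc, hjφ, MonObj.comp_one, MonObj.mul_comp a⁻¹ b φ, GrpObj.inv_comp] at this
    exact inv_mul_eq_one.1 this.symm
  exact ⟨χ,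
    { one_hom := by rw [← IsMonHom.one_hom (f := π), Category.assoc, hχ, IsMonHom.one_hom]
      mul_hom := GrpdLib.GrpOver.cancel_left (π ⊗ₘ π) (by
        rw [← Category.assoc, ← IsMonHom.mul_hom (f := π), Category.assoc, hχ, IsMonHom.mul_hom,
          tensorHom_comp_tensorHom_assoc, hχ]) }, hχ⟩

/-- A quotient killing the commutators is commutative. -/
lemma isCommMonObj_quot {X : Over (Spec (CommRingCat.of k))} [GrpObj X] (π : G ⟶ X) [IsMonHom π] [EffectiveEpi (π ⊗ₘ π).left]
    (h : (fst G G * snd G G * (fst G G)⁻¹ * (snd G G)⁻¹) ≫ π = 1) : IsCommMonObj X := by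
  rw [MonObj.mul_comp, MonObj.mul_comp, MonObj.mul_comp, GrpObj.inv_comp, GrpObj.inv_comp, mul_inv_eq_one,
    mul_inv_eq_iff_eq_mul] at h
  have h' : (π ⊗ₘ π) ≫ (fst X X * snd X X) = (π ⊗ₘ π) ≫ (snd X X * fst X X) := by
    simp only [MonObj.comp_mul, tensorHom_fst, tensorHom_snd]
    exact h
  have hμ : μ[X] = fst X X * snd X X := MonObj.mul_eq_mul X
  have h2 := GrpdLib.GrpOver.cancel_left (π ⊗ₘ π) h'
  refine ⟨?_⟩
  rw [hμ, MonObj.comp_mul, braiding_hom_fst, braiding_hom_snd, h2]

/-- A unit trivial on the axes gives a trivial map to a torus. -/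
lemma eq_one_of_axes {r : ℕ} {T : Over (Spec (CommRingCat.of k))} [GrpObj T] (C : Chars T (Fin r → ℤ))
    {X Y : Over (Spec (CommRingCat.of k))} [IsReduced X.left] [IsReduced Y.left] [ConnectedSpace X.left]
    [ConnectedSpace Y.left] [LocallyOfFiniteType X.hom] [QuasiCompact X.hom] [LocallyOfFiniteType Y.hom]
    [QuasiCompact Y.hom] (x₀ : Pt X) (y₀ : Pt Y) (φ : X ⊗ Y ⟶ T) (hR : Rosenlicht.sliceR X y₀ ≫ φ = 1)
    (hL : Rosenlicht.sliceL Y x₀ ≫ φ = 1) : φ = 1 := by
  refine C.θ_ext fun m => ?_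
  rw [θ_one]
  refine Rosenlicht.eq_one_of_axes X Y x₀ y₀ _
    (IsUnit.of_mul_eq_one (C.θ φ (-m)) (by rw [← C.θ_add, add_neg_cancel, C.θ_zero])) ?_ ?_
  · exact (C.θ_comp _ φ m).symm.trans (by rw [hR, θ_one])
  · exact (C.θ_comp _ φ m).symm.trans (by rw [hL, θ_one])

/-- A torus through which all characters of a connected group factor, with its characters. -/
theorem exists_basis_chars [LocallyOfFiniteType G.hom] [IsIntegral G.left] [QuasiCompact G.hom] :
    ∃ (r : ℕ) (T : Over (Spec (CommRingCat.of k))) (_ : GrpObj T) (C : Chars T (Fin r → ℤ))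
      (_ : Red.IsSplitTorusWith (Fin r → ℤ) T) (q : G ⟶ T),
      IsMonHom q ∧ Surjective q.left ∧ IsReduced T.left ∧ IsAffine T.left ∧ LocallyOfFiniteType T.hom ∧
      QuasiCompact T.hom ∧ (∀ a, IsUnit a → pb η[G] a = 1 → ∃ m, C.θ q m = a) ∧
      ((∀ a, a ∈ Submodule.span k {b : Γ(G.left, ⊤) | IsUnit b}) → IsAffine G.left → IsIso q) := by
  obtain ⟨r, q, hqm, hqs, hchar, hiso⟩ := exists_basis_hom (G := G)
  obtain ⟨h1, h2, h3, h4⟩ := ds_props (k := k) r
  exact ⟨r, _, inferInstance, dsChars k r, ⟨Iso.refl _⟩, q, hqm, hqs, h1, h2, h3, h4,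
    fun a ha ha1 => (hchar a ha ha1).imp fun m hm => (dsChars_θ q m).trans hm, hiso⟩

/-- A commutative affine group with dense torsion injects into a torus through which its characters factor. -/
theorem mono_of_split {E : Over (Spec (CommRingCat.of k))} [GrpObj E] [LocallyOfFiniteType E.hom] [QuasiCompact E.hom]
    [IsIntegral E.left] [IsCommMonObj E] [IsAffine E.left] (hD : DenseSet (Tor E)) {r : ℕ}
    {T : Over (Spec (CommRingCat.of k))} [GrpObj T] (C : Chars T (Fin r → ℤ)) (q : E ⟶ T)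
    (hfac : ∀ a : Γ(E.left, ⊤), IsUnit a → pb η[E] a = 1 → ∃ m, C.θ q m = a) : Mono q := by
  obtain ⟨s, S, gS, D, -, e, he, -, -, -, -, -, -, hiso⟩ := exists_basis_chars (G := E)
  have : IsIso e := hiso (span_units hD) inferInstance
  refine ⟨fun {Z} x y hxy => ?_⟩
  refine (cancel_mono e).1 (D.θ_ext fun m => ?_)
  obtain ⟨m', hm'⟩ := hfac (D.θ e m)
    (IsUnit.of_mul_eq_one (D.θ e (-m)) (by rw [← D.θ_add, add_neg_cancel, D.θ_zero])) (pb_eta_θ D e m)
  rw [D.θ_comp, D.θ_comp, ← hm', ← C.θ_comp, ← C.θ_comp, hxy]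

/-- A flat surjection onto an affine scheme with affine kernel has affine source. -/
lemma isAffine_of_kernel {E T N : Over (Spec (CommRingCat.of k))} [GrpObj E] [GrpObj T] [IsAffine T.left] (q : E ⟶ T) [IsMonHom q]
    [Flat q.left] [Surjective q.left] [QuasiCompact E.hom] [LocallyOfFiniteType T.hom] (i : N ⟶ E)
    (h : AlgGrp.IsKernel i q) [IsAffine N.left] : IsAffine E.left := by
  have : IsSeparated T.hom := IdComponent.isSeparated T
  have : QuasiCompact (q.left ≫ T.hom) := by rw [Over.w q]; infer_instance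
  have : QuasiCompact q.left := QuasiCompact.of_comp q.left T.hom
  have := FpqcDesc.descendsAlong_isAffineHom.{u}
  have : IsAffineHom q.left := KernelPair.mem_of_kernel h @IsAffineHom FpqcDesc.FPQC
    ⟨⟨inferInstance, inferInstance⟩, inferInstance⟩ (inferInstanceAs (IsAffineHom N.hom))
  exact isAffine_of_isAffineHom q.left

end Groth.Agent.GrpScheme.CharKernel
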