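import Groth.Agent.GrpScheme.Points

/-!
# Products of dense opens in a group scheme over a field
-/

set_option autoImplicit false

universe u

open CategoryTheory MonoidalCategory CartesianMonoidalCategory MonObj GrpObj AlgebraicGeometry
  Limits

namespace Groth.Agent.GrpScheme.DenseOpen

variable {K : Type u} [Field K] {G : Over (Spec (CommRingCat.of K))} [GrpObj G]

/-- In a group scheme over a field the product of two dense opens is everything. -/
theorem exists_mul (U V : G.left.Opens) (hU : Dense (U : Set G.left)) (hV : Dense (V : Set G.left))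
    (x : G.left) :
    ∃ p : (G ⊗ G).left, (fst G G).left p ∈ U ∧ (snd G G).left p ∈ V ∧ μ[G].left p = x := by
  let T := Points.pointObj G x
  let g : T ⟶ G := Points.pointHom G x
  have : UniversallyOpen (snd T G).left := Basic.snd_left_mem @UniversallyOpen inferInstance
  have hopen : IsOpenMap (snd T G).left := Scheme.Hom.isOpenMap _
  let d := lift (fst T G) ((fst T G ≫ g) * (snd T G)⁻¹)
  let d' := lift (fst T G) ((snd T G)⁻¹ * (fst T G ≫ g))
  have hd : d' ≫ d = 𝟙 _ := by
    refine CartesianMonoidalCategory.hom_ext _ _ (by simp [d, d']) ?_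
    simp only [d, d', Category.assoc, lift_snd, MonObj.comp_mul, GrpObj.comp_inv, lift_fst_assoc,
      Category.id_comp]
    simp
  have hd' : d ≫ d' = 𝟙 _ := by
    refine CartesianMonoidalCategory.hom_ext _ _ (by simp [d, d']) ?_
    simp only [d, d', Category.assoc, lift_snd, MonObj.comp_mul, GrpObj.comp_inv, lift_fst_assoc,
      Category.id_comp]
    simp
  have : IsIso d := ⟨d', hd', hd⟩
  have : IsIso d.left := Basic.isIso_left d
  have hdU : Dense ((d ≫ snd T G).left ⁻¹' (U : Set G.left)) := by
    rw [Over.comp_left, Scheme.Hom.comp_base, TopCat.coe_comp, Set.preimage_comp]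
    exact (hU.preimage hopen).preimage d.left.homeomorph.isOpenMap
  have hVd : Dense ((snd T G).left ⁻¹' (V : Set G.left)) := hV.preimage hopen
  have : Nonempty (T ⊗ G).left := by
    have := Points.snd_surjective_of_field T G
    obtain ⟨q, -⟩ := (snd T G).left.surjective x
    exact ⟨q⟩
  obtain ⟨q, hqU, hqV⟩ := (hdU.inter_of_isOpen_right hVd
    (V.2.preimage (snd T G).left.continuous)).nonempty
  refine ⟨(lift (d ≫ snd T G) (snd T G)).left q, ?_, ?_, ?_⟩
  · rw [← Points.comp_apply, lift_fst]; exact hqU
  · rw [← Points.comp_apply, lift_snd]; exact hqV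
  · rw [← Points.comp_apply, ← Hom.mul_def]
    simp only [d, lift_snd, inv_mul_cancel_right]
    rw [Points.comp_apply, Points.pointHom_apply]

end Groth.Agent.GrpScheme.DenseOpen
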