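import Groth.Agent.GrpScheme.DiagRep
import Mathlib.LinearAlgebra.Matrix.Rank
import Mathlib.LinearAlgebra.Matrix.Permutation
import Mathlib.LinearAlgebra.Matrix.SesquilinearForm

/-!
# Character maps and conjugacy of idempotent systems
-/

set_option autoImplicit false

universe u

open CategoryTheory MonoidalCategory CartesianMonoidalCategory MonObj GrpObj AlgebraicGeometry Limits
open Groth.Agent.SekLib Groth.Agent.RedPts

noncomputable section

namespace Groth.Agent.GrpScheme.DiagRepTools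

open DiagRep Tangent RegularRep

attribute [local instance] secAlgebra

variable {F : Type u} [Field F]

/-- The points of the multiplicative group as `1 × 1` matrices. -/
def gmPts (F : Type u) [Field F] : MatPts (Red.Gm (Spec (CommRingCat.of F))) 1 where
  mat y := Matrix.of fun _ _ => Red.gmFn y
  mat_comp h y := Matrix.ext fun _ _ => gm_comp h y
  mat_mul a b := Matrix.ext fun _ _ => by simp [Matrix.mul_apply, gm_mul]
  isUnit_mat y := by simpa [Matrix.det_fin_one] using gm_isUnit y
  mat_inj h := gm_injective (congrFun (congrFun h 0) 0)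
  mat_exists A hA := by
    rw [Matrix.det_fin_one] at hA
    obtain ⟨x, hx⟩ := gm_surjective (S := Spec (CommRingCat.of F)) hA
    exact ⟨x, Matrix.ext fun a b => by
      rw [Subsingleton.elim a 0, Subsingleton.elim b 0]
      exact hx⟩

variable {T T' : Over (Spec (CommRingCat.of F))} [GrpObj T] [GrpObj T'] {M M' : Type} [AddCommGroup M]
  [AddCommGroup M'] [Fintype M] [DecidableEq M] (C : Chars T M) (C' : Chars T' M')

/-- A homomorphism of diagonalisable groups is given by a map of characters. -/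
theorem exists_charMap (φ : T ⟶ T') [IsMonHom φ] :
    ∃ χ : M' →+ M, ∀ {Y : Over (Spec (CommRingCat.of F))} (y : Y ⟶ T) (b : M'),
      C'.θ (y ≫ φ) b = C.θ y (χ b) := by
  have hb : ∀ b, ∃ a, ∀ {Y : Over (Spec (CommRingCat.of F))} (y : Y ⟶ T), C'.θ (y ≫ φ) b = C.θ y a := by
    intro b
    have hu : IsUnit (C'.θ φ b) := IsUnit.of_mul_eq_one (C'.θ φ (-b)) (by rw [← C'.θ_add, add_neg_cancel, C'.θ_zero])
    obtain ⟨c, hc⟩ := gm_surjective (S := Spec (CommRingCat.of F)) hu
    have hy : ∀ {Y : Over (Spec (CommRingCat.of F))} (y : Y ⟶ T), Red.gmFn (y ≫ c) = C'.θ (y ≫ φ) b := fun y => by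
      rw [gm_comp, hc, C'.θ_comp]
    have hone : ∀ (Y : Over (Spec (CommRingCat.of F))), Red.gmFn (1 : Y ⟶ Red.Gm (Spec (CommRingCat.of F))) = 1 :=
      fun Y => congrFun (congrFun ((gmPts F).mat_one Y) 0) 0
    have : IsMonHom c := by
      refine ⟨gm_injective ?_, gm_injective ?_⟩
      · rw [hy, IsMonHom.one_hom, MonObj.one_eq_one, MonObj.one_eq_one, hone]
        have hu' : IsUnit (C'.θ (1 : 𝟙_ (Over (Spec (CommRingCat.of F))) ⟶ T') b) :=
          IsUnit.of_mul_eq_one (C'.θ 1 (-b)) (by rw [← C'.θ_add, add_neg_cancel, C'.θ_zero])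
        refine hu'.mul_left_cancel ?_
        rw [← C'.θ_mul, _root_.one_mul, _root_.mul_one]
      · rw [hy, IsMonHom.mul_hom, MonObj.mul_eq_mul T', MonObj.comp_mul, C'.θ_mul, tensorHom_fst, tensorHom_snd,
          MonObj.mul_eq_mul (Red.Gm (Spec (CommRingCat.of F))), MonObj.comp_mul, gm_mul, tensorHom_fst, tensorHom_snd,
          hy, hy]
    obtain ⟨hP, hsum⟩ := isSystem_weights C (gmPts F) c
    set P := weights C (gmPts F) c with hPdef
    have hP' : ∀ a a', P a 0 0 * P a' 0 0 = if a = a' then P a 0 0 else 0 := fun a a' => by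
      have h := congrFun (congrFun (hP a a') 0) 0
      rw [Matrix.mul_apply, Fin.sum_univ_one] at h
      rw [h]
      split_ifs <;> rfl
    have hsum' : ∑ a, P a 0 0 = 1 := by
      have h := congrFun (congrFun hsum 0) 0
      simpa [Matrix.sum_apply] using h
    obtain ⟨a, -, ha⟩ := Finset.exists_ne_zero_of_sum_ne_zero (hsum'.trans_ne one_ne_zero)
    have ha1 : P a 0 0 = 1 := by
      have h := hP' a a
      rw [if_pos rfl] at h
      exact (mul_eq_left₀ ha).mp h
    refine ⟨a, fun {Y} y => ?_⟩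
    rw [← hy]
    have h := congrFun (congrFun (mat_eq C (gmPts F) c y) 0) 0
    refine h.trans ?_
    simp only [comb, Matrix.sum_apply, Matrix.smul_apply, Matrix.map_apply, ← hPdef, smul_eq_mul]
    rw [Finset.sum_eq_single a, ha1, map_one, _root_.mul_one]
    · intro a' _ hne
      have h0 := hP' a' a
      rw [if_neg hne, ha1, _root_.mul_one] at h0
      rw [h0, map_zero, mul_zero]
    · simp
  choose χ hχ using hb
  have hinj : ∀ a a', C.θ (univ C) a = C.θ (univ C) a' → a = a' := fun a a' h => by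
    rw [θ_univ, θ_univ] at h
    have h2 := congrArg (coeffL (F := F) a) ((ev (F := F) (Laurent F M)).injective h)
    rw [coeffL_mon, coeffL_mon, if_pos rfl] at h2
    by_contra hne
    rw [if_neg (Ne.symm hne)] at h2
    exact one_ne_zero h2
  refine ⟨AddMonoidHom.mk' χ fun b b' => hinj _ _ ?_, fun y b => hχ b y⟩
  rw [C.θ_add, ← hχ b, ← hχ b', ← hχ (b + b'), C'.θ_add]

omit [Fintype M] [DecidableEq M] in
/-- A map of characters gives a homomorphism. -/
theorem exists_hom_of_charMap (χ : M' →+ M) : ∃ (φ : T ⟶ T') (_ : IsMonHom φ),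
    ∀ {Y : Over (Spec (CommRingCat.of F))} (y : Y ⟶ T) (b : M'), C'.θ (y ≫ φ) b = C.θ y (χ b) := by
  let f : Multiplicative M' →* Γ(T.left, ⊤) :=
    { toFun := fun b => C.θ (𝟙 T) (χ b.toAdd)
      map_one' := by simp [C.θ_zero]
      map_mul' := fun b b' => by simp [C.θ_add] }
  obtain ⟨φ, hφ⟩ := C'.θ_exists f
  have hy : ∀ {Y : Over (Spec (CommRingCat.of F))} (y : Y ⟶ T) (b : M'), C'.θ (y ≫ φ) b = C.θ y (χ b) := fun y b => by
    rw [C'.θ_comp, hφ]
    refine (C.θ_comp y (𝟙 T) (χ b)).symm.trans ?_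
    rw [Category.comp_id]
  refine ⟨φ, ⟨C'.θ_ext fun b => ?_, C'.θ_ext fun b => ?_⟩, fun y b => hy y b⟩
  · rw [hy, MonObj.one_eq_one, MonObj.one_eq_one]
    have h1 : C'.θ (1 : 𝟙_ (Over (Spec (CommRingCat.of F))) ⟶ T') b = 1 := by
      have hu : IsUnit (C'.θ (1 : 𝟙_ (Over (Spec (CommRingCat.of F))) ⟶ T') b) :=
        IsUnit.of_mul_eq_one (C'.θ 1 (-b)) (by rw [← C'.θ_add, add_neg_cancel, C'.θ_zero])
      refine hu.mul_left_cancel ?_
      rw [← C'.θ_mul, _root_.one_mul, _root_.mul_one]
    have h2 : C.θ (1 : 𝟙_ (Over (Spec (CommRingCat.of F))) ⟶ T) (χ b) = 1 := by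
      have hu : IsUnit (C.θ (1 : 𝟙_ (Over (Spec (CommRingCat.of F))) ⟶ T) (χ b)) :=
        IsUnit.of_mul_eq_one (C.θ 1 (-χ b)) (by rw [← C.θ_add, add_neg_cancel, C.θ_zero])
      refine hu.mul_left_cancel ?_
      rw [← C.θ_mul, _root_.one_mul, _root_.mul_one]
    rw [h1, h2]
  · rw [hy, MonObj.mul_eq_mul T, C.θ_mul, MonObj.mul_eq_mul T', MonObj.comp_mul, C'.θ_mul, tensorHom_fst,
      tensorHom_snd, hy, hy]

omit [Fintype M] [DecidableEq M] in
/-- A bijection of characters gives an isomorphism. -/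
theorem exists_iso_of_charEquiv (χ : M' ≃+ M) : ∃ (φ : T ≅ T') (_ : IsMonHom φ.hom),
    ∀ {Y : Over (Spec (CommRingCat.of F))} (y : Y ⟶ T) (b : M'), C'.θ (y ≫ φ.hom) b = C.θ y (χ b) := by
  obtain ⟨φ, hφm, hφ⟩ := exists_hom_of_charMap C C' χ.toAddMonoidHom
  obtain ⟨ψ, -, hψ⟩ := exists_hom_of_charMap C' C χ.symm.toAddMonoidHom
  have h1 : φ ≫ ψ = 𝟙 T := C.θ_ext fun a => by
    have h := hφ (𝟙 T) (χ.symm a)
    rw [Category.id_comp] at h
    rw [hψ φ a]
    exact h.trans (by simp)
  have h2 : ψ ≫ φ = 𝟙 T' := C'.θ_ext fun b => by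
    have h := hψ (𝟙 T') (χ b)
    rw [Category.id_comp] at h
    rw [hφ ψ b]
    exact h.trans (by simp)
  exact ⟨⟨φ, ψ, h1, h2⟩, hφm, fun y b => hφ y b⟩

variable [Fintype M'] [DecidableEq M'] {G : Over (Spec (CommRingCat.of F))} [GrpObj G] {m : ℕ} (D : MatPts G m)

/-- Weights of a composite with an isomorphism of characters. -/
theorem weights_comp (φ : T ⟶ T') (χ : M' ≃+ M)
    (hφ : ∀ {Y : Over (Spec (CommRingCat.of F))} (y : Y ⟶ T) (b : M'), C'.θ (y ≫ φ) b = C.θ y (χ b)) (j : T' ⟶ G) :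
    weights C D (φ ≫ j) = fun a => weights C' D j (χ.symm a) := by
  refine weights_eq C D _ _ ?_
  rw [← Category.assoc, mat_eq C' D j]
  simp only [comb, hφ]
  exact Fintype.sum_equiv χ.toEquiv _ _ fun b => by simp

section LinearAlgebra

variable {κ : Type} [Fintype κ] [DecidableEq κ]

/-- Every system is conjugate to a diagonal one. -/
theorem exists_diag_conj {P : κ → Matrix (Fin m) (Fin m) F}
    (hP : (∀ a b, P a * P b = if a = b then P a else 0) ∧ ∑ a, P a = 1) :
    ∃ (f : Fin m → κ) (g : Matrix (Fin m) (Fin m) F), IsUnit g.det ∧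
      ∀ a, g * P a * g⁻¹ = Matrix.diagonal fun i => if f i = a then 1 else 0 := by
  classical
  let W : κ → Submodule F (Fin m → F) := fun a => LinearMap.range (P a).mulVecLin
  let b : ∀ a, Module.Basis (Fin (Module.finrank F (W a))) F (W a) := fun a => Module.finBasis F (W a)
  let A : ∀ a, Matrix (Fin m) (Fin (Module.finrank F (W a))) F := fun a =>
    LinearMap.toMatrix (b a) (Pi.basisFun F (Fin m)) (W a).subtype
  let B : ∀ a, Matrix (Fin (Module.finrank F (W a))) (Fin m) F := fun a =>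
    LinearMap.toMatrix (Pi.basisFun F (Fin m)) (b a) (P a).mulVecLin.rangeRestrict
  have hAB : ∀ a, A a * B a = P a := fun a => by
    rw [← LinearMap.toMatrix_comp (Pi.basisFun F (Fin m)) (b a) (Pi.basisFun F (Fin m))]
    show LinearMap.toMatrix (Pi.basisFun F (Fin m)) (Pi.basisFun F (Fin m)) (P a).mulVecLin = P a
    rw [LinearMap.toMatrix_eq_toMatrix']
    exact LinearMap.toMatrix'_toLin' (P a)
  have hBA : ∀ a, B a * A a = 1 := fun a => by
    rw [← LinearMap.toMatrix_comp]
    refine (congrArg _ (LinearMap.ext fun w => Subtype.ext ?_)).trans (LinearMap.toMatrix_id (b a))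
    obtain ⟨v, hv⟩ := w.2
    show (P a).mulVec (w : Fin m → F) = w
    rw [← hv]
    show (P a).mulVec ((P a).mulVec v) = (P a).mulVec v
    rw [Matrix.mulVec_mulVec, hP.1, if_pos rfl]
  have hoff : ∀ a c, a ≠ c → B a * A c = 0 := fun a c hne => by
    calc B a * A c = (B a * A a) * (B a * A c) * (B c * A c) := by rw [hBA, hBA, Matrix.one_mul, Matrix.mul_one]
      _ = B a * (P a * P c) * A c := by rw [← hAB, ← hAB]; simp only [Matrix.mul_assoc]
      _ = 0 := by rw [hP.1, if_neg hne, Matrix.mul_zero, Matrix.zero_mul]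
  let I := Σ a, Fin (Module.finrank F (W a))
  let Abig : Matrix (Fin m) I F := Matrix.of fun i p => A p.1 i p.2
  let Bbig : Matrix I (Fin m) F := Matrix.of fun p i => B p.1 p.2 i
  have h1 : Abig * Bbig = 1 := by
    rw [← hP.2]
    ext i j
    rw [Matrix.mul_apply, Matrix.sum_apply, Fintype.sum_sigma]
    refine Finset.sum_congr rfl fun a _ => ?_
    rw [← hAB a, Matrix.mul_apply]
    rfl
  have h2 : Bbig * Abig = 1 := by
    ext ⟨a, i⟩ ⟨c, j⟩
    rw [Matrix.mul_apply]
    show (B a * A c) i j = _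
    by_cases hac : a = c
    · subst hac
      rw [hBA, Matrix.one_apply, Matrix.one_apply]
      exact if_congr (by simp) rfl rfl
    · rw [hoff a c hac, Matrix.one_apply, if_neg (fun h => hac (congrArg Sigma.fst h))]
      rfl
  have hcard : Fintype.card (Fin m) = Fintype.card I := by
    have e := Matrix.toLin'.injective.eq_iff.mpr h1
    have e' := Matrix.toLin'.injective.eq_iff.mpr h2
    rw [Matrix.toLin'_mul, Matrix.toLin'_one] at e e'
    have := (LinearEquiv.ofLinearMap (Matrix.toLin' Bbig) (Matrix.toLin' Abig) e' e).finrank_eq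
    simpa [Module.finrank_pi] using this
  let σ : Fin m ≃ I := Fintype.equivOfCardEq hcard
  let g : Matrix (Fin m) (Fin m) F := Bbig.submatrix σ id
  let g' : Matrix (Fin m) (Fin m) F := Abig.submatrix id σ
  have hgg : g * g' = 1 := by
    show Bbig.submatrix σ id * Abig.submatrix id σ = 1
    rw [← Matrix.submatrix_mul _ _ σ id σ Function.bijective_id, h2]
    exact Matrix.submatrix_one_equiv σ
  refine ⟨fun i => (σ i).1, g, (Matrix.isUnit_det_of_right_inverse hgg), fun a => ?_⟩
  rw [Matrix.inv_eq_right_inv hgg]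
  ext i j
  show (Bbig.submatrix σ id * P a * Abig.submatrix id σ) i j = _
  have e : (Bbig.submatrix σ id * P a * Abig.submatrix id σ) i j = (B (σ i).1 * P a * A (σ j).1) (σ i).2 (σ j).2 := by
    simp [Matrix.mul_apply, Bbig, Abig]
  rw [e, Matrix.diagonal_apply]
  have e2 : B (σ i).1 * P a * A (σ j).1 = (B (σ i).1 * A a) * (B a * A (σ j).1) := by
    rw [← hAB a]; simp only [Matrix.mul_assoc]
  rw [e2]
  by_cases hi : (σ i).1 = a
  · subst hi
    rw [hBA, Matrix.one_mul, if_pos rfl]
    by_cases hij : (σ i).1 = (σ j).1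
    · have key : ∀ p q : I, p.1 = q.1 → (B p.1 * A q.1) p.2 q.2 = if p = q then 1 else 0 := by
        rintro ⟨a', i'⟩ ⟨c', j'⟩ h
        obtain rfl : a' = c' := h
        rw [hBA, Matrix.one_apply]
        exact if_congr ⟨fun h => Sigma.ext rfl (heq_of_eq h), fun h => eq_of_heq (Sigma.mk.inj h).2⟩ rfl rfl
      rw [key _ _ hij]
      exact if_congr σ.injective.eq_iff rfl rfl
    · rw [hoff _ _ hij, if_neg (fun h => hij (by rw [h]))]
      rfl
  · rw [hoff _ _ hi, Matrix.zero_mul]
    split_ifs <;> rfl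

/-- Systems conjugate over a field extension are conjugate. -/
theorem exists_conj {K : Type u} [Field K] [Algebra F K] {P Q : κ → Matrix (Fin m) (Fin m) F}
    (hP : (∀ a b, P a * P b = if a = b then P a else 0) ∧ ∑ a, P a = 1)
    (hQ : (∀ a b, Q a * Q b = if a = b then Q a else 0) ∧ ∑ a, Q a = 1)
    (g : Matrix (Fin m) (Fin m) K) (hg : IsUnit g.det)
    (h : ∀ a, g * (P a).map (algebraMap F K) * g⁻¹ = (Q a).map (algebraMap F K)) :
    ∃ g₀ : Matrix (Fin m) (Fin m) F, IsUnit g₀.det ∧ ∀ a, g₀ * P a * g₀⁻¹ = Q a := by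
  classical
  obtain ⟨f, u, hu, hf⟩ := exists_diag_conj hP
  obtain ⟨f', v, hv, hf'⟩ := exists_diag_conj hQ
  have hrank : ∀ a, Fintype.card {i // f i = a} = Fintype.card {i // f' i = a} := by
    intro a
    have hmap : ∀ w : Matrix (Fin m) (Fin m) F, IsUnit w.det → IsUnit (w.map (algebraMap F K)).det := fun w hw => by
      rw [← RingHom.mapMatrix_apply, ← RingHom.map_det]
      exact hw.map _
    have hinv : ∀ w : Matrix (Fin m) (Fin m) F, IsUnit w.det → IsUnit (w⁻¹).det := fun w hw => by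
      rw [Matrix.det_nonsing_inv]; exact hw.ringInverse
    have r1 : ((P a).map (algebraMap F K)).rank = Fintype.card {i // f i = a} := by
      have e := congrArg (fun w : Matrix (Fin m) (Fin m) F => w.map (algebraMap F K)) (hf a)
      simp only [Matrix.map_mul] at e
      rw [← Matrix.rank_mul_eq_right_of_isUnit_det _ _ (hmap u hu),
        ← Matrix.rank_mul_eq_left_of_isUnit_det _ _ (hmap _ (hinv u hu)), e,
        Matrix.diagonal_map (map_zero _), Matrix.rank_diagonal]
      exact Fintype.card_congr (Equiv.subtypeEquivRight fun i => by simp [Function.comp])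
    have r2 : ((Q a).map (algebraMap F K)).rank = Fintype.card {i // f' i = a} := by
      have e := congrArg (fun w : Matrix (Fin m) (Fin m) F => w.map (algebraMap F K)) (hf' a)
      simp only [Matrix.map_mul] at e
      rw [← Matrix.rank_mul_eq_right_of_isUnit_det _ _ (hmap v hv),
        ← Matrix.rank_mul_eq_left_of_isUnit_det _ _ (hmap _ (hinv v hv)), e,
        Matrix.diagonal_map (map_zero _), Matrix.rank_diagonal]
      exact Fintype.card_congr (Equiv.subtypeEquivRight fun i => by simp [Function.comp])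
    rw [← r1, ← r2, ← h a, Matrix.rank_mul_eq_left_of_isUnit_det _ _ (by
      rw [Matrix.det_nonsing_inv]; exact hg.ringInverse), Matrix.rank_mul_eq_right_of_isUnit_det _ _ hg]
  let π : Fin m ≃ Fin m := ((Equiv.sigmaFiberEquiv f').symm.trans
    (Equiv.sigmaCongrRight fun a => Fintype.equivOfCardEq (hrank a).symm)).trans (Equiv.sigmaFiberEquiv f)
  have hπ : ∀ i, f (π i) = f' i := fun i =>
    (Fintype.equivOfCardEq (hrank (f' i)).symm ⟨i, rfl⟩).2
  let w : Matrix (Fin m) (Fin m) F := (1 : Matrix (Fin m) (Fin m) F).submatrix π id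
  have hw : IsUnit w.det := Matrix.isUnit_det_of_right_inverse (B := (1 : Matrix (Fin m) (Fin m) F).submatrix id π) (by
    show (1 : Matrix (Fin m) (Fin m) F).submatrix π id * _ = 1
    rw [← Matrix.submatrix_mul _ _ π id π Function.bijective_id, Matrix.one_mul]
    exact Matrix.submatrix_one_equiv π)
  have hwd : ∀ a, w * (Matrix.diagonal fun i => if f i = a then (1 : F) else 0) * w⁻¹ =
      Matrix.diagonal fun i => if f' i = a then 1 else 0 := fun a => by
    have e : w * (Matrix.diagonal fun i => if f i = a then (1 : F) else 0) =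
        (Matrix.diagonal fun i => if f' i = a then 1 else 0) * w := by
      ext i j
      rw [Matrix.mul_diagonal, Matrix.diagonal_mul]
      simp only [w, Matrix.submatrix_apply, id_eq, Matrix.one_apply]
      by_cases hij : π i = j
      · subst hij
        rw [hπ, mul_comm]
      · rw [if_neg hij, zero_mul, mul_zero]
    rw [e, Matrix.mul_assoc, Matrix.mul_nonsing_inv _ hw, Matrix.mul_one]
  refine ⟨v⁻¹ * w * u, ?_, fun a => ?_⟩
  · rw [Matrix.det_mul, Matrix.det_mul, Matrix.det_nonsing_inv]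
    exact (hv.ringInverse.mul hw).mul hu
  · rw [Matrix.mul_inv_rev, Matrix.mul_inv_rev, Matrix.nonsing_inv_nonsing_inv _ hv]
    calc v⁻¹ * w * u * P a * (u⁻¹ * (w⁻¹ * v)) = v⁻¹ * (w * (u * P a * u⁻¹) * w⁻¹) * v := by
          simp only [Matrix.mul_assoc]
      _ = v⁻¹ * (v * Q a * v⁻¹) * v := by rw [hf, hwd, ← hf']
      _ = Q a := by
          rw [← Matrix.mul_assoc, ← Matrix.mul_assoc, Matrix.nonsing_inv_mul _ hv, Matrix.one_mul,
            Matrix.mul_assoc, Matrix.nonsing_inv_mul _ hv, Matrix.mul_one]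

end LinearAlgebra

end Groth.Agent.GrpScheme.DiagRepTools
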