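import Groth.Agent.GrpScheme.FrobKernel
import Groth.Agent.CurveDVR.Stalk
import Groth.Agent.GrpScheme.HomFlat

/-!
# Multiplication by a power of the characteristic kills the kernel of the iterated Frobenius

For a smooth commutative group scheme over a field of characteristic `p`, a point with values in a
local algebra which kills the `p ^ n`-th powers of the maximal ideal at the unit is killed by `p ^ n`.
-/

set_option autoImplicit false

universe u

open CategoryTheory MonoidalCategory CartesianMonoidalCategory MonObj GrpObj AlgebraicGeometry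
  Limits IsLocalRing

namespace Groth.Agent.GrpScheme.FrobFactor67

open Cartier Tangent TruncPoly FrobKernel

/-- The kernel of a surjection to truncated polynomials is generated by `p`-th powers. -/
theorem ker_le_span_pow {K R : Type u} [Field K] [CommRing R] [Algebra K R] {g p : ℕ} [Fact p.Prime]
    [CharP K p] (m : Ideal R) (e : R →ₐ[K] K) (he : ∀ a, a - algebraMap K R (e a) ∈ m)
    (x : Fin g → R) (hx : m = Ideal.span (Set.range x)) (ψ : R →ₐ[K] Tr K g p)
    (hψ : Function.Surjective ψ) (hm : ∀ a ∈ m, aug0 (ψ a) = 0) :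
    ∀ a, ψ a = 0 → a ∈ Ideal.span ((fun b => b ^ p) '' (m : Set R)) := by
  classical
  have hp := (Fact.out : p.Prime)
  have : CharP (Tr K g p) p := charP_of_injective_algebraMap (algebraMap K (Tr K g p)).injective p
  have : Module.Finite K (Tr K g p) := TruncPoly.finite hp.pos
  set P := Ideal.span ((fun b => b ^ p) '' (m : Set R)) with hP
  have hzero : ∀ c : Tr K g p, aug0 c = 0 → c ^ p = 0 := by
    intro c hc
    obtain ⟨f, rfl⟩ := TruncPoly.mk_surjective c
    have hf : f ∈ Ideal.span (MvPolynomial.X '' (Set.univ : Set (Fin g)) : Set (MvPolynomial (Fin g) K)) := by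
      rw [MvPolynomial.mem_ideal_span_X_image]
      intro d hd
      by_contra hn
      have hd0 : d = 0 := Finsupp.ext fun i => by
        by_contra hi
        exact hn ⟨i, trivial, hi⟩
      subst hd0
      refine MvPolynomial.mem_support_iff.mp hd ?_
      have : MvPolynomial.aeval (fun _ : Fin g => (0 : K)) f = 0 := hc
      simpa [MvPolynomial.aeval_zero', MvPolynomial.constantCoeff_eq] using this
    let φ : MvPolynomial (Fin g) K →+* Tr K g p :=
      (frobenius (Tr K g p) p).comp (TruncPoly.mk (p := p)).toRingHom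
    have hle : Ideal.span (MvPolynomial.X '' (Set.univ : Set (Fin g)) : Set (MvPolynomial (Fin g) K)) ≤
        RingHom.ker φ := by
      refine Ideal.span_le.mpr ?_
      rintro _ ⟨j, -, rfl⟩
      show (TruncPoly.mk (MvPolynomial.X j : MvPolynomial (Fin g) K) : Tr K g p) ^ p = 0
      rw [← map_pow]
      exact Ideal.Quotient.eq_zero_iff_mem.mpr (Ideal.subset_span ⟨j, rfl⟩)
    exact hle hf
  have hPker : ∀ a ∈ P, ψ a = 0 := fun a ha => by
    refine RingHom.mem_ker.mp (Ideal.span_le.mpr ?_ ha)
    rintro _ ⟨b, hb, rfl⟩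
    show ψ (b ^ p) = 0
    rw [map_pow]
    exact hzero _ (hm b hb)
  let ψQ : R ⧸ P →ₐ[K] Tr K g p := Ideal.Quotient.liftₐ P ψ hPker
  have hθ0 : ∀ f ∈ powIdeal K g p,
      MvPolynomial.aeval (fun i => Ideal.Quotient.mk P (x i)) f = 0 := by
    intro f hf
    refine RingHom.mem_ker.mp (Ideal.span_le.mpr ?_ hf)
    rintro _ ⟨j, rfl⟩
    show MvPolynomial.aeval _ ((MvPolynomial.X j : MvPolynomial (Fin g) K) ^ p) = 0
    rw [map_pow, MvPolynomial.aeval_X, ← map_pow]
    exact Ideal.Quotient.eq_zero_iff_mem.mpr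
      (Ideal.subset_span ⟨x j, hx.ge (Ideal.subset_span ⟨j, rfl⟩), rfl⟩)
  let θ : Tr K g p →ₐ[K] R ⧸ P := Ideal.Quotient.liftₐ _
    (MvPolynomial.aeval fun i => Ideal.Quotient.mk P (x i)) hθ0
  have hθX : ∀ i, θ (TruncPoly.mk (MvPolynomial.X i)) = Ideal.Quotient.mk P (x i) := fun i => by
    show MvPolynomial.aeval (fun i => Ideal.Quotient.mk P (x i)) (MvPolynomial.X i) = _
    simp
  let M := m.map (Ideal.Quotient.mk P)
  have hM : IsNilpotent M := by
    have hfg : M.FG := Ideal.FG.map (hx ▸ Submodule.fg_span (Set.finite_range x)) _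
    refine (Ideal.FG.isNilpotent_iff_le_nilradical hfg).mpr (Ideal.map_le_iff_le_comap.mpr fun b hb => ?_)
    refine Ideal.mem_comap.mpr (mem_nilradical.mpr ⟨p, ?_⟩)
    rw [← map_pow]
    exact Ideal.Quotient.eq_zero_iff_mem.mpr (Ideal.subset_span ⟨b, hb, rfl⟩)
  have hall : ∀ (n : ℕ) (a : R), ∃ t, Ideal.Quotient.mk P a - θ t ∈ M ^ n := by
    intro n
    induction n with
    | zero => exact fun a => ⟨0, by simp⟩
    | succ n ih =>
      intro a
      obtain ⟨c, hc⟩ := Ideal.mem_span_range_iff_exists_fun.mp (hx.le (he a))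
      choose t ht using fun i => ih (c i)
      refine ⟨algebraMap K _ (e a) + ∑ i, t i * TruncPoly.mk (MvPolynomial.X i), ?_⟩
      have e1 : Ideal.Quotient.mk P a = algebraMap K (R ⧸ P) (e a) +
          ∑ i, Ideal.Quotient.mk P (c i) * Ideal.Quotient.mk P (x i) := by
        conv_lhs => rw [show a = algebraMap K R (e a) + ∑ i, c i * x i by rw [hc]; ring]
        simp only [map_add, map_sum, map_mul]
        rfl
      simp only [map_add, map_sum, map_mul, AlgHom.commutes, hθX]
      rw [e1, add_sub_add_left_eq_sub, ← Finset.sum_sub_distrib, Submodule.pow_succ]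
      refine Ideal.sum_mem _ fun i _ => ?_
      rw [← sub_mul]
      exact Ideal.mul_mem_mul (ht i) (Ideal.mem_map_of_mem _ (hx.ge (Ideal.subset_span ⟨i, rfl⟩)))
  have hθs : Function.Surjective θ := by
    intro b
    obtain ⟨a, rfl⟩ := Ideal.Quotient.mk_surjective b
    obtain ⟨N, hN⟩ := hM
    obtain ⟨t, ht⟩ := hall N a
    rw [hN, Ideal.zero_eq_bot, Ideal.mem_bot, sub_eq_zero] at ht
    exact ⟨t, ht.symm⟩
  have hQs : Function.Surjective ψQ := fun c => by
    obtain ⟨a, rfl⟩ := hψ c
    exact ⟨Ideal.Quotient.mk P a, rfl⟩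
  have hinj : Function.Injective (ψQ.comp θ).toLinearMap :=
    LinearMap.injective_iff_surjective.mpr (hQs.comp hθs)
  intro a ha
  obtain ⟨t, ht⟩ := hθs (Ideal.Quotient.mk P a)
  have ht0 : t = 0 := hinj (by
    show ψQ (θ t) = (ψQ.comp θ).toLinearMap 0
    rw [ht, map_zero]
    exact ha)
  rw [ht0, map_zero] at ht
  exact Ideal.Quotient.eq_zero_iff_mem.mp ht.symm

variable {K : Type u} [Field K] (G : Over (Spec (CommRingCat.of K))) [GrpObj G]

/-- Morphisms agreeing on the spectra of all local rings are equal. -/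
theorem hom_ext_fromSpecStalk {T X : Scheme.{u}} (f g : T ⟶ X)
    (h : ∀ t, T.fromSpecStalk t ≫ f = T.fromSpecStalk t ≫ g) : f = g := by
  have hpt : ∀ t, f t = g t := fun t => by
    have := congrArg (fun m : Spec (T.presheaf.stalk t) ⟶ X => m (closedPoint (T.presheaf.stalk t))) (h t)
    refine Eq.trans ?_ ((this.trans (Scheme.Hom.comp_apply _ _ _)).trans
      (congrArg g Scheme.fromSpecStalk_closedPoint))
    exact (congrArg f (Scheme.fromSpecStalk_closedPoint).symm).trans (Scheme.Hom.comp_apply _ _ _).symm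
  refine Scheme.Hom.ext (TopCat.hom_ext (ContinuousMap.ext hpt)) fun U => ?_
  ext s
  refine TopCat.Presheaf.section_ext T.sheaf _ _ _ fun t ht => ?_
  have hst : X.presheaf.stalkSpecializes (specializes_of_eq (hpt t).symm) ≫ g.stalkMap t = f.stalkMap t := by
    apply Spec.map_injective
    rw [Spec.map_comp, ← cancel_mono (X.fromSpecStalk (f t)), Category.assoc,
      Scheme.SpecMap_stalkSpecializes_fromSpecStalk, Scheme.SpecMap_stalkMap_fromSpecStalk,
      Scheme.SpecMap_stalkMap_fromSpecStalk]
    exact (h t).symm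
  have hu : g t ∈ U := ht
  have hu' : f t ∈ U := (hpt t).symm ▸ hu
  have e1 := Scheme.Hom.germ_stalkMap g U t hu
  have e2 := Scheme.Hom.germ_stalkMap f U t hu'
  rw [← hst, TopCat.Presheaf.germ_stalkSpecializes_assoc, e1] at e2
  have e3 := congr($(e2) s)
  show T.presheaf.germ _ t ht ((T.presheaf.map _) ((f.app U) s)) = T.presheaf.germ _ t ht ((g.app U) s)
  rw [TopCat.Presheaf.germ_res_apply]
  exact e3.symm

variable (p : ℕ) [CharP K p] [Fact p.Prime]

/-- A smooth group scheme over a field has finite dimension. -/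
theorem exists_dim [Smooth G.hom] : ∃ g : ℕ, topologicalKrullDim G.left = g := by
  have hreg : IsRegularLocalRing (stalkUnit G) := CurveDVR.isRegularLocalRing_stalk G.hom (unitPt G)
  have : IsLocallyNoetherian G.left := LocallyOfFiniteType.isLocallyNoetherian G.hom
  have hcl : IsClosed ({unitPt G} : Set G.left) := by
    have := IdComponent.isSeparated G
    have : IsClosedImmersion η[G].left := by
      have : IsClosedImmersion (η[G].left ≫ G.hom) := by
        rw [Over.w η[G]]
        exact inferInstanceAs (IsClosedImmersion (𝟙 _))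
      exact IsClosedImmersion.of_comp η[G].left G.hom
    convert η[G].left.isClosedEmbedding.isClosedMap.isClosed_range
    refine Set.ext fun z => ⟨fun hz => ⟨closedPoint K, hz.symm⟩, ?_⟩
    rintro ⟨y, rfl⟩
    exact congrArg η[G].left (Subsingleton.elim (α := PrimeSpectrum K) _ _)
  refine ⟨(maximalIdeal (stalkUnit G)).spanFinrank, ?_⟩
  rw [← Dimension.coheight_eq_topologicalKrullDim G (unitPt G) hcl, hreg.spanFinrank_maximalIdeal]
  exact (ringKrullDim_stalk_eq_coheight (unitPt G)).symm

/-- The `p`-th power map sends the maximal ideal at the unit into its `p`-th powers. -/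
theorem endo_mem [IsCommMonObj G] [Smooth G.hom] {g : ℕ} (hg : topologicalKrullDim G.left = g)
    (hp : (𝟙 G ^ p).left (unitPt G) = unitPt G) {a : stalkUnit G}
    (ha : a ∈ maximalIdeal (stalkUnit G)) :
    endo G (𝟙 G ^ p) hp a ∈ Ideal.span ((fun b => b ^ p) '' (maximalIdeal (stalkUnit G) : Set (stalkUnit G))) := by
  obtain ⟨ψ, hψ⟩ := FrobKernel.exists_surjective G p hg
  have hreg : IsRegularLocalRing (stalkUnit G) := CurveDVR.isRegularLocalRing_stalk G.hom (unitPt G)
  have hcl : IsClosed ({unitPt G} : Set G.left) := by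
    have := IdComponent.isSeparated G
    have : IsClosedImmersion η[G].left := by
      have : IsClosedImmersion (η[G].left ≫ G.hom) := by
        rw [Over.w η[G]]
        exact inferInstanceAs (IsClosedImmersion (𝟙 _))
      exact IsClosedImmersion.of_comp η[G].left G.hom
    convert η[G].left.isClosedEmbedding.isClosedMap.isClosed_range
    refine Set.ext fun z => ⟨fun hz => ⟨closedPoint K, hz.symm⟩, ?_⟩
    rintro ⟨y, rfl⟩
    exact congrArg η[G].left (Subsingleton.elim (α := PrimeSpectrum K) _ _)
  have hdim : ringKrullDim (stalkUnit G) = (g : WithBot ℕ∞) := by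
    rw [← hg, ← Dimension.coheight_eq_topologicalKrullDim G (unitPt G) hcl]
    exact ringKrullDim_stalk_eq_coheight (unitPt G)
  have hsp : (maximalIdeal (stalkUnit G)).spanFinrank = g := by
    have := hreg.spanFinrank_maximalIdeal
    rw [hdim] at this
    exact_mod_cast this
  have hfg : (maximalIdeal (stalkUnit G)).FG := IsNoetherian.noetherian _
  obtain ⟨s, hcard, hs⟩ := Submodule.FG.exists_span_finset_card_eq_spanFinrank hfg
  rw [hsp] at hcard
  have hx : maximalIdeal (stalkUnit G) =
      Ideal.span (Set.range fun i => ((s.equivFinOfCardEq hcard).symm i : stalkUnit G)) := by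
    rw [← hs]
    congr 1
    ext z
    simp only [Finset.mem_coe, Set.mem_range]
    exact ⟨fun hz => ⟨s.equivFinOfCardEq hcard ⟨z, hz⟩, by simp⟩, fun ⟨i, hi⟩ => hi ▸ Subtype.prop _⟩
  have haug : ∀ c, aug0 (ψ c) = aug G c := fun c => AlgHom.congr_fun (eq_aug G (aug0.comp ψ)) c
  refine ker_le_span_pow (maximalIdeal (stalkUnit G)) (aug G) (sub_aug_mem G) _ hx ψ hψ
    (fun b hb => (haug b).trans ((mem_maximalIdeal_iff G b).mp hb)) _ ?_
  have h1 := pt_pow_char_eq_one G p hp ψ
  rw [← pt_trivial, show pt G ψ ^ p = pt G (ψ.comp (endo G (𝟙 G ^ p) hp)) by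
    rw [← pt_comp, MonObj.comp_pow, Category.comp_id]] at h1
  have h2 := AlgHom.congr_fun (pt_injective G h1) a
  simpa [(mem_maximalIdeal_iff G a).mp ha] using h2

/-- A local point killing the `p ^ n`-th powers of the maximal ideal at the unit is killed by `p ^ n`. -/
theorem pt_pow_eq_one [IsCommMonObj G] [Smooth G.hom] {g : ℕ} (hg : topologicalKrullDim G.left = g)
    (hp : (𝟙 G ^ p).left (unitPt G) = unitPt G) {B : Type u} [CommRing B] [Nontrivial B] [Algebra K B] (n : ℕ)
    (φ : stalkUnit G →ₐ[K] B) (hφ : ∀ a ∈ maximalIdeal (stalkUnit G), φ a ^ p ^ n = 0) :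
    pt G φ ^ p ^ n = 1 := by
  induction n generalizing φ with
  | zero =>
    rw [pow_zero, _root_.pow_one, ← pt_trivial]
    congr 1
    refine AlgHom.ext fun a => ?_
    have := hφ _ (sub_aug_mem G a)
    rw [pow_zero, _root_.pow_one, map_sub, AlgHom.commutes, sub_eq_zero] at this
    exact this
  | succ n ih =>
    rw [pow_succ', pow_mul, show pt G φ ^ p = pt G (φ.comp (endo G (𝟙 G ^ p) hp)) by
      rw [← pt_comp, MonObj.comp_pow, Category.comp_id]]
    refine ih _ fun a ha => ?_
    have : CharP B p := charP_of_injective_algebraMap (algebraMap K B).injective p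
    have hle : Ideal.span ((fun b => b ^ p) '' (maximalIdeal (stalkUnit G) : Set (stalkUnit G))) ≤
        RingHom.ker ((iterateFrobenius B p n).comp φ.toRingHom) := by
      refine Ideal.span_le.mpr ?_
      rintro _ ⟨b, hb, rfl⟩
      show φ (b ^ p) ^ p ^ n = 0
      rw [map_pow, ← pow_mul, ← pow_succ']
      exact hφ b hb
    exact hle (endo_mem G p hg hp ha)

end Groth.Agent.GrpScheme.FrobFactor67
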