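import Groth.Prelude.Def_FrameBundle
import Groth.Agent.SekLib.SpecPts

/-!
# Points of `GL_n` as invertible matrices

A morphism `T ⟶ GL_{n,S}` amounts to a matrix of functions on `T` with invertible determinant,
and the product of points is the matrix product.
-/

set_option autoImplicit false

universe u

open CategoryTheory MonoidalCategory CartesianMonoidalCategory MonObj AlgebraicGeometry Limits
open Groth.Agent.SekLib

namespace Groth.Agent.GrpScheme.GLnPts

variable {S : Scheme.{u}} {n : ℕ}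

attribute [local instance] secAlgebra

/-- The structure map to the base. -/
noncomputable abbrev base (S : Scheme.{u}) : S ⟶ Spec (CommRingCat.of (ULift.{u} ℤ)) :=
  IsTerminal.from specULiftZIsTerminal S

/-- A point as a point over the base. -/
noncomputable abbrev pt₀ {T : Over S} (z : T ⟶ FrB.GLn n S) :
    (Over.map (base S)).obj T ⟶ FrB.GLZ n :=
  ((Over.mapPullbackAdj (base S)).homEquiv T _).symm z

/-- The matrix of a point over `ℤ`. -/
noncomputable def matZ {T : Over (Spec (CommRingCat.of (ULift.{u} ℤ)))} (x : T ⟶ FrB.GLZ n) :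
    Matrix (Fin n) (Fin n) Γ(T.left, ⊤) :=
  Matrix.of fun i j => ptHom x (CoordGrp.GLn.X i j)

lemma ptHom_det {T : Over (Spec (CommRingCat.of (ULift.{u} ℤ)))} (x : T ⟶ FrB.GLZ n) :
    ptHom x CoordGrp.GLn.det = (matZ x).det := by
  rw [CoordGrp.GLn.det_eq, AlgHom.map_det]
  rfl

lemma isUnit_det_matZ {T : Over (Spec (CommRingCat.of (ULift.{u} ℤ)))} (x : T ⟶ FrB.GLZ n) :
    IsUnit (matZ x).det := by
  rw [← ptHom_det]
  exact (IsUnit.of_mul_eq_one _ CoordGrp.GLn.det_mul_Dinv).map _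

lemma matZ_injective {T : Over (Spec (CommRingCat.of (ULift.{u} ℤ)))} {x y : T ⟶ FrB.GLZ n}
    (h : matZ x = matZ y) : x = y := by
  refine ptHom_injective (CoordGrp.GLn.algHom_ext (fun i j => congrFun (congrFun h i) j) ?_)
  refine (isUnit_det_matZ x).mul_left_cancel ?_
  have key : ∀ w : T ⟶ FrB.GLZ n, (matZ w).det * ptHom w CoordGrp.GLn.Dinv = 1 := fun w => by
    rw [← ptHom_det, ← map_mul, CoordGrp.GLn.det_mul_Dinv, map_one]
  have k' := key y
  rw [← h] at k'
  exact (key x).trans k'.symm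

lemma exists_matZ_eq {T : Over (Spec (CommRingCat.of (ULift.{u} ℤ)))}
    (M : Matrix (Fin n) (Fin n) Γ(T.left, ⊤)) (hM : IsUnit M.det) :
    ∃ x : T ⟶ FrB.GLZ n, matZ x = M := by
  obtain ⟨d, hd⟩ := hM.exists_right_inv
  obtain ⟨x, hx⟩ := exists_ptHom_eq (T := T) (CoordGrp.GLn.pt n (ULift.{u} ℤ) M d hd)
  refine ⟨x, Matrix.ext fun i j => ?_⟩
  show ptHom x _ = _
  rw [hx]
  exact CoordGrp.GLn.pt_X M d hd i j

/-- The matrix of a point. -/
noncomputable def mat {T : Over S} (z : T ⟶ FrB.GLn n S) : Matrix (Fin n) (Fin n) Γ(T.left, ⊤) :=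
  matZ (pt₀ z)

lemma isUnit_det_mat {T : Over S} (z : T ⟶ FrB.GLn n S) : IsUnit (mat z).det :=
  isUnit_det_matZ (pt₀ z)

/-- A point is determined by its matrix. -/
lemma mat_injective {T : Over S} {z z' : T ⟶ FrB.GLn n S} (h : mat z = mat z') : z = z' :=
  ((Over.mapPullbackAdj (base S)).homEquiv T _).symm.injective (matZ_injective h)

/-- Every invertible matrix of functions is the matrix of a point. -/
lemma exists_mat_eq {T : Over S} (M : Matrix (Fin n) (Fin n) Γ(T.left, ⊤)) (hM : IsUnit M.det) :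
    ∃ z : T ⟶ FrB.GLn n S, mat z = M := by
  obtain ⟨x, hx⟩ := exists_matZ_eq (T := (Over.map (base S)).obj T) M hM
  refine ⟨(Over.mapPullbackAdj (base S)).homEquiv T _ x, ?_⟩
  rw [mat, pt₀, Equiv.symm_apply_apply]
  exact hx

/-- Matrices are natural. -/
lemma mat_comp {T T' : Over S} (k : T' ⟶ T) (z : T ⟶ FrB.GLn n S) :
    mat (k ≫ z) = (mat z).map k.left.appTop := by
  rw [mat, pt₀, Adjunction.homEquiv_naturality_left_symm]
  refine Matrix.ext fun i j => ?_
  exact ptHom_comp_left ((Over.map (base S)).map k) (pt₀ z) _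

/-- Products of points of `GL_n` over `ℤ` are matrix products. -/
lemma ptHom_mul {T : Over (Spec (CommRingCat.of (ULift.{u} ℤ)))} (a b : T ⟶ FrB.GLZ n) (i j : Fin n) :
    ptHom (a * b) (CoordGrp.GLn.X i j) =
      ∑ l, ptHom a (CoordGrp.GLn.X i l) * ptHom b (CoordGrp.GLn.X l j) := by
  obtain ⟨q, hq⟩ := exists_ptHom_eq (T := T) (A := Γ(T.left, ⊤)) (AlgHom.id _ _)
  have hfac : ∀ c : T ⟶ FrB.GLZ n, c = q ≫ Spec.mapMulEquiv (WithConv.toConv (ptHom c)) := by
    intro c
    refine ptHom_injective ?_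
    rw [ptHom_comp q (ptHom c) _ rfl, hq]
    rfl
  conv_lhs => rw [hfac a, hfac b, ← MonObj.comp_mul, ← map_mul, ptHom_comp q _ _ rfl, hq]
  show (WithConv.toConv (ptHom a) * WithConv.toConv (ptHom b)) (CoordGrp.GLn.X i j) = _
  rw [AlgHom.convMul_apply, CoordGrp.GLn.comul_X, map_sum]
  rfl

/-- The matrix of a product is the product of the matrices. -/
lemma mat_mul {T : Over S} (z z' : T ⟶ FrB.GLn n S) : mat (z * z') = mat z * mat z' := by
  have h : pt₀ (z * z') = pt₀ z * pt₀ z' := by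
    apply ((Over.mapPullbackAdj (base S)).homEquiv T _).injective
    rw [pt₀, Equiv.apply_symm_apply, Adjunction.homEquiv_unit, Functor.map_mul, MonObj.comp_mul,
      ← Adjunction.homEquiv_unit, ← Adjunction.homEquiv_unit, pt₀, pt₀, Equiv.apply_symm_apply,
      Equiv.apply_symm_apply]
  refine Matrix.ext fun i j => ?_
  rw [mat, h]
  exact ptHom_mul (pt₀ z) (pt₀ z') i j

/-- The matrix of the trivial point. -/
lemma mat_one (T : Over S) : mat (1 : T ⟶ FrB.GLn n S) = 1 := by
  have h := mat_mul (1 : T ⟶ FrB.GLn n S) 1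
  rw [_root_.mul_one] at h
  have hu : IsUnit (mat (1 : T ⟶ FrB.GLn n S)) :=
    (Matrix.isUnit_iff_isUnit_det _).2 (isUnit_det_mat _)
  exact hu.mul_left_cancel (h.symm.trans (_root_.mul_one _).symm)

end Groth.Agent.GrpScheme.GLnPts
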