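import Groth.Agent.RedPts.Basic
import Mathlib.RingTheory.Polynomial.Basic
import Mathlib.Algebra.Polynomial.Bivariate

/-!
# Group laws on the affine line over a field with given identity are unique
-/

set_option autoImplicit false

universe u

open CategoryTheory MonoidalCategory CartesianMonoidalCategory MonObj GrpObj AlgebraicGeometry
open Polynomial

namespace Groth.Agent.GrpScheme.GaLaw

variable {k : Type u} [Field k]

local notation "kS" => Spec (CommRingCat.of k)
local notation "G" => Red.Ga (Spec (CommRingCat.of k))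

/-- The affine scheme of a `k`-algebra. -/
noncomputable def sp (k : Type u) [Field k] (A : Type u) [CommRing A] [Algebra k A] :
    Over (Spec (CommRingCat.of k)) :=
  Over.mk (Spec.map (CommRingCat.ofHom (algebraMap k A)))

/-- The coordinate of an `A`-valued point. -/
noncomputable def val {A : Type u} [CommRing A] [Algebra k A] (x : sp k A ⟶ Red.Ga kS) : A :=
  (Scheme.ΓSpecIso (CommRingCat.of A)).hom (Red.gaFn x)

/-- The morphism of an algebra homomorphism. -/
noncomputable def spMap {A B : Type u} [CommRing A] [CommRing B] [Algebra k A] [Algebra k B]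
    (φ : A →ₐ[k] B) : sp k B ⟶ sp k A :=
  Over.homMk (Spec.map (CommRingCat.ofHom φ.toRingHom)) (by
    show Spec.map _ ≫ Spec.map _ = Spec.map _
    rw [← Spec.map_comp, ← CommRingCat.ofHom_comp]
    exact congrArg (fun q => Spec.map (CommRingCat.ofHom q)) φ.comp_algebraMap)

lemma val_comp {A B : Type u} [CommRing A] [CommRing B] [Algebra k A] [Algebra k B] (φ : A →ₐ[k] B)
    (x : sp k A ⟶ Red.Ga kS) : val (spMap φ ≫ x) = φ (val x) := by
  rw [val, val, RedPts.ga_comp]
  exact congr($(Scheme.ΓSpecIso_naturality (CommRingCat.ofHom φ.toRingHom)) (Red.gaFn x))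

lemma val_injective {A : Type u} [CommRing A] [Algebra k A] :
    Function.Injective (val (k := k) (A := A)) := fun _ _ h =>
  RedPts.ga_injective ((ConcreteCategory.bijective_of_isIso
    (Scheme.ΓSpecIso (CommRingCat.of A)).hom).injective h)

lemma val_surjective {A : Type u} [CommRing A] [Algebra k A] (a : A) :
    ∃ x : sp k A ⟶ Red.Ga kS, val x = a := by
  obtain ⟨x, hx⟩ := RedPts.ga_surjective (S := kS) (X := sp k A)
    ((Scheme.ΓSpecIso (CommRingCat.of A)).inv a)
  refine ⟨x, ?_⟩
  rw [val, hx]
  exact congr($((Scheme.ΓSpecIso (CommRingCat.of A)).inv_hom_id) a)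

/-- A group law on the affine line adds coordinates relative to its identity. -/
theorem val_mul (h : GrpObj (Red.Ga kS)) (c : k) (A : Type u) [CommRing A] [Algebra k A]
    (hc : val (k := k) (A := k) (toUnit _ ≫ h.one) = c)
    (x y : sp k A ⟶ Red.Ga kS) :
    val (lift x y ≫ h.mul) = val x + val y - algebraMap k A c := by
  let : GrpObj (Red.Ga kS) := h
  show val (lift x y ≫ μ[G]) = _
  have hone : ∀ (B : Type u) [CommRing B] [Algebra k B],
      val (1 : sp k B ⟶ Red.Ga kS) = algebraMap k B c := by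
    intro B _ _
    rw [show (1 : sp k B ⟶ Red.Ga kS) = spMap (Algebra.ofId k B) ≫ (toUnit _ ≫ η[G]) by
      rw [comp_toUnit_assoc, Hom.one_def], val_comp]
    exact congrArg (algebraMap k B) hc
  -- the universal pair
  obtain ⟨Px, hPx⟩ := val_surjective (k := k) (X : k[X][X])
  obtain ⟨Py, hPy⟩ := val_surjective (k := k) (C X : k[X][X])
  let m := val (Px * Py)
  let n := val (Px * Py⁻¹)
  let sub : k[X][X] → (k[X][X] →ₐ[k] k[X][X]) := fun q => (aeval q).restrictScalars k
  have hsub : ∀ q p, sub q p = p.comp q := fun q p => rfl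
  have hsubx : ∀ q (z : sp k k[X][X] ⟶ Red.Ga kS), val z = X → val (spMap (sub q) ≫ z) = q := by
    intro q z hz
    rw [val_comp, hz, hsub, X_comp]
  have hsuby : ∀ q, spMap (sub q) ≫ Py = Py := by
    intro q
    apply val_injective
    rw [val_comp, hPy, hsub, C_comp]
  have hcomp : m.comp n = X := by
    have e : spMap (sub n) ≫ (Px * Py) = Px := by
      rw [MonObj.comp_mul, hsuby, show spMap (sub n) ≫ Px = Px * Py⁻¹ from
        val_injective (hsubx n Px hPx)]
      exact inv_mul_cancel_right _ _
    rw [← hsub]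
    exact ((val_comp (sub n) (Px * Py)).symm.trans (congrArg val e)).trans hPx
  have hm0 : m.comp (C (C c)) = C X := by
    have e : spMap (sub (C (C c))) ≫ (Px * Py) = Py := by
      rw [MonObj.comp_mul, hsuby, show spMap (sub (C (C c))) ≫ Px = 1 from
        val_injective ((hsubx _ Px hPx).trans (hone k[X][X]).symm), _root_.one_mul]
    rw [← hsub]
    exact ((val_comp _ (Px * Py)).symm.trans (congrArg val e)).trans hPy
  -- the degree in the first variable
  have hdeg : m.natDegree = 1 := by
    have := natDegree_comp (p := m) (q := n)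
    rw [hcomp, natDegree_X] at this
    exact Nat.eq_one_of_mul_eq_one_right this.symm
  obtain ⟨a, b, hm⟩ : ∃ a b : k[X], m = C a * X + C b :=
    ⟨_, _, eq_X_add_C_of_natDegree_le_one hdeg.le⟩
  have hau : IsUnit a := by
    have hn : n.natDegree = 1 := by
      have := natDegree_comp (p := m) (q := n)
      rw [hcomp, natDegree_X, hdeg, _root_.one_mul] at this
      exact this.symm
    have := congrArg (fun q : k[X][X] => q.coeff 1) hcomp
    simp [hm, coeff_C] at this
    exact IsUnit.of_mul_eq_one _ this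
  obtain ⟨a₀, rfl⟩ : ∃ a₀, C a₀ = a := ⟨_, (eq_C_of_natDegree_eq_zero
    (natDegree_eq_zero_of_isUnit hau)).symm⟩
  have hb : b = X - C (a₀ * c) := by
    rw [hm, add_comp, Polynomial.mul_comp, C_comp, X_comp, C_comp, ← C_mul, ← C_add, C_inj, ← C_mul] at hm0
    exact eq_sub_of_add_eq' hm0
  -- specialise the second variable at the identity
  have hm1 : a₀ = 1 := by
    let ev : k[X][X] →ₐ[k] k[X] := Polynomial.mapAlgHom (Polynomial.aeval c : k[X] →ₐ[k] k)
    have hev : ∀ p, ev p = p.map (Polynomial.aeval c : k[X] →ₐ[k] k).toRingHom := fun p => rfl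
    have e : spMap ev ≫ (Px * Py) = spMap ev ≫ Px := by
      rw [MonObj.comp_mul, show spMap ev ≫ Py = 1 from val_injective (by
        rw [hone, val_comp, hPy, hev, Polynomial.map_C]
        simp), _root_.mul_one]
    have h1 := congrArg val e
    rw [val_comp, val_comp, show val (Px * Py) = m from rfl, hm, hPx, hev, hev] at h1
    have h2 := congrArg (fun q : k[X] => q.coeff 1) h1
    simpa [coeff_C] using h2
  subst hm1
  -- the general pair
  obtain ⟨ψ, hψX, hψY⟩ : ∃ ψ : k[X][X] →ₐ[k] A, ψ X = val x ∧ ψ (C X) = val y :=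
    ⟨Polynomial.aevalAeval (val y) (val x) |>.comp (AlgEquiv.refl (R := k)).toAlgHom, by simp, by simp⟩
  have ex : spMap ψ ≫ Px = x := val_injective (by rw [val_comp, hPx, hψX])
  have ey : spMap ψ ≫ Py = y := val_injective (by rw [val_comp, hPy, hψY])
  rw [← Hom.mul_def, ← ex, ← ey, ← MonObj.comp_mul, val_comp, val_comp, val_comp,
    show val (Px * Py) = m from rfl, hm, hb, _root_.one_mul, map_add, map_mul, hPx, hPy, hψX, hψY]
  have : ψ (C (X - C c)) = val y - algebraMap k A c := by
    rw [map_sub C, map_sub, hψY]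
    exact congrArg _ (ψ.commutes c)
  rw [this]
  simp
  ring

/-- Two group laws on the affine line with the same identity agree. -/
theorem mul_eq (h₁ h₂ : GrpObj (Red.Ga kS)) (e : h₁.one = h₂.one) : h₁.mul = h₂.mul := by
  let A := Γ((Red.Ga kS ⊗ Red.Ga kS).left, ⊤)
  let ρ : k →+* A := ((Scheme.ΓSpecIso (CommRingCat.of k)).inv ≫ (Red.Ga kS ⊗ Red.Ga kS).hom.appTop).hom
  let : Algebra k A := ρ.toAlgebra
  let s : Red.Ga kS ⊗ Red.Ga kS ⟶ sp k A :=
    Over.homMk (Red.Ga kS ⊗ Red.Ga kS).left.toSpecΓ (by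
      show _ ≫ Spec.map _ = _
      rw [show CommRingCat.ofHom (algebraMap k A) =
        (Scheme.ΓSpecIso (CommRingCat.of k)).inv ≫ (Red.Ga kS ⊗ Red.Ga kS).hom.appTop from rfl,
        Spec.map_comp, ← Scheme.toSpecΓ_naturality_assoc, toSpecΓ_SpecMap_ΓSpecIso_inv,
        Category.comp_id])
  have hs : ∀ z : sp k A ⟶ Red.Ga kS, Red.gaFn (s ≫ z) = val z := by
    intro z
    rw [RedPts.ga_comp, val]
    exact congr($(Scheme.toSpecΓ_appTop (Red.Ga kS ⊗ Red.Ga kS).left) (Red.gaFn z))
  obtain ⟨x, hx⟩ := val_surjective (k := k) (A := A) (Red.gaFn (fst (Red.Ga kS) (Red.Ga kS)))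
  obtain ⟨y, hy⟩ := val_surjective (k := k) (A := A) (Red.gaFn (snd (Red.Ga kS) (Red.Ga kS)))
  have hxy : s ≫ lift x y = 𝟙 _ := by
    refine CartesianMonoidalCategory.hom_ext _ _ ?_ ?_
    · rw [Category.assoc, lift_fst, Category.id_comp]
      exact RedPts.ga_injective ((hs x).trans hx)
    · rw [Category.assoc, lift_snd, Category.id_comp]
      exact RedPts.ga_injective ((hs y).trans hy)
  rw [← Category.id_comp h₁.mul, ← Category.id_comp h₂.mul, ← hxy, Category.assoc, Category.assoc]
  congr 1
  apply val_injective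
  rw [val_mul h₁ _ A rfl, val_mul h₂ _ A rfl, e]

end Groth.Agent.GrpScheme.GaLaw
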