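import Groth.Agent.GrpScheme.AntiAffine
import Groth.Agent.GrpScheme.GlobalSections
import Groth.Agent.GrpScheme.KernelPair
import Groth.Agent.GrpdLib.RingGrpdChi
import Mathlib.AlgebraicGeometry.Morphisms.Finite
import Mathlib.LinearAlgebra.Matrix.Polynomial

/-!
# Functions on an isogenous group

For a faithfully flat homomorphism `q : G ⟶ H` of group schemes over a field with finite kernel,
`Γ(G)` is integral over `Γ(H)`: a function is a root of its rank-corrected characteristic
polynomial for the finite free groupoid `G ⊗ N ⇉ G`, whose coefficients are invariant.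
-/

set_option autoImplicit false

universe u

open CategoryTheory MonoidalCategory CartesianMonoidalCategory MonObj GrpObj AlgebraicGeometry
  Limits Polynomial

namespace Groth.Agent.GrpScheme.IsogenyFunctions

variable {K : Type u} [Field K] {N G H : Over (Spec (CommRingCat.of K))}

/-- Functions on `X ⊗ N` are those on `X` tensored with those on `N`, relatively in `X`. -/
lemma isPushout_whiskerRight {X' X : Over (Spec (CommRingCat.of K))} (h : X' ⟶ X) [CompactSpace X.left]
    [QuasiSeparated X.hom] [CompactSpace X'.left] [QuasiSeparated X'.hom] [CompactSpace N.left]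
    [QuasiSeparated N.hom] :
    IsPushout h.left.appTop (fst X N).left.appTop (fst X' N).left.appTop (h ▷ N).left.appTop := by
  have htop := QuasiAffine.isPushout_tensor X N
  have h' := QuasiAffine.isPushout_tensor X' N
  rw [← Over.w h, Scheme.Hom.comp_appTop, ← whiskerRight_snd h N, Over.comp_left,
    Scheme.Hom.comp_appTop] at h'
  refine IsPushout.of_left h' ?_ htop
  rw [← Scheme.Hom.comp_appTop, ← Scheme.Hom.comp_appTop, ← Over.comp_left, ← Over.comp_left,
    whiskerRight_fst]

/-- Monicity of the rank-corrected characteristic polynomial in constant rank. -/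
lemma monic_chi {A B : Type u} [CommRing A] [CommRing B] {σ : A →+* B} (P : GrpdLib.Pres σ)
    (h : P.chi 0 = X ^ P.n) (x : B) : (P.chi x).Monic := by
  have key : ∀ y : B, (P.chi y).coeff P.n = (P.mat 1).det ∧ (P.chi y).natDegree ≤ P.n := by
    intro y
    have e : P.chi y = ((X : A[X]) • (P.mat 1).map C + (1 - P.mat y - P.mat 1).map C).det := by
      rw [GrpdLib.Pres.chi]
      congr 1
      refine Matrix.ext fun j k => ?_
      rcases eq_or_ne j k with rfl | hjk <;> simp [*] <;> ring
    refine ⟨?_, ?_⟩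
    · rw [e]
      simpa using coeff_det_X_add_C_card (P.mat 1) (1 - P.mat y - P.mat 1)
    · rw [e]
      simpa using natDegree_det_X_add_C_le (P.mat 1) (1 - P.mat y - P.mat 1)
  have hdet : (P.mat 1).det = 1 := by
    rw [← (key 0).1, h, coeff_X_pow, if_pos rfl]
  exact monic_of_natDegree_le_of_coeff_eq_one P.n (key x).2 ((key x).1.trans hdet)

variable [GrpObj N] [GrpObj G] [GrpObj H] (i : N ⟶ G) [IsMonHom i] (q : G ⟶ H) [IsMonHom q]

/-- The translation `(g, n) ↦ g * i n`. -/
noncomputable abbrev tr : G ⊗ N ⟶ G := fst G N * (snd G N ≫ i)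

/-- Composition of arrows `((g, n), n') ↦ (g, n * n')`. -/
noncomputable abbrev comp : (G ⊗ N) ⊗ N ⟶ G ⊗ N :=
  lift (fst (G ⊗ N) N ≫ fst G N) ((fst (G ⊗ N) N ≫ snd G N) * snd (G ⊗ N) N)

/-- The automorphism `((g, n), n') ↦ ((g, n), n * n')`. -/
noncomputable abbrev shift : (G ⊗ N) ⊗ N ≅ (G ⊗ N) ⊗ N where
  hom := lift (fst _ _) ((fst (G ⊗ N) N ≫ snd G N) * snd (G ⊗ N) N)
  inv := lift (fst _ _) ((fst (G ⊗ N) N ≫ snd G N)⁻¹ * snd (G ⊗ N) N)
  hom_inv_id := by
    refine CartesianMonoidalCategory.hom_ext _ _ (by simp) ?_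
    rw [Category.assoc, lift_snd, MonObj.comp_mul, GrpObj.comp_inv, lift_fst_assoc, lift_snd,
      Category.id_comp, inv_mul_cancel_left]
  inv_hom_id := by
    refine CartesianMonoidalCategory.hom_ext _ _ (by simp) ?_
    rw [Category.assoc, lift_snd, MonObj.comp_mul, lift_fst_assoc, lift_snd,
      Category.id_comp, mul_inv_cancel_left]

lemma shift_comp : (shift : (G ⊗ N) ⊗ N ≅ _).hom ≫ (fst G N ▷ N) = comp := by
  refine CartesianMonoidalCategory.hom_ext _ _ ?_ ?_
  · rw [Category.assoc, whiskerRight_fst, lift_fst_assoc, lift_fst]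
  · rw [Category.assoc, whiskerRight_snd, lift_snd, lift_snd]

variable [CompactSpace G.left] [QuasiSeparated G.hom]

section

variable [CompactSpace N.left] [QuasiSeparated N.hom] [CompactSpace (G ⊗ N).left]
  [QuasiSeparated (G ⊗ N).hom]

/-- The ring groupoid of `G ⊗ N ⇉ G`. -/
noncomputable def grpd (hP : Nonempty (GrpdLib.Pres (fst G N).left.appTop.hom)) : GrpdLib.RingGrpd.{u} where
  A := Γ(G.left, ⊤)
  B := Γ((G ⊗ N).left, ⊤)
  B₂ := Γ(((G ⊗ N) ⊗ N).left, ⊤)
  σ := (fst G N).left.appTop
  τ := (tr i).left.appTop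
  ε := (lift (𝟙 G) (1 : G ⟶ N)).left.appTop
  π₁ := (tr i ▷ N).left.appTop
  π₂ := (fst (G ⊗ N) N).left.appTop
  γ := (comp : (G ⊗ N) ⊗ N ⟶ G ⊗ N).left.appTop
  hfst := isPushout_whiskerRight (tr i)
  hcomp := by
    have : IsIso (shift : (G ⊗ N) ⊗ N ≅ _).hom := Iso.isIso_hom _
    have : IsIso (shift : (G ⊗ N) ⊗ N ≅ _).hom.left := Basic.isIso_left _
    have : IsIso (shift : (G ⊗ N) ⊗ N ≅ _).hom.left.appTop :=
      inferInstanceAs (IsIso (Scheme.Γ.map (shift : (G ⊗ N) ⊗ N ≅ _).hom.left.op))
    refine (isPushout_whiskerRight (N := N) (fst G N)).of_iso (Iso.refl _) (Iso.refl _) (Iso.refl _)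
      (asIso (shift : (G ⊗ N) ⊗ N ≅ _).hom.left.appTop) (by simp) (by simp) ?_ ?_
    · simp only [asIso_hom, Iso.refl_hom, Category.id_comp]
      rw [← Scheme.Hom.comp_appTop, ← Over.comp_left, lift_fst]
    · simp only [asIso_hom, Iso.refl_hom, Category.id_comp]
      rw [← Scheme.Hom.comp_appTop, ← Over.comp_left, shift_comp]
  σ_ε := by rw [← Scheme.Hom.comp_appTop, ← Over.comp_left, lift_fst, Over.id_left, Scheme.Hom.id_appTop]
  τ_ε := by
    rw [← Scheme.Hom.comp_appTop, ← Over.comp_left, MonObj.comp_mul, lift_fst, lift_snd_assoc,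
      MonObj.one_comp, _root_.mul_one, Over.id_left, Scheme.Hom.id_appTop]
  τ_γ := by
    rw [← Scheme.Hom.comp_appTop, ← Scheme.Hom.comp_appTop, ← Over.comp_left, ← Over.comp_left]
    congr 2
    rw [MonObj.comp_mul, MonObj.comp_mul, lift_fst, lift_snd_assoc, whiskerRight_fst,
      whiskerRight_snd_assoc, MonObj.mul_comp, MonObj.comp_mul, Category.assoc, _root_.mul_assoc]
  pres := hP

end

/-- A presentation of functions on `G ⊗ N` with constant rank. -/
lemma exists_pres [IsFinite N.hom] :
    ∃ P : GrpdLib.Pres (fst G N).left.appTop.hom, P.chi 0 = X ^ P.n := by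
  have : IsAffine N.left := isAffine_of_isAffineHom N.hom
  have hfin : N.hom.appTop.hom.Finite :=
    IsFinite.finite_app (f := N.hom) ⊤ (isAffineOpen_top _)
  let _ : Field Γ(Spec (CommRingCat.of K), ⊤) :=
    ((Scheme.ΓSpecIso (CommRingCat.of K)).commRingCatIsoToRingEquiv.toMulEquiv.isField
      (Field.toIsField K)).toField
  let _ : Algebra Γ(Spec (CommRingCat.of K), ⊤) Γ(N.left, ⊤) := N.hom.appTop.hom.toAlgebra
  have : Module.Finite Γ(Spec (CommRingCat.of K), ⊤) Γ(N.left, ⊤) := hfin
  let b := Module.finBasis Γ(Spec (CommRingCat.of K), ⊤) Γ(N.left, ⊤)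
  let P₀ : GrpdLib.Pres N.hom.appTop.hom :=
    { n := _
      e := b
      coord := b.equivFun.toLinearMap.toAddMonoidHom
      coord_smul := fun a x => by
        show b.equivFun (N.hom.appTop.hom a * x) = a • b.equivFun x
        rw [← map_smul]
        exact congrArg b.equivFun (Algebra.smul_def a x).symm
      sum_coord := fun x => by
        show ∑ j, N.hom.appTop.hom (b.equivFun x j) * b j = x
        conv_rhs => rw [← b.sum_equivFun x]
        exact Finset.sum_congr rfl fun j _ => (Algebra.smul_def _ _).symm }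
  have h₀ : P₀.chi 0 = X ^ P₀.n := by
    have hm1 : P₀.mat 1 = 1 := by
      ext j k
      show b.equivFun (1 * b k) j = _
      rw [_root_.one_mul, b.equivFun_self, Matrix.one_apply]
      congr 1
      exact propext eq_comm
    have hm0 : P₀.mat 0 = 0 := by
      ext j k
      show b.equivFun (0 * b k) j = _
      simp
    rw [GrpdLib.Pres.chi, hm1, hm0, Matrix.map_one _ (map_zero C) (map_one C),
      Matrix.map_zero _ (map_zero C), sub_zero, add_sub_cancel, Matrix.det_smul, Matrix.det_one,
      _root_.mul_one, Fintype.card_fin]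
  obtain ⟨P, hn, -, -, hc⟩ :=
    GrpdLib.exists_pres_baseChange' (QuasiAffine.isPushout_tensor G N) P₀
  refine ⟨P, ?_⟩
  have := hc 0
  rw [map_zero, h₀, Polynomial.map_pow, map_X] at this
  rw [this, hn]

/-- Functions on `G` are integral over functions on `H`. -/
theorem isIntegral [IsFinite N.hom] [Surjective q.left] [Flat q.left] [QuasiCompact q.left]
    (hex : AlgGrp.IsKernel i q) : q.left.appTop.hom.IsIntegral := by
  have : IsAffine N.left := isAffine_of_isAffineHom N.hom
  have : QuasiCompact (G ⊗ N).hom := by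
    rw [← Over.w (fst G N)]
    have : QuasiCompact (fst G N).left :=
      inferInstanceAs (QuasiCompact (pullback.fst G.hom N.hom))
    have : QuasiCompact G.hom := (quasiCompact_iff_compactSpace G.hom).2 inferInstance
    infer_instance
  have : CompactSpace (G ⊗ N).left := QuasiCompact.compactSpace_of_compactSpace (G ⊗ N).hom
  have : QuasiSeparated (G ⊗ N).hom := by
    rw [← Over.w (fst G N)]
    have : QuasiSeparated (fst G N).left :=
      inferInstanceAs (QuasiSeparated (pullback.fst G.hom N.hom))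
    infer_instance
  obtain ⟨P, hP⟩ := exists_pres (N := N) (G := G)
  let D := grpd i ⟨P⟩
  intro a
  rcases subsingleton_or_nontrivial Γ(G.left, ⊤) with hs | hn
  · exact ⟨X, monic_X, Subsingleton.elim _ _⟩
  have hmonic : (D.chi a).Monic := by
    have e : D.chi a = P.chi (D.τ a) := GrpdLib.Pres.chi_eq D.P P _
    rw [e]
    exact monic_chi P hP _
  have hR := GrpdLib.GrpOver.isPullback_left (KernelPair.isPullback hex)
  have hl : D.chi a ∈ Polynomial.lifts q.left.appTop.hom :=
    (Polynomial.lifts_iff_coeff_lifts _).mpr fun m =>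
      GlobalSections.exists_of_eq q.left hR _ (D.coeff_chi_mem a m)
  obtain ⟨Q, hQ, -, hQm⟩ := Polynomial.lifts_and_degree_eq_and_monic hl hmonic
  refine ⟨Q, hQm, ?_⟩
  rw [← Polynomial.eval_map, hQ]
  exact D.eval_chi_self a

end Groth.Agent.GrpScheme.IsogenyFunctions
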