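import Groth.Agent.GrpScheme.CharKernel
import Groth.Agent.GrpScheme.RedIdComponent
import Groth.Agent.GrpScheme.SubgroupObj
import Groth.Agent.GrpArtin.Descend
import Groth.Agent.Borel50.Lin.TorusSch
import Groth.Agent.FpqcDesc.Props
import Groth.Agent.Wt.ChevalleyNoeth
import Groth.Agent.S9683

/-!
# Connected subgroups under isogenies
-/

set_option autoImplicit false
set_option backward.isDefEq.respectTransparency false

universe u

open CategoryTheory MonoidalCategory CartesianMonoidalCategory MonObj GrpObj AlgebraicGeometry Limits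

noncomputable section

namespace Groth.Agent.GrpScheme.IsogenySub

open CharSplit CharKernel Groth.Agent.RedPts

attribute [local instance] Borel50.Lin.ptTop
attribute [-instance] Groth.Agent.GrpArtin.grpObjBC

variable {k : Type u} [Field k] [IsAlgClosed k] {G H : Over (Spec (CommRingCat.of k))} [GrpObj G] [GrpObj H]
  [LocallyOfFiniteType G.hom] [QuasiCompact G.hom] (f : G ⟶ H) [IsMonHom f] [Surjective f.left] [IsFinite f.left]

include f in
/-- A smooth connected subgroup has a smooth connected preimage, isogenous to it. -/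
theorem exists_preimage {R : Over (Spec (CommRingCat.of k))} [GrpObj R] [Smooth R.hom] [QuasiCompact R.hom]
    [ConnectedSpace R.left] (j : R ⟶ H) [IsMonHom j] [IsClosedImmersion j.left] :
    ∃ (P₀ : Over (Spec (CommRingCat.of k))) (_ : GrpObj P₀) (p : P₀ ⟶ G) (f₀ : P₀ ⟶ R),
      IsMonHom p ∧ IsClosedImmersion p.left ∧ Smooth P₀.hom ∧ QuasiCompact P₀.hom ∧ ConnectedSpace P₀.left ∧
      IsMonHom f₀ ∧ IsFinite f₀.left ∧ Surjective f₀.left ∧ f₀ ≫ j = p ≫ f ∧
      topologicalKrullDim P₀.left = topologicalKrullDim R.left ∧ (IsAffine R.left → IsAffine P₀.left) := by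
  have : IsReduced R.left := GrpScheme.HomFlat.isReduced_of_smooth R.hom
  have : IsIntegral R.left := GrpScheme.Rosenlicht.isIntegral_group R
  have hmj : Mono j := Over.mono_of_mono_left j
  let P := pullback j f
  let a : P ⟶ R := pullback.fst j f
  let b : P ⟶ G := pullback.snd j f
  have hP : IsPullback a b j f := IsPullback.of_hasPullback j f
  have : IsClosedImmersion b.left := MorphismProperty.of_isPullback (GrpdLib.GrpOver.isPullback_left hP) ‹IsClosedImmersion j.left›
  have : Mono b := Over.mono_of_mono_left b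
  obtain ⟨gP, hb⟩ := GrpScheme.SubgroupObj.exists_grpObj b
    ⟨hP.lift ((a ⊗ₘ a) ≫ μ[R]) ((b ⊗ₘ b) ≫ μ[G]) (by
      rw [Category.assoc, IsMonHom.mul_hom, Category.assoc, IsMonHom.mul_hom, tensorHom_comp_tensorHom_assoc,
        tensorHom_comp_tensorHom_assoc, hP.w]), hP.lift_snd _ _ _⟩
    ⟨hP.lift η[R] η[G] (by rw [IsMonHom.one_hom, IsMonHom.one_hom]), hP.lift_snd _ _ _⟩
    ⟨hP.lift (a ≫ ι[R]) (b ≫ ι[G]) (by
      rw [GrpObj.inv_eq_inv, GrpObj.inv_eq_inv, Category.assoc, Category.assoc, GrpObj.inv_comp,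
        GrpObj.inv_comp, Category.id_comp, Category.id_comp, GrpObj.comp_inv, GrpObj.comp_inv, hP.w]),
      hP.lift_snd _ _ _⟩
  have := hb
  have : IsMonHom a :=
    { one_hom := by rw [← cancel_mono j, Category.assoc, hP.w, ← Category.assoc, IsMonHom.one_hom, IsMonHom.one_hom, IsMonHom.one_hom]
      mul_hom := by rw [← cancel_mono j, Category.assoc, hP.w, ← Category.assoc, IsMonHom.mul_hom, Category.assoc,
        IsMonHom.mul_hom, Category.assoc, IsMonHom.mul_hom, tensorHom_comp_tensorHom_assoc, tensorHom_comp_tensorHom_assoc, hP.w] }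
  have : IsFinite a.left := MorphismProperty.of_isPullback (GrpdLib.GrpOver.isPullback_left hP).flip ‹IsFinite f.left›
  have : Surjective a.left := MorphismProperty.of_isPullback (GrpdLib.GrpOver.isPullback_left hP).flip ‹Surjective f.left›
  have : LocallyOfFiniteType P.hom := by rw [← Over.w b]; infer_instance
  have : QuasiCompact P.hom := by rw [← Over.w b]; infer_instance
  obtain ⟨P₀, gP₀, r, hrm, hrc, hPs, hPc, hPq, hrr, -⟩ := GrpScheme.RedIdComponent.exists_reduced_idComponent_range P
  let f₀ : P₀ ⟶ R := r ≫ a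
  have : IsFinite f₀.left := by rw [Over.comp_left]; infer_instance
  have : IsReduced R.left := inferInstance
  have hsurj : Surjective f₀.left := by
    obtain ⟨z, hz⟩ := (inferInstance : Surjective a.left).surj (genericPoint R.left)
    obtain ⟨p, hp⟩ := exists_pt_mem (G := P) (U := closure {z}) isClosed_closure.isLocallyClosed
      ⟨z, subset_closure rfl⟩
    let L : P ⟶ P := tr p⁻¹
    let L' : R ⟶ R := tr (p⁻¹ ≫ a)
    have hLa : L ≫ a = a ≫ L' := by
      simp only [L, L', tr, MonObj.mul_comp, MonObj.comp_mul, Category.id_comp, Category.comp_id, Category.assoc,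
        ← Category.assoc a (toUnit R), toUnit_unique (a ≫ toUnit R) (toUnit P)]
    have htr : ∀ s t : Pt R, tr t ≫ tr s = tr (t * s) := fun s t => by
      simp only [tr, MonObj.comp_mul, Category.comp_id, ← Category.assoc,
        toUnit_unique ((𝟙 R * (toUnit R ≫ t)) ≫ toUnit R) (toUnit R), _root_.mul_assoc]
    have htr1 : tr (1 : Pt R) = 𝟙 R := by rw [tr, MonObj.comp_one, _root_.mul_one]
    have hiso : IsIso L' := ⟨tr (p ≫ a), by
      rw [htr, ← MonObj.mul_comp, inv_mul_cancel, MonObj.one_comp, htr1], by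
      rw [htr, ← MonObj.mul_comp, mul_inv_cancel, MonObj.one_comp, htr1]⟩
    have : IsIso L'.left := inferInstanceAs (IsIso ((Over.forget _).map L'))
    have hgen : a.left (L.left z) = genericPoint R.left := by
      rw [← Scheme.Hom.comp_apply, ← Over.comp_left, hLa, Over.comp_left, Scheme.Hom.comp_apply, hz]
      exact genericPoint_eq_of_isOpenImmersion L'.left
    have hsp : L.left z ⤳ GrpScheme.IdComponent.e₀ P := by
      have h := (specializes_iff_mem_closure.mpr hp).map L.left.continuous
      have e : L.left (cpt p) = GrpScheme.IdComponent.e₀ P := by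
        show L.left (p.left _) = _
        rw [← Scheme.Hom.comp_apply, ← Over.comp_left]
        show (p ≫ tr p⁻¹).left _ = _
        rw [tr, MonObj.comp_mul, Category.comp_id, ← Category.assoc, toUnit_unique (p ≫ toUnit P) (𝟙 _),
          Category.id_comp, mul_inv_cancel, Hom.one_def, toUnit_unique (toUnit _) (𝟙 _), Category.id_comp]
      rwa [e] at h
    have hmem : L.left z ∈ Set.range r.left := by
      rw [hrr, GrpScheme.IdComponent.connectedComponent_eq]
      exact GrpScheme.IdComponent.range_zι P ▸ GrpScheme.IdComponent.mem_range_of_specializes P hsp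
    obtain ⟨z₀, hz₀⟩ := hmem
    have hg : genericPoint R.left ∈ Set.range f₀.left := ⟨z₀, by
      rw [Over.comp_left, Scheme.Hom.comp_apply, hz₀, hgen]⟩
    refine ⟨Set.range_eq_univ.mp (Set.eq_univ_of_univ_subset ?_)⟩
    rw [← (genericPoint_spec R.left).def]
    exact closure_minimal (Set.singleton_subset_iff.mpr hg) f₀.left.isClosedMap.isClosed_range
  have : Mono r := Over.mono_of_mono_left r
  have : IsClosedImmersion (r ≫ b).left := by rw [Over.comp_left]; infer_instance
  refine ⟨P₀, gP₀, r ≫ b, f₀, inferInstance, inferInstance, hPs, hPq, hPc, inferInstance, inferInstance, hsurj,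
    by rw [Category.assoc, hP.w, Category.assoc], (S9683.result f₀.left).2 hsurj, fun _ => isAffine_of_isAffineHom f₀.left⟩

include f in
/-- A smooth connected subgroup has an image, isogenous to it. -/
theorem exists_image [LocallyOfFiniteType H.hom] {U : Over (Spec (CommRingCat.of k))} [GrpObj U] [Smooth U.hom]
    [QuasiCompact U.hom] [ConnectedSpace U.left] (i : U ⟶ G) [IsMonHom i] [IsClosedImmersion i.left] :
    ∃ (X : Over (Spec (CommRingCat.of k))) (_ : GrpObj X) (π : U ⟶ X) (χ : X ⟶ H),
      IsMonHom π ∧ IsMonHom χ ∧ IsClosedImmersion χ.left ∧ IsFinite π.left ∧ Surjective π.left ∧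
      Smooth X.hom ∧ QuasiCompact X.hom ∧ ConnectedSpace X.left ∧ π ≫ χ = i ≫ f ∧
      topologicalKrullDim U.left = topologicalKrullDim X.left ∧ (IsAffine U.left → IsAffine X.left) := by
  have : IsReduced U.left := GrpScheme.HomFlat.isReduced_of_smooth U.hom
  have : IsIntegral U.left := GrpScheme.Rosenlicht.isIntegral_group U
  obtain ⟨N, gN, n, hn, hker⟩ := AffineHom.exists_kernel (i ≫ f)
  have : Mono n := GrpdLib.GrpOver.kernel_mono hker
  have hif : IsFinite (i ≫ f).left := by rw [Over.comp_left]; infer_instance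
  have hNfin : IsFinite (toUnit N).left := MorphismProperty.of_isPullback (GrpdLib.GrpOver.isPullback_left hker) hif
  have : IsFinite N.hom := by
    have : IsFinite (𝟙_ (Over (Spec (CommRingCat.of k)))).hom := inferInstanceAs (IsFinite (𝟙 _))
    rw [← Over.w (toUnit N)]; exact MorphismProperty.comp_mem _ _ _ hNfin inferInstance
  have hη : IsClosedImmersion η[H].left := by
    have : IsSeparated H.hom := IdComponent.isSeparated H
    have : IsClosedImmersion (η[H].left ≫ H.hom) := by
      rw [Over.w η[H]]; exact inferInstanceAs (IsClosedImmersion (𝟙 _))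
    exact IsClosedImmersion.of_comp η[H].left H.hom
  have : IsClosedImmersion n.left :=
    MorphismProperty.of_isPullback (GrpdLib.GrpOver.isPullback_left hker).flip hη
  obtain ⟨X, gX, π, hπm, hπk, hπf, hπs, hXl, hXq, hXi, -, -, hdesc⟩ := exists_quot n (fun Y g m =>
    (GrpdLib.GrpOver.kernel_factor hker (g * (m ≫ n) * g⁻¹) (by
      rw [MonObj.mul_comp, MonObj.mul_comp, GrpObj.inv_comp, Category.assoc, hker.w, ← Hom.one_def, MonObj.comp_one,
        _root_.mul_one, mul_inv_cancel])).imp fun _ h => h.symm)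
  obtain ⟨χ, hχm, hχ⟩ := hdesc H (i ≫ f) inferInstance (by rw [hker.w, Hom.one_def])
  have : Mono χ := by
    refine ⟨fun {Y} u v huv => ?_⟩
    have : QuasiCompact π.left := GrpdLib.GrpOver.quasiCompact_left π
    obtain ⟨Y₁, c₁, u₁, hc1f, hc1s, hc1q, hc1e, hu⟩ := GrpdLib.GrpOver.exists_lift π u
    obtain ⟨Y₂, c₂, v₂, hc2f, hc2s, hc2q, hc2e, hv⟩ := GrpdLib.GrpOver.exists_lift π (c₁ ≫ v)
    refine GrpdLib.GrpOver.cancel_left c₁ (GrpdLib.GrpOver.cancel_left c₂ ?_)
    rw [← hv, ← hu, ← Category.assoc]
    obtain ⟨z, hz⟩ := GrpdLib.GrpOver.kernel_factor hker ((c₂ ≫ u₁) * v₂⁻¹) (by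
      rw [← hχ, ← Category.assoc, MonObj.mul_comp, GrpObj.inv_comp, Category.assoc, hu, hv, MonObj.mul_comp,
        GrpObj.inv_comp, Category.assoc, Category.assoc, Category.assoc, Category.assoc, huv, mul_inv_cancel])
    have := congrArg (· ≫ π) hz
    rw [MonObj.mul_comp, GrpObj.inv_comp, Category.assoc, hπk.w, ← Hom.one_def, MonObj.comp_one] at this
    exact mul_inv_eq_one.1 this.symm
  have : QuasiCompact χ.left := GrpdLib.GrpOver.quasiCompact_left χ
  have : IsClosedImmersion χ.left := GrpArtin.Descend.isClosedImmersion_of_mono χ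
  have : QuasiCompact π.left := GrpdLib.GrpOver.quasiCompact_left π
  haveI : MorphismProperty.DescendsAlong @IsFinite FpqcDesc.FPQC.{u} := FpqcDesc.descendsAlong_isFinite
  have hπfin : IsFinite π.left := KernelPair.mem_of_kernel hπk @IsFinite FpqcDesc.FPQC.{u}
    ⟨⟨hπs, hπf⟩, inferInstance⟩ ‹IsFinite N.hom›
  have hXs : Smooth X.hom := Smooth.smooth_of_perfectField X
  refine ⟨X, gX, π, χ, hπm, hχm, inferInstance, hπfin, hπs, hXs, hXq, inferInstance, hχ, (S9683.result π.left).2 hπs,
    fun _ => ?_⟩
  have : IsLocallyNoetherian X.left := LocallyOfFiniteType.isLocallyNoetherian X.hom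
  have : CompactSpace X.left := (quasiCompact_iff_compactSpace X.hom).1 inferInstance
  have : IsNoetherian X.left := { }
  exact Wt.ChevalleyNoeth.isAffine π.left

end Groth.Agent.GrpScheme.IsogenySub
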