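import Groth.Agent.GrpAff.Reduced
import Groth.Agent.GrpScheme.HomFlat
import Groth.Prelude.Def_AlgGrp

/-!
# Normality from rational points
-/

set_option autoImplicit false
set_option linter.style.haveILetI false
set_option backward.isDefEq.respectTransparency false

universe u

open CategoryTheory MonoidalCategory CartesianMonoidalCategory MonObj GrpObj AlgebraicGeometry Limits

noncomputable section

namespace Groth.Agent.GrpScheme.NormalOfPoints

variable {k : Type u} [Field k] [IsAlgClosed k]

local notation "Sk" => Spec (CommRingCat.of k)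

/-- A reduced closed subgroup normalised by the rational points of a reduced group is normal. -/
theorem isNormalHom {G R : Over Sk} [GrpObj G] [GrpObj R] [LocallyOfFiniteType G.hom] [IsReduced G.left]
    [IsReduced R.left] (r : R ⟶ G) [IsClosedImmersion r.left]
    (h : ∀ g : 𝟙_ (Over Sk) ⟶ G, ∃ c : R ⟶ R, c ≫ r = (toUnit R ≫ g) * r * (toUnit R ≫ g)⁻¹) :
    AlgGrp.IsNormalHom r := by
  haveI : LocallyOfFiniteType R.hom := by rw [← Over.w r]; infer_instance
  haveI : IsReduced (G ⊗ R).left :=
    GrpScheme.RatDense.isReduced_pullback G.hom (GrpAff.dense_ratPoints G) R.hom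
  haveI : LocallyOfFiniteType (G ⊗ R).hom := by
    rw [← Over.w (fst G R)]
    haveI : LocallyOfFiniteType (fst G R).left :=
      inferInstanceAs (LocallyOfFiniteType (pullback.fst G.hom R.hom))
    infer_instance
  let Φ : G ⊗ R ⟶ G := fst G R * (snd G R ≫ r) * (fst G R)⁻¹
  have hΦ : Set.range Φ.left ⊆ Set.range r.left := by
    haveI := LocallyOfFiniteType.jacobsonSpace (G ⊗ R).hom
    have hcl : IsClosed (Φ.left ⁻¹' Set.range r.left) :=
      r.left.isClosedEmbedding.isClosed_range.preimage Φ.left.continuous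
    have hsub : closedPoints (G ⊗ R).left ⊆ Φ.left ⁻¹' Set.range r.left := by
      intro x hx
      obtain ⟨z, hz⟩ := GrpAff.exists_point (G ⊗ R) hx
      obtain ⟨c, hc⟩ := h (z ≫ fst G R)
      have e : z ≫ Φ = ((z ≫ snd G R) ≫ c) ≫ r := by
        rw [Category.assoc, hc, MonObj.comp_mul, MonObj.comp_mul, GrpObj.comp_inv, MonObj.comp_mul,
          MonObj.comp_mul, GrpObj.comp_inv, ← Category.assoc (z ≫ snd G R) (toUnit R),
          toUnit_unique ((z ≫ snd G R) ≫ toUnit R) (𝟙 _), Category.id_comp, Category.assoc]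
      have e' := congr(($e).left (IsLocalRing.closedPoint k))
      simp only [Over.comp_left, Scheme.Hom.comp_apply, hz] at e'
      exact ⟨_, e'.symm⟩
    have h' := closure_minimal hsub hcl
    rw [closure_closedPoints] at h'
    rintro _ ⟨x, rfl⟩
    exact h' (Set.mem_univ x)
  obtain ⟨w, hw⟩ := RedSub.exists_lift_closed r.left Φ.left hΦ
  let w' : G ⊗ R ⟶ R := Over.homMk w (by rw [← Over.w r, reassoc_of% hw, Over.w])
  have hw' : w' ≫ r = Φ := Over.OverMorphism.ext hw
  intro T g n
  refine ⟨lift g n ≫ w', ?_⟩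
  rw [Category.assoc, hw', MonObj.comp_mul, MonObj.comp_mul, GrpObj.comp_inv, lift_fst, lift_snd_assoc]

end Groth.Agent.GrpScheme.NormalOfPoints
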