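import Groth.Agent.S4113
import Groth.Agent.GrpScheme.Basic
import Groth.Agent.AffGrp.Bridge
import Groth.Agent.UnramFib.Basic
import Mathlib.AlgebraicGeometry.Morphisms.SmoothFiber
import Mathlib.AlgebraicGeometry.Morphisms.FlatRank

/-!
# Group schemes of invertible order are étale
-/

set_option autoImplicit false

universe u

open CategoryTheory MonoidalCategory CartesianMonoidalCategory MonObj GrpObj AlgebraicGeometry
  Limits

namespace Groth.Agent.GrpScheme.OrderEtale

/-- A finite group scheme over a field of invertible order is étale. -/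
theorem etale_of_finrank_ne_zero {F : CommRingCat.{u}} (hF : IsField F) (G : Over (Spec F))
    [GrpObj G] [IsFinite G.hom]
    (h : ∀ x, (G.hom.finrank x : F) ≠ 0) : Etale G.hom := by
  letI := hF.toField
  have : IsAffine G.left := isAffine_of_isAffineHom G.hom
  obtain ⟨A, hA, e, -⟩ := AffGrp.Bridge.exists_iso G
  let l : Spec (CommRingCat.of A) ⟶ G.left := e.hom.left
  have he : l ≫ G.hom = Spec.map (CommRingCat.ofHom (algebraMap F A)) := Over.w e.hom
  have : IsIso l := Basic.isIso_left e.hom
  have : Flat G.hom := by
    have : Flat (Spec.map (CommRingCat.ofHom (algebraMap F A))) :=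
      (Flat.SpecMap_iff).mpr (RingHom.flat_algebraMap_iff.mpr inferInstance)
    rwa [← MorphismProperty.cancel_left_of_respectsIso @Flat l, he]
  have hf : IsFinite (Spec.map (CommRingCat.ofHom (algebraMap F A))) :=
    he ▸ (inferInstance : IsFinite (l ≫ G.hom))
  have : Module.Finite F A := RingHom.finite_algebraMap.mp ((IsFinite.SpecMap_iff _).mp hf)
  have hA' : (Module.finrank F A : F) ≠ 0 := by
    let x : PrimeSpectrum F := ⟨⊥, inferInstance⟩
    have h1 := h x
    rwa [← Scheme.Hom.finrank_comp_left_of_isIso l G.hom, he,
      Scheme.Hom.finrank_SpecMap_algebraMap, Module.rankAtStalk_eq_finrank_of_free] at h1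
  have : Algebra.Etale F A := S4113.result F A hA'
  rw [← MorphismProperty.cancel_left_of_respectsIso @Etale l, he,
    HasRingHomProperty.Spec_iff (P := @Etale)]
  exact RingHom.etale_algebraMap.mpr this

variable {S : Scheme.{u}}

/-- A quasi-finite flat group scheme whose fibres have invertible order is étale. -/
theorem etale_of_fibres (G : Over S) [GrpObj G]
    [LocallyQuasiFinite G.hom] [QuasiCompact G.hom] [Flat G.hom] [LocallyOfFinitePresentation G.hom]
    (h : ∀ (s : S) (x : ↥(Spec (S.residueField s))),
      ((pullback.snd G.hom (S.fromSpecResidueField s)).finrank x : S.residueField s) ≠ 0) :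
    Etale G.hom := by
  let : GrpObj (Over.mk G.hom) := ‹GrpObj G›
  have het : ∀ s, Etale (G.hom.fiberToSpecResidueField s) := by
    intro s
    let : GrpObj (Over.mk (pullback.snd G.hom (S.fromSpecResidueField s))) :=
      Over.grpObjMkPullbackSnd
    have : IsFinite (Over.mk (pullback.snd G.hom (S.fromSpecResidueField s))).hom :=
      inferInstanceAs (IsFinite (G.hom.fiberToSpecResidueField s))
    exact etale_of_finrank_ne_zero (Field.toIsField (S.residueField s))
      (Over.mk (pullback.snd G.hom (S.fromSpecResidueField s))) (h s)
  have : FormallyUnramified G.hom := UnramFib.formallyUnramified_of_fibers G.hom fun s =>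
    have := het s
    inferInstance
  exact Etale.of_formallyUnramified_of_flat G.hom

end Groth.Agent.GrpScheme.OrderEtale
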