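import Mathlib.AlgebraicGeometry.Modules.Tilde
import Mathlib.Topology.Sheaves.PUnit
import Mathlib.LinearAlgebra.FreeModule.Basic
import Mathlib.Algebra.Category.Grp.Zero
import Mathlib.Algebra.Category.Grp.Abelian

/-!
# Modules on the spectrum of a field are free
-/

set_option autoImplicit false

universe u

open CategoryTheory CategoryTheory.Limits AlgebraicGeometry TopologicalSpace Opposite

namespace Groth.Agent.GrpScheme.PointModules

variable (K : Type u) [Field K]

lemma opens_eq (U : (Spec (CommRingCat.of K)).Opens) : U = ⊤ ∨ U = ⊥ := by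
  rcases Set.eq_empty_or_nonempty (U : Set (Spec (CommRingCat.of K))) with h | ⟨x, hx⟩
  · exact Or.inr (SetLike.coe_injective h)
  · exact Or.inl (eq_top_iff.mpr fun y _ => by rwa [Subsingleton.elim y x])

/-- Every module on the spectrum of a field is associated to its global sections. -/
lemma isIso_fromTildeΓ (M : (Spec (CommRingCat.of K)).Modules) : IsIso (Scheme.Modules.fromTildeΓ (R := CommRingCat.of K) M) := by
  rw [Scheme.Modules.Hom.isIso_iff_isIso_app]
  intro U
  rcases opens_eq K U with rfl | rfl
  · have h := Scheme.Modules.toOpen_fromTildeΓ_app (R := CommRingCat.of K) M ⊤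
    rw [show (homOfLE (le_top : (⊤ : (Spec (CommRingCat.of K)).Opens) ≤ ⊤)).op = 𝟙 _ from rfl,
      CategoryTheory.Functor.map_id] at h
    have h1 : IsIso ((modulesSpecToSheaf.map (Scheme.Modules.fromTildeΓ (R := CommRingCat.of K) M)).1.app (op ⊤)) := by
      have : IsIso (tilde.toOpen ((modulesSpecToSheaf.obj M).presheaf.obj (op ⊤)) ⊤ ≫
          (modulesSpecToSheaf.map (Scheme.Modules.fromTildeΓ (R := CommRingCat.of K) M)).1.app (op ⊤)) := by
        rw [h]; infer_instance
      have : IsIso (tilde.toOpen (R := CommRingCat.of K) ((modulesSpecToSheaf.obj M).presheaf.obj (op ⊤)) ⊤) :=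
        tilde.isIso_toOpen_top
      exact IsIso.of_isIso_comp_left (tilde.toOpen ((modulesSpecToSheaf.obj M).presheaf.obj (op ⊤)) ⊤) _
    rw [ConcreteCategory.isIso_iff_bijective] at h1 ⊢
    exact h1
  · have h : ∀ N : (Spec (CommRingCat.of K)).Modules, Subsingleton Γ(N, ⊥) := fun N =>
      AddCommGrpCat.subsingleton_of_isZero
        ((TopCat.Sheaf.isTerminalOfEmpty ⟨N.presheaf, N.isSheaf⟩).isZero)
    rw [ConcreteCategory.isIso_iff_bijective]
    exact ⟨fun a b _ => (h _).elim a b, fun b => ⟨0, (h _).elim _ b⟩⟩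

/-- Every module on the spectrum of a field is free. -/
theorem exists_free (M : (Spec (CommRingCat.of K)).Modules) :
    ∃ I : Type u, Nonempty (M ≅ SheafOfModules.free.{u} I) := by
  have := isIso_fromTildeΓ K M
  let V := (modulesSpecToSheaf.obj M).presheaf.obj (op ⊤)
  let b : Module.Basis (Module.Free.ChooseBasisIndex K V) K V := Module.Free.chooseBasis K V
  exact ⟨_, ⟨(asIso (Scheme.Modules.fromTildeΓ (R := CommRingCat.of K) M)).symm ≪≫ (tilde.functor _).mapIso b.repr.toModuleIso ≪≫
    tildeFinsupp (R := CommRingCat.of K) _⟩⟩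

end Groth.Agent.GrpScheme.PointModules
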