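import Mathlib

/-!
# Products with the spectrum of an ind-split algebra

If every finite subset of a `k`-algebra `A` lies in a finite product of copies of `k`, then
`|Spec A ×ₖ X| → |Spec A| × |X|` is a homeomorphism.
-/

set_option autoImplicit false

universe u

open CategoryTheory AlgebraicGeometry Limits
open scoped TensorProduct

namespace Groth.Agent.GrpScheme.ProfiniteProd

variable {k : Type u} [Field k] {A : Type u} [CommRing A] [Algebra k A]

/-- Every finite subset lies in a finite split subalgebra. -/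
def IndSplit (k A : Type u) [Field k] [CommRing A] [Algebra k A] : Prop :=
  ∀ s : Finset A, ∃ (B : Subalgebra k A) (n : ℕ), (↑s : Set A) ⊆ (B : Set A) ∧
    Nonempty (B ≃ₐ[k] (Fin n → k))

lemma exists_idem (hA : IndSplit k A) (s : Finset A) :
    ∃ (n : ℕ) (e : Fin n → A), (∑ i, e i = 1) ∧ ∀ a ∈ s, ∀ i, ∃ c : k, e i * a = c • e i := by
  classical
  obtain ⟨B, n, hs, ⟨φ⟩⟩ := hA s
  refine ⟨n, fun i => ((φ.symm (Pi.single i 1) : B) : A), ?_, fun a ha i => ?_⟩
  · rw [← AddSubmonoidClass.coe_finsetSum, ← map_sum,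
      show (∑ i, Pi.single (M := fun _ => k) i (1 : k)) = 1 from Finset.univ_sum_single 1, map_one]
    rfl
  · refine ⟨φ ⟨a, hs ha⟩ i, ?_⟩
    have : φ.symm (Pi.single i 1) * ⟨a, hs ha⟩ = φ ⟨a, hs ha⟩ i • φ.symm (Pi.single i 1) := by
      apply φ.injective
      rw [map_mul, map_smul, φ.apply_symm_apply]
      ext j
      by_cases h : j = i
      · subst h; simp
      · simp [h]
    exact congr(($this : B).1)

/-- The key factorisation at a prime. -/
lemma exists_factor (hA : IndSplit k A) {R : Type u} [CommRing R] [Algebra k R]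
    (Q : Ideal (A ⊗[k] R)) [Q.IsPrime] (f : A ⊗[k] R) :
    ∃ (e : A) (r : R), (e ⊗ₜ[k] (1 : R)) * f = e ⊗ₜ r ∧ e ⊗ₜ[k] (1 : R) ∉ Q := by
  classical
  obtain ⟨S, hS⟩ := TensorProduct.exists_finset f
  obtain ⟨n, e, he, hc⟩ := exists_idem hA (S.image Prod.fst)
  obtain ⟨i, hi⟩ : ∃ i, e i ⊗ₜ[k] (1 : R) ∉ Q := by
    by_contra! h
    refine (inferInstance : Q.IsPrime).ne_top ((Ideal.eq_top_iff_one Q).mpr ?_)
    rw [Algebra.TensorProduct.one_def, ← he, TensorProduct.sum_tmul]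
    exact Q.sum_mem fun i _ => h i
  choose c hc using hc
  refine ⟨e i, ∑ p ∈ S.attach, c p.1.1 (Finset.mem_image_of_mem _ p.2) i • p.1.2, ?_, hi⟩
  rw [TensorProduct.tmul_sum, hS, Finset.mul_sum, ← Finset.sum_attach]
  refine Finset.sum_congr rfl fun p _ => ?_
  rw [Algebra.TensorProduct.tmul_mul_tmul, one_mul,
    hc p.1.1 (Finset.mem_image_of_mem _ p.2) i, TensorProduct.smul_tmul]

/-- Residue fields of an ind-split algebra are the ground field. -/
lemma residue_surjective (hA : IndSplit k A) (p : Ideal A) [p.IsPrime] :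
    Function.Surjective (algebraMap k (A ⧸ p)) := by
  intro x
  obtain ⟨a, rfl⟩ := Ideal.Quotient.mk_surjective x
  obtain ⟨n, e, he, hc⟩ := exists_idem hA {a}
  obtain ⟨i, hi⟩ : ∃ i, e i ∉ p := by
    by_contra! h
    exact (inferInstance : p.IsPrime).ne_top ((Ideal.eq_top_iff_one p).mpr
      (he ▸ p.sum_mem fun i _ => h i))
  obtain ⟨c, hca⟩ := hc a (Finset.mem_singleton_self a) i
  refine ⟨c, (Ideal.Quotient.eq.mpr ?_).symm⟩
  refine ((inferInstance : p.IsPrime).mem_or_mem (x := e i) ?_).resolve_left hi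
  rw [mul_sub, hca, Algebra.smul_def, mul_comm, sub_self]
  exact p.zero_mem

variable {X : Scheme.{u}} (f : X ⟶ Spec (CommRingCat.of k))

/-- The underlying map to the product of spaces. -/
noncomputable def proj : ↑(pullback (Spec.map (CommRingCat.ofHom (algebraMap k A))) f) →
    PrimeSpectrum A × X :=
  fun p => (pullback.fst (Spec.map (CommRingCat.ofHom (algebraMap k A))) f p,
    pullback.snd (Spec.map (CommRingCat.ofHom (algebraMap k A))) f p)

lemma proj_surjective : Function.Surjective (proj (A := A) f) := by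
  rintro ⟨p, x⟩
  obtain ⟨q, hq₁, hq₂⟩ := Scheme.Pullback.exists_preimage_pullback
    (f := Spec.map (CommRingCat.ofHom (algebraMap k A))) (g := f) p x
    (Subsingleton.elim (α := Spec (CommRingCat.of k)) _ _)
  exact ⟨q, Prod.ext hq₁ hq₂⟩

/-- Affine coordinates on the product. -/
lemma exists_chart (U : X.affineOpens) :
    ∃ (alg : Algebra k Γ(X, U)) (j : Spec (CommRingCat.of (A ⊗[k] Γ(X, U))) ⟶
        pullback (Spec.map (CommRingCat.ofHom (algebraMap k A))) f),
      IsOpenImmersion j ∧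
      (∀ Q : PrimeSpectrum (A ⊗[k] Γ(X, U)),
        (proj f (j Q)).1 = Q.comap (Algebra.TensorProduct.includeLeftRingHom) ∧
        (proj f (j Q)).2 = U.2.fromSpec (Q.comap
          (Algebra.TensorProduct.includeRight (R := k) (A := A) (B := Γ(X, U))).toRingHom)) ∧
      Set.range j = (fun q => (proj f q).2) ⁻¹' (U.1 : Set X) := by
  let φ := Spec.preimage (U.2.fromSpec ≫ f)
  letI alg : Algebra k Γ(X, U) := φ.hom.toAlgebra
  have : IsOpenImmersion U.2.fromSpec := IsAffineOpen.isOpenImmersion_fromSpec _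
  have e : Spec.map (CommRingCat.ofHom (algebraMap k Γ(X, U))) ≫ 𝟙 _ = U.2.fromSpec ≫ f := by
    rw [Category.comp_id]
    exact Spec.map_preimage (U.2.fromSpec ≫ f)
  let j : Spec (CommRingCat.of (A ⊗[k] Γ(X, U))) ⟶
      pullback (Spec.map (CommRingCat.ofHom (algebraMap k A))) f :=
    (pullbackSpecIso k A Γ(X, U)).inv ≫
      pullback.map _ _ _ f (𝟙 _) U.2.fromSpec (𝟙 _) (by rw [Category.comp_id, Category.id_comp]) e
  have h₁ : j ≫ pullback.fst _ f =
      Spec.map (CommRingCat.ofHom Algebra.TensorProduct.includeLeftRingHom) := by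
    rw [Category.assoc, pullback.lift_fst, Category.comp_id, pullbackSpecIso_inv_fst]
  have h₂ : j ≫ pullback.snd _ f = Spec.map (CommRingCat.ofHom
      (Algebra.TensorProduct.includeRight (R := k) (A := A) (B := Γ(X, U))).toRingHom) ≫
        U.2.fromSpec := by
    rw [Category.assoc, pullback.lift_snd, pullbackSpecIso_inv_snd_assoc]
    rfl
  refine ⟨alg, j, MorphismProperty.comp_mem @IsOpenImmersion _ _ inferInstance inferInstance,
    fun Q => ⟨?_, ?_⟩, ?_⟩
  · exact congr($h₁ Q)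
  · exact congr($h₂ Q)
  · rw [Scheme.Hom.comp_base, TopCat.coe_comp, Set.range_comp,
      (Set.range_eq_univ.mpr (Scheme.Hom.surjective _)), Set.image_univ, Scheme.Pullback.range_map,
      U.2.range_fromSpec]
    ext q
    simp [proj]

/-- The map to the product of underlying spaces is a homeomorphism. -/
theorem isHomeomorph_proj (hA : IndSplit k A) : IsHomeomorph (proj (A := A) f) := by
  refine ⟨?_, ?_, ?_, proj_surjective f⟩
  · exact (Continuous.prodMk (Scheme.Hom.continuous _) (Scheme.Hom.continuous _))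
  · intro W hW
    rw [isOpen_iff_forall_mem_open]
    rintro _ ⟨q, hqW, rfl⟩
    obtain ⟨_, ⟨U, hU, rfl⟩, hqU, -⟩ := X.isBasis_affineOpens.exists_subset_of_mem_open
      (Set.mem_univ (proj (A := A) f q).2) isOpen_univ
    obtain ⟨alg, j, hj, hjp, hjr⟩ := exists_chart (A := A) f ⟨U, hU⟩
    obtain ⟨Q, rfl⟩ : q ∈ Set.range j := hjr.symm ▸ hqU
    obtain ⟨_, ⟨g, rfl⟩, hQg, hg⟩ :=
      PrimeSpectrum.isTopologicalBasis_basic_opens.exists_subset_of_mem_open
        (show Q ∈ j ⁻¹' W from hqW) (hW.preimage j.continuous)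
    have : Q.asIdeal.IsPrime := Q.2
    obtain ⟨e, r, her, he⟩ := exists_factor hA Q.asIdeal g
    have : IsOpenImmersion hU.fromSpec := IsAffineOpen.isOpenImmersion_fromSpec _
    refine ⟨(PrimeSpectrum.basicOpen e : Set (PrimeSpectrum A)) ×ˢ
        (hU.fromSpec '' (PrimeSpectrum.basicOpen r : Set (PrimeSpectrum Γ(X, U)))), ?_,
      (PrimeSpectrum.basicOpen e).2.prod
        (hU.fromSpec.isOpenEmbedding.isOpenMap _ (PrimeSpectrum.basicOpen r).2), ?_⟩
    · rintro ⟨p, _⟩ ⟨hp, P, hP, rfl⟩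
      obtain ⟨q', hq'⟩ := proj_surjective (A := A) f (p, hU.fromSpec P)
      obtain ⟨Q', rfl⟩ : q' ∈ Set.range j := hjr.symm ▸
        (show (proj f q').2 ∈ U from hq' ▸ hU.range_fromSpec.subset ⟨P, rfl⟩)
      refine ⟨j Q', hg ?_, hq'⟩
      obtain ⟨h1, h2⟩ := Prod.ext_iff.mp hq'
      have hp' : e ⊗ₜ[k] (1 : Γ(X, U)) ∉ Q'.asIdeal := by
        have := ((hjp Q').1).symm.trans h1
        rw [← this] at hp
        exact hp
      have hr' : (1 : A) ⊗ₜ[k] r ∉ Q'.asIdeal := by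
        have := hU.fromSpec.isOpenEmbedding.injective (((hjp Q').2).symm.trans h2)
        rw [← this] at hP
        exact hP
      intro hgQ
      have := Q'.asIdeal.mul_mem_left (e ⊗ₜ[k] (1 : Γ(X, U))) hgQ
      rw [her, show e ⊗ₜ[k] r = (e ⊗ₜ[k] (1 : Γ(X, U))) * ((1 : A) ⊗ₜ[k] r) by simp] at this
      exact (Q'.2.mem_or_mem this).elim hp' hr'
    · have hr : (1 : A) ⊗ₜ[k] r ∉ Q.asIdeal := fun h => by
        have : e ⊗ₜ[k] r ∈ Q.asIdeal := by
          simpa using Q.asIdeal.mul_mem_left (e ⊗ₜ[k] (1 : Γ(X, U))) h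
        rw [← her] at this
        exact (Q.2.mem_or_mem this).elim he hQg
      refine ⟨?_, ?_⟩
      · rw [(hjp Q).1]; exact he
      · rw [(hjp Q).2]; exact ⟨_, hr, rfl⟩
  · intro q q' hqq'
    obtain ⟨_, ⟨U, hU, rfl⟩, hqU, -⟩ := X.isBasis_affineOpens.exists_subset_of_mem_open
      (Set.mem_univ (proj (A := A) f q).2) isOpen_univ
    obtain ⟨alg, j, hj, hjp, hjr⟩ := exists_chart (A := A) f ⟨U, hU⟩
    obtain ⟨Q, rfl⟩ : q ∈ Set.range j := hjr.symm ▸ hqU
    obtain ⟨Q', rfl⟩ : q' ∈ Set.range j :=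
      hjr.symm ▸ (show (proj f q').2 ∈ U from hqq' ▸ hqU)
    obtain ⟨h1, h2⟩ := Prod.ext_iff.mp hqq'
    rw [(hjp Q).1, (hjp Q').1] at h1
    rw [(hjp Q).2, (hjp Q').2] at h2
    have : IsOpenImmersion hU.fromSpec := IsAffineOpen.isOpenImmersion_fromSpec _
    replace h2 := hU.fromSpec.isOpenEmbedding.injective h2
    congr 1
    refine PrimeSpectrum.ext (Ideal.ext fun g => ?_)
    have : Q.asIdeal.IsPrime := Q.2
    obtain ⟨e, r, her, he⟩ := exists_factor hA Q.asIdeal g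
    have he' : e ⊗ₜ[k] (1 : Γ(X, U)) ∉ Q'.asIdeal := fun h =>
      he ((show e ∈ _ ↔ e ∈ _ from Iff.of_eq (congrArg (fun P : PrimeSpectrum A => e ∈ P.asIdeal) h1)).mpr h)
    have hr : (1 : A) ⊗ₜ[k] r ∈ Q.asIdeal ↔ (1 : A) ⊗ₜ[k] r ∈ Q'.asIdeal :=
      Iff.of_eq (congrArg (fun P : PrimeSpectrum Γ(X, U) => r ∈ P.asIdeal) h2)
    have key : ∀ P : PrimeSpectrum (A ⊗[k] Γ(X, U)), e ⊗ₜ[k] (1 : Γ(X, U)) ∉ P.asIdeal →
        (g ∈ P.asIdeal ↔ (1 : A) ⊗ₜ[k] r ∈ P.asIdeal) := by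
      intro P hP
      refine ⟨fun h => ?_, fun h => ?_⟩
      · have := P.asIdeal.mul_mem_left (e ⊗ₜ[k] (1 : Γ(X, U))) h
        rw [her, show e ⊗ₜ[k] r = (e ⊗ₜ[k] (1 : Γ(X, U))) * ((1 : A) ⊗ₜ[k] r) by simp] at this
        exact (P.2.mem_or_mem this).resolve_left hP
      · have := P.asIdeal.mul_mem_left (e ⊗ₜ[k] (1 : Γ(X, U))) h
        rw [show (e ⊗ₜ[k] (1 : Γ(X, U))) * ((1 : A) ⊗ₜ[k] r) = e ⊗ₜ[k] r by simp, ← her] at this
        exact (P.2.mem_or_mem this).resolve_left hP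
    rw [key Q he, key Q' he', hr]

end Groth.Agent.GrpScheme.ProfiniteProd
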