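import Groth.Agent.GrpScheme.AntiAffine
import Groth.Agent.GrpScheme.GLnPts
import Mathlib.LinearAlgebra.TensorProduct.Finiteness
import Mathlib.LinearAlgebra.Finsupp.Pi
import Mathlib.LinearAlgebra.TensorProduct.Basis

/-!
# Functions on a group scheme lie in finite-dimensional representations

For a quasi-compact quasi-separated group scheme over a field, every function is a combination of
matrix coefficients of a representation on functions.
-/

set_option autoImplicit false

universe u

open CategoryTheory MonoidalCategory CartesianMonoidalCategory MonObj GrpObj AlgebraicGeometry Limits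
open scoped TensorProduct
open Groth.Agent.SekLib

namespace Groth.Agent.GrpScheme.RegularRep

variable {K : Type u} [Field K]

attribute [local instance] secAlgebra

/-- Pullback of functions as a map of algebras. -/
noncomputable def pull {X Y : Over (Spec (CommRingCat.of K))} (f : X ⟶ Y) :
    Γ(Y.left, ⊤) →ₐ[K] Γ(X.left, ⊤) where
  __ := f.left.appTop.hom
  commutes' c := by
    show ((Scheme.ΓSpecIso (CommRingCat.of K)).inv ≫ Y.hom.appTop ≫ f.left.appTop).hom c = _
    rw [← Scheme.Hom.comp_appTop, Over.w f]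
    rfl

lemma pull_apply {X Y : Over (Spec (CommRingCat.of K))} (f : X ⟶ Y) (a : Γ(Y.left, ⊤)) :
    pull f a = f.left.appTop a := rfl

lemma pull_pull {X Y Z : Over (Spec (CommRingCat.of K))} (f : X ⟶ Y) (g : Y ⟶ Z) (a : Γ(Z.left, ⊤)) :
    pull f (pull g a) = pull (f ≫ g) a := rfl

/-- The functions `a(x) b(y)` on a product. -/
noncomputable def prodMap (X Y : Over (Spec (CommRingCat.of K))) :
    Γ(X.left, ⊤) ⊗[K] Γ(Y.left, ⊤) →ₐ[K] Γ((X ⊗ Y).left, ⊤) :=
  Algebra.TensorProduct.productMap (pull (fst X Y)) (pull (snd X Y))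

lemma prodMap_tmul (X Y : Over (Spec (CommRingCat.of K))) (a : Γ(X.left, ⊤)) (b : Γ(Y.left, ⊤)) :
    prodMap X Y (a ⊗ₜ b) = pull (fst X Y) a * pull (snd X Y) b :=
  Algebra.TensorProduct.productMap_apply_tmul _ _ _ _

lemma bijective_prodMap (X Y : Over (Spec (CommRingCat.of K))) [CompactSpace X.left] [CompactSpace Y.left]
    [QuasiSeparated X.hom] [QuasiSeparated Y.hom] : Function.Bijective (prodMap X Y) := by
  have h : IsPushout (CommRingCat.ofHom (algebraMap K Γ(X.left, ⊤))) (CommRingCat.ofHom (algebraMap K Γ(Y.left, ⊤)))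
      (fst X Y).left.appTop (snd X Y).left.appTop := by
    refine (QuasiAffine.isPushout_tensor X Y).of_iso (Scheme.ΓSpecIso (CommRingCat.of K)) (Iso.refl _) (Iso.refl _)
      (Iso.refl _) ?_ ?_ (by simp) (by simp) <;>
    · simp only [Iso.refl_hom, Category.comp_id]
      exact (Iso.inv_comp_eq _).mp rfl
  have h' := CommRingCat.isPushout_tensorProduct K Γ(X.left, ⊤) Γ(Y.left, ⊤)
  have e : CommRingCat.ofHom (prodMap X Y).toRingHom = (h'.isoIsPushout _ _ h).hom := by
    apply h'.hom_ext
    · rw [IsPushout.inl_isoIsPushout_hom]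
      refine CommRingCat.hom_ext (RingHom.ext fun a => ?_)
      exact (prodMap_tmul X Y a 1).trans (by rw [map_one, _root_.mul_one]; rfl)
    · rw [IsPushout.inr_isoIsPushout_hom]
      refine CommRingCat.hom_ext (RingHom.ext fun b => ?_)
      exact (prodMap_tmul X Y 1 b).trans (by rw [map_one, _root_.one_mul]; rfl)
  have : IsIso (CommRingCat.ofHom (prodMap X Y).toRingHom) := e ▸ inferInstance
  exact ConcreteCategory.bijective_of_isIso (CommRingCat.ofHom (prodMap X Y).toRingHom)

/-- Coefficients of linearly independent functions vanish. -/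
lemma coeff_eq_of_linearIndependent {V W : Type*} [AddCommGroup V] [Module K V] [AddCommGroup W]
    [Module K W] {J : Type*} [Fintype J] {v : J → V} (hv : LinearIndependent K v) {c c' : J → W}
    (h : ∑ i, v i ⊗ₜ[K] c i = ∑ i, v i ⊗ₜ[K] c' i) : c = c' := by
  classical
  funext l
  let b := Module.Basis.span hv
  obtain ⟨φ, hφ⟩ := LinearMap.exists_extend (b.coord l)
  have hv' : ∀ i, φ (v i) = if i = l then 1 else 0 := fun i => by
    have := LinearMap.congr_fun hφ (b i)
    rw [LinearMap.comp_apply, Submodule.subtype_apply, Module.Basis.coord_apply,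
      Module.Basis.repr_self, Finsupp.single_apply, Module.Basis.span_apply] at this
    exact this
  have := congrArg (fun z => TensorProduct.lid K W (φ.rTensor W z)) h
  simpa [map_sum, hv', ite_smul] using this

variable (G : Over (Spec (CommRingCat.of K))) [GrpObj G] [CompactSpace G.left] [QuasiSeparated G.hom]

/-- A function is a combination of translates: `f (g h) = ∑ a i (g) * b i (h)` with `b` independent. -/
lemma exists_expansion (f : Γ(G.left, ⊤)) :
    ∃ (r : ℕ) (a b : Fin r → Γ(G.left, ⊤)), LinearIndependent K b ∧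
      pull μ[G] f = ∑ i, pull (fst G G) (a i) * pull (snd G G) (b i) := by
  classical
  obtain ⟨z, hz⟩ := (bijective_prodMap G G).2 (pull μ[G] f)
  obtain ⟨s, hs⟩ := TensorProduct.exists_finset z
  let W : Submodule K Γ(G.left, ⊤) := Submodule.span K (s.image Prod.snd)
  have : Module.Finite K W := Module.Finite.span_of_finite K (s.image Prod.snd).finite_toSet
  let b := Module.finBasis K W
  refine ⟨_, fun i => ∑ p ∈ s, (if h : p.2 ∈ W then b.repr ⟨p.2, h⟩ i else 0) • p.1,
    fun i => (b i : Γ(G.left, ⊤)), b.linearIndependent.map' W.subtype W.ker_subtype, ?_⟩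
  rw [← hz, hs]
  simp only [map_sum, prodMap_tmul, Finset.sum_mul, map_smul, smul_mul_assoc]
  rw [Finset.sum_comm]
  refine Finset.sum_congr rfl fun p hp => ?_
  have hm : p.2 ∈ W := Submodule.subset_span (Finset.mem_image_of_mem _ hp)
  simp only [dif_pos hm]
  have h2 := congrArg Subtype.val (b.sum_repr ⟨p.2, hm⟩)
  simp only [Submodule.coe_sum, Submodule.coe_smul] at h2
  conv_lhs => rw [← h2]
  simp only [map_sum, map_smul, Finset.mul_sum, mul_smul_comm]

/-- A function lies in a finite-dimensional representation on functions. -/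
theorem exists_matrix (f : Γ(G.left, ⊤)) :
    ∃ (n : ℕ) (e : Fin n → Γ(G.left, ⊤)) (M : Matrix (Fin n) (Fin n) Γ(G.left, ⊤)) (c : Fin n → K),
      (∀ m, pull μ[G] (e m) = ∑ l, pull (fst G G) (e l) * pull (snd G G) (M l m)) ∧
      f = ∑ m, c m • e m ∧ LinearIndependent K e := by
  classical
  obtain ⟨r, a, b, hb, hf⟩ := exists_expansion G f
  have : CompactSpace (G ⊗ G).left := by
    have : QuasiCompact (fst G G).left := inferInstanceAs (QuasiCompact (pullback.fst G.hom G.hom))
    exact QuasiCompact.compactSpace_of_compactSpace (fst G G).left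
  have : QuasiSeparated (G ⊗ G).hom := by
    rw [← Over.w (fst G G)]
    have : QuasiSeparated (fst G G).left := inferInstanceAs (QuasiSeparated (pullback.fst G.hom G.hom))
    infer_instance
  let W : Submodule K Γ(G.left, ⊤) := Submodule.span K (Set.range a)
  let L : Submodule K Γ((G ⊗ G).left, ⊤) :=
    LinearMap.range ((prodMap G G).toLinearMap ∘ₗ W.subtype.rTensor Γ(G.left, ⊤))
  -- both sides of associativity
  have hL : ∀ i, pull μ[G] (a i) ∈ L := by
    obtain ⟨φ, hφ⟩ : ∃ φ : Fin r → (Γ(G.left, ⊤) →ₗ[K] K), ∀ i j, φ i (b j) = if j = i then 1 else 0 := by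
      let bb := Module.Basis.span hb
      choose φ hφ using fun i => LinearMap.exists_extend (bb.coord i)
      refine ⟨φ, fun i j => ?_⟩
      have := LinearMap.congr_fun (hφ i) (bb j)
      rw [LinearMap.comp_apply, Submodule.subtype_apply, Module.Basis.coord_apply,
        Module.Basis.repr_self, Finsupp.single_apply, Module.Basis.span_apply] at this
      exact this
    choose z hz using fun m => (bijective_prodMap G G).2 (pull μ[G] (b m))
    -- the second bracketing as a tensor
    let T : Fin r → Γ(G.left, ⊤) ⊗[K] Γ(G.left, ⊤) →ₗ[K] Γ((G ⊗ G).left, ⊤) ⊗[K] Γ(G.left, ⊤) := fun m =>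
      TensorProduct.map (LinearMap.mulLeft K (pull (fst G G) (a m)) ∘ₗ (pull (snd G G)).toLinearMap) LinearMap.id
    have key : ∑ i, pull μ[G] (a i) ⊗ₜ[K] b i = ∑ m, T m (z m) := by
      apply (bijective_prodMap (G ⊗ G) G).1
      let t : (G ⊗ G) ⊗ G ⟶ G ⊗ G :=
        lift (fst (G ⊗ G) G ≫ fst G G) (lift (fst (G ⊗ G) G ≫ snd G G) (snd (G ⊗ G) G) ≫ μ[G])
      have hT : ∀ m w, prodMap (G ⊗ G) G (T m w) = pull (fst (G ⊗ G) G ≫ fst G G) (a m) *
          pull (lift (fst (G ⊗ G) G ≫ snd G G) (snd (G ⊗ G) G)) (prodMap G G w) := by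
        intro m w
        induction w using TensorProduct.induction_on with
        | zero => simp only [map_zero, mul_zero]
        | add x y hx hy => simp only [map_add, hx, hy, mul_add]
        | tmul x y =>
          simp only [T, TensorProduct.map_tmul, LinearMap.comp_apply, AlgHom.toLinearMap_apply,
            LinearMap.mulLeft_apply, LinearMap.id_apply, prodMap_tmul, map_mul, pull_pull,
            lift_fst, lift_snd, _root_.mul_assoc]
      rw [map_sum, map_sum]
      simp only [hT, prodMap_tmul, hz, pull_pull]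
      have e1 : pull (μ[G] ▷ G) (pull μ[G] f) =
          ∑ i, pull (fst (G ⊗ G) G ≫ μ[G]) (a i) * pull (snd (G ⊗ G) G) (b i) := by
        rw [hf]
        simp only [map_sum, map_mul, pull_pull, whiskerRight_fst, whiskerRight_snd]
      have e2 : pull t (pull μ[G] f) = ∑ m, pull (fst (G ⊗ G) G ≫ fst G G) (a m) *
          pull (lift (fst (G ⊗ G) G ≫ snd G G) (snd (G ⊗ G) G) ≫ μ[G]) (b m) := by
        rw [hf]
        simp only [t, map_sum, map_mul, pull_pull, lift_fst, lift_snd]
      have et : t ≫ μ[G] = (μ[G] ▷ G) ≫ μ[G] := by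
        rw [MonObj.mul_assoc]
        rw [← Category.assoc]
        congr 1
        refine CartesianMonoidalCategory.hom_ext _ _ (by simp [t]) ?_
        simp only [t, lift_snd, Category.assoc, whiskerLeft_snd]
        rw [← Category.assoc]
        congr 1
        refine CartesianMonoidalCategory.hom_ext _ _ ?_ ?_ <;> simp
      rw [← e1, ← e2, pull_pull, pull_pull, et]
    intro i
    have h := congrArg (fun w => TensorProduct.rid K _ ((φ i).lTensor _ w)) key
    simp only [map_sum, LinearMap.lTensor_tmul, TensorProduct.rid_tmul, hφ, ite_smul, one_smul, zero_smul,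
      Finset.sum_ite_eq', Finset.mem_univ, if_true] at h
    rw [h]
    refine Submodule.sum_mem _ fun m _ => ?_
    generalize z m = w
    induction w using TensorProduct.induction_on with
    | zero => simp only [map_zero, zero_mem]
    | add x y hx hy => simp only [map_add]; exact add_mem hx hy
    | tmul x y =>
      simp only [T, TensorProduct.map_tmul, LinearMap.comp_apply, AlgHom.toLinearMap_apply,
        LinearMap.mulLeft_apply, LinearMap.id_apply, LinearMap.lTensor_tmul, TensorProduct.rid_tmul]
      refine L.smul_mem _ ⟨(⟨a m, Submodule.subset_span ⟨m, rfl⟩⟩ : W) ⊗ₜ x, ?_⟩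
      exact prodMap_tmul G G _ _
  have hW : ∀ w ∈ W, pull μ[G] w ∈ L := fun w hw => by
    induction hw using Submodule.span_induction with
    | mem x hx => obtain ⟨i, rfl⟩ := hx; exact hL i
    | zero => rw [map_zero]; exact L.zero_mem
    | add x y _ _ hx hy => rw [map_add]; exact L.add_mem hx hy
    | smul s x _ hx => rw [map_smul]; exact L.smul_mem s hx
  have : Module.Finite K W := Module.Finite.span_of_finite K (Set.finite_range a)
  let e := Module.finBasis K W
  have hex : ∀ m, ∃ M : Fin (Module.finrank K W) → Γ(G.left, ⊤), pull μ[G] (e m : Γ(G.left, ⊤)) =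
      ∑ l, pull (fst G G) (e l : Γ(G.left, ⊤)) * pull (snd G G) (M l) := fun m => by
    obtain ⟨w, hw⟩ := hW _ (e m).2
    obtain ⟨c, rfl⟩ := TensorProduct.eq_repr_basis_left e w
    refine ⟨fun l => c l, hw.symm.trans ?_⟩
    rw [Finsupp.sum_fintype _ _ (fun _ => TensorProduct.tmul_zero _ _), map_sum]
    exact Finset.sum_congr rfl fun x _ => prodMap_tmul G G _ _
  choose M hM using hex
  have hfW : f ∈ W := by
    have h := congrArg (pull (lift (𝟙 G) (1 : G ⟶ G))) hf
    have e1 : lift (𝟙 G) (1 : G ⟶ G) ≫ μ[G] = 𝟙 G := by rw [← Hom.mul_def, _root_.mul_one]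
    simp only [map_sum, map_mul, pull_pull, e1, lift_fst, lift_snd] at h
    rw [show pull (𝟙 G) f = f from by simp [pull_apply]] at h
    rw [h]
    refine Submodule.sum_mem _ fun i _ => ?_
    rw [show pull (𝟙 G) (a i) = a i from by simp [pull_apply]]
    have hcst : ∃ c : K, pull (1 : G ⟶ G) (b i) = algebraMap K _ c := by
      rw [Hom.one_def, ← pull_pull]
      obtain ⟨c, hc⟩ := (ConcreteCategory.bijective_of_isIso
        (Scheme.ΓSpecIso (CommRingCat.of K)).inv).2 (pull η[G] (b i))
      exact ⟨c, by rw [← hc, pull_apply]; rfl⟩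
    obtain ⟨c, hc⟩ := hcst
    rw [hc, mul_comm, ← Algebra.smul_def]
    exact W.smul_mem _ (Submodule.subset_span ⟨i, rfl⟩)
  refine ⟨_, fun m => (e m : Γ(G.left, ⊤)), fun l m => M m l, fun m => e.repr ⟨f, hfW⟩ m, hM, ?_,
    e.linearIndependent.map' W.subtype W.ker_subtype⟩
  have h2 := congrArg Subtype.val (e.sum_repr ⟨f, hfW⟩)
  simp only [Submodule.coe_sum, Submodule.coe_smul] at h2
  exact h2.symm

end Groth.Agent.GrpScheme.RegularRep
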