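import Mathlib

/-!
# Equalizer with a projection for morphisms stabilising every open
-/

set_option autoImplicit false

universe u

open CategoryTheory AlgebraicGeometry Limits

namespace Groth.Agent.GrpScheme.StableEq

variable {S : Scheme.{u}} [IsSeparated (terminal.from S)]

/-- If `f` maps `g⁻¹ U` into `U` for every open `U`, the equalizer of `f` and `g` is a closed
immersion, with no separatedness assumption. -/
lemma isClosedImmersion_equalizer {P X : Over S} (f g : P ⟶ X)
    (h : ∀ U : X.left.Opens, g.left ⁻¹ᵁ U ≤ f.left ⁻¹ᵁ U) :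
    IsClosedImmersion (equalizer.ι f g).left := by
  have : IsImmersion (equalizer.ι f g).left := by
    refine MorphismProperty.of_isPullback
      ((Limits.isPullback_equalizer_prod f g).map (Over.forget _)).flip ?_
    have e : (prod.lift (𝟙 X) (𝟙 X)).left =
        pullback.diagonal X.hom ≫ (Over.prodLeftIsoPullback X X).inv := by
      rw [Iso.eq_comp_inv]
      ext1 <;> simp [← Over.comp_left]
      · rw [prod.lift_fst]; rfl
      · rw [prod.lift_snd]; rfl
    change IsImmersion (prod.lift (𝟙 X) (𝟙 X)).left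
    rw [e]
    exact IsImmersion.comp _ _
  refine .of_isPreimmersion _ (isOpen_compl_iff.mp (isOpen_iff_forall_mem_open.mpr fun p hp => ?_))
  obtain ⟨_, ⟨(U : X.left.Opens), hU, rfl⟩, hpU, -⟩ := X.left.isBasis_affineOpens.exists_subset_of_mem_open
    (Set.mem_univ (g.left p)) isOpen_univ
  let O : P.left.Opens := g.left ⁻¹ᵁ U
  let O' : Over S := Over.mk (O.ι ≫ P.hom)
  let U' : Over S := Over.mk (U.ι ≫ X.hom)
  let j : U' ⟶ X := Over.homMk U.ι rfl
  have hf : Set.range (O.ι ≫ f.left) ⊆ Set.range U.ι := by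
    rintro _ ⟨w, rfl⟩
    rw [Scheme.Opens.range_ι]
    exact h U w.2
  have hg : Set.range (O.ι ≫ g.left) ⊆ Set.range U.ι := by
    rintro _ ⟨w, rfl⟩
    rw [Scheme.Opens.range_ι]
    exact w.2
  let o : O' ⟶ P := Over.homMk O.ι rfl
  let f' : O' ⟶ U' := Over.homMk (IsOpenImmersion.lift U.ι _ hf) (by
    show _ ≫ U.ι ≫ X.hom = O.ι ≫ P.hom
    rw [IsOpenImmersion.lift_fac_assoc, Category.assoc, Over.w])
  let g' : O' ⟶ U' := Over.homMk (IsOpenImmersion.lift U.ι _ hg) (by
    show _ ≫ U.ι ≫ X.hom = O.ι ≫ P.hom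
    rw [IsOpenImmersion.lift_fac_assoc, Category.assoc, Over.w])
  have ef : f' ≫ j = o ≫ f := Over.OverMorphism.ext (IsOpenImmersion.lift_fac _ _ hf)
  have eg : g' ≫ j = o ≫ g := Over.OverMorphism.ext (IsOpenImmersion.lift_fac _ _ hg)
  have : IsAffine U := hU
  have : IsSeparated (U'.hom ≫ terminal.from S) := by
    rw [show U'.hom ≫ terminal.from S = terminal.from (U : Scheme.{u}) from Subsingleton.elim _ _]
    have : IsAffineHom (terminal.from (U : Scheme.{u})) := isAffineHom_of_isAffine _
    infer_instance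
  have : IsSeparated U'.hom := IsSeparated.of_comp U'.hom (terminal.from S)
  have hcl := (equalizer.ι f' g').left.isClosedEmbedding.isClosed_range
  have key : ∀ w : O, w ∈ Set.range (equalizer.ι f' g').left ↔
      O.ι w ∈ Set.range (equalizer.ι f g).left := by
    intro w
    constructor
    · rintro ⟨t, rfl⟩
      let l := equalizer.lift (f := f) (g := g) (equalizer.ι f' g' ≫ o) (by
        rw [Category.assoc, Category.assoc, ← ef, ← eg, equalizer.condition_assoc])
      exact ⟨l.left t, congr(($(equalizer.lift_ι (equalizer.ι f' g' ≫ o) _)).left t)⟩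
    · rintro ⟨t, ht⟩
      let V : (equalizer f g).left.Opens := (equalizer.ι f g).left ⁻¹ᵁ O
      have hV : Set.range (V.ι ≫ (equalizer.ι f g).left) ⊆ Set.range O.ι := by
        rintro _ ⟨v, rfl⟩
        rw [Scheme.Opens.range_ι]
        exact v.2
      let V' : Over S := Over.mk (V.ι ≫ (equalizer f g).hom)
      let v : V' ⟶ equalizer f g := Over.homMk V.ι rfl
      let a : V' ⟶ O' := Over.homMk (IsOpenImmersion.lift O.ι _ hV) (by
        show _ ≫ O.ι ≫ P.hom = V.ι ≫ (equalizer f g).hom
        rw [IsOpenImmersion.lift_fac_assoc, Category.assoc, Over.w])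
      have ea : a ≫ o = v ≫ equalizer.ι f g :=
        Over.OverMorphism.ext (IsOpenImmersion.lift_fac _ _ hV)
      have : Mono j := Over.mono_of_mono_left _
      let l := equalizer.lift (f := f') (g := g') a (by
        rw [← cancel_mono j, Category.assoc, Category.assoc, ef, eg, reassoc_of% ea, reassoc_of% ea,
          equalizer.condition])
      have htV : t ∈ V := by
        show (equalizer.ι f g).left t ∈ O
        rw [ht]; exact w.2
      refine ⟨l.left ⟨t, htV⟩, O.ι.isOpenEmbedding.injective ?_⟩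
      have := congr(($ea).left ⟨t, htV⟩)
      have hla : l ≫ equalizer.ι f' g' = a := equalizer.lift_ι _ _
      have h2 : (equalizer.ι f' g').left (l.left ⟨t, htV⟩) = a.left ⟨t, htV⟩ :=
        congr(($hla).left ⟨t, htV⟩)
      rw [h2]
      exact this.trans ht
  refine ⟨O.ι '' (Set.range (equalizer.ι f' g').left)ᶜ, ?_, O.ι.isOpenEmbedding.isOpenMap _ hcl.isOpen_compl,
    ⟨⟨p, hpU⟩, fun hm => hp ((key ⟨p, hpU⟩).mp hm), rfl⟩⟩
  rintro _ ⟨w, hw, rfl⟩ hmem
  exact hw ((key w).mpr hmem)

end Groth.Agent.GrpScheme.StableEq
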